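import Cfsg.Agent.H63.ModCert.Words

/-! Certificate P5L1 (computed offline). -/

set_option autoImplicit false

namespace H63.ModCert.P5L1

/-- certificate data -/
def data : Data where
  n := 10
  p := 5
  N := 30
  gens := [[(0, 1), (1, 2)],
    [(2, 3), (3, 8)],
    [(4, 5), (5, 6)],
    [(6, 7), (7, 9)],
    [(0, 1), (2, 3)],
    [(4, 5), (5, 6), (6, 7), (7, 9)],
    [(5, 9), (6, 7)],
    [(0, 1), (1, 2), (4, 5), (5, 6)],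
    [(2, 3), (3, 8), (6, 7), (7, 9)],
    [(0, 1), (1, 2), (4, 6), (6, 5)]]
  xgens := [(0, 1), (4, 1), (5, 1), (6, 4)]
  xs := [[([], 1, 0, 0),
     ([(0, 1), (1, 2)], 1, 0, 0),
     ([(0, 1), (2, 3)], 1, 1, 0),
     ([(4, 5), (5, 6), (6, 7), (7, 9)], 1, 2, 0),
     ([(5, 9), (6, 7)], 4, 3, 0),
     ([(1, 3), (3, 2)], 1, 1, 1),
     ([(0, 1), (1, 2), (4, 5), (5, 6), (6, 7), (7, 9)], 1, 2, 1),
     ([(0, 1), (1, 2), (5, 9), (6, 7)], 4, 3, 1),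
     ([(0, 2), (2, 3)], 1, 0, 2),
     ([(4, 6), (6, 9), (9, 5), (5, 7)], 1, 2, 3),
     ([(4, 5), (6, 9)], 4, 2, 4),
     ([(0, 1), (1, 3)], 1, 0, 5),
     ([(0, 1), (1, 2), (4, 5), (6, 9)], 4, 2, 7),
     ([(1, 2), (2, 3)], 1, 0, 8),
     ([(4, 7), (7, 5), (5, 9), (9, 6)], 1, 2, 9),
     ([(4, 7), (5, 6)], 4, 3, 9),
     ([(4, 9), (9, 7), (7, 6), (6, 5)], 1, 3, 10),
     ([(0, 1), (1, 3), (4, 5), (5, 6), (6, 7), (7, 9)], 1, 2, 11),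
     ([(0, 1), (1, 3), (5, 9), (6, 7)], 4, 3, 11),
     ([(0, 1), (1, 2), (4, 9), (9, 7), (7, 6), (6, 5)], 1, 3, 12),
     ([(1, 2), (2, 3), (4, 5), (5, 6), (6, 7), (7, 9)], 1, 2, 13),
     ([(1, 2), (2, 3), (5, 9), (6, 7)], 4, 3, 13),
     ([(0, 1), (1, 3), (4, 6), (6, 9), (9, 5), (5, 7)], 1, 2, 17),
     ([(0, 1), (1, 3), (4, 5), (6, 9)], 4, 2, 18),
     ([(1, 2), (2, 3), (4, 6), (6, 9), (9, 5), (5, 7)], 1, 2, 20),
     ([(1, 2), (2, 3), (4, 5), (6, 9)], 4, 2, 21),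
     ([(0, 1), (1, 3), (4, 7), (7, 5), (5, 9), (9, 6)], 1, 2, 22),
     ([(0, 1), (1, 3), (4, 7), (5, 6)], 4, 3, 22),
     ([(0, 1), (1, 3), (4, 9), (9, 7), (7, 6), (6, 5)], 1, 3, 23),
     ([(1, 2), (2, 3), (4, 7), (7, 5), (5, 9), (9, 6)], 1, 2, 24),
     ([(1, 2), (2, 3), (4, 9), (9, 7), (7, 6), (6, 5)], 1, 3, 25)]]
  nX := 31
  reps := [[[],
     [(2, 3), (3, 8)],
     [(0, 1), (1, 2), (2, 3), (3, 8)],
     [(2, 8), (8, 3)],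
     [(0, 2), (2, 3), (3, 8), (8, 1)],
     [(4, 5), (5, 6)],
     [(2, 3), (3, 8), (4, 5), (5, 6)],
     [(0, 1), (1, 2), (2, 3), (3, 8), (4, 5), (5, 6)],
     [(0, 2), (2, 3), (3, 8), (8, 1), (4, 5), (5, 6)],
     [(2, 8), (8, 3), (4, 5), (5, 6)],
     [(6, 7), (7, 9)],
     [(2, 3), (3, 8), (6, 7), (7, 9)],
     [(2, 8), (8, 3), (6, 7), (7, 9)],
     [(0, 1), (1, 2), (2, 3), (3, 8), (4, 6), (6, 5)],
     [(0, 2), (2, 3), (3, 8), (8, 1), (4, 6), (6, 5)],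
     [(4, 5), (5, 7), (7, 9), (9, 6)],
     [(2, 3), (3, 8), (4, 5), (5, 7), (7, 9), (9, 6)],
     [(2, 8), (8, 3), (4, 5), (5, 7), (7, 9), (9, 6)],
     [(0, 1), (1, 2), (2, 3), (3, 8), (4, 5), (5, 7), (7, 9), (9, 6)],
     [(0, 2), (2, 3), (3, 8), (8, 1), (4, 5), (5, 7), (7, 9), (9, 6)],
     [(6, 9), (9, 7)],
     [(2, 3), (3, 8), (6, 9), (9, 7)],
     [(2, 8), (8, 3), (6, 9), (9, 7)],
     [(0, 1), (1, 2), (2, 3), (3, 8), (4, 7), (7, 9), (9, 6), (6, 5)],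
     [(0, 2), (2, 3), (3, 8), (8, 1), (4, 7), (7, 9), (9, 6), (6, 5)],
     [(4, 6), (6, 5), (5, 7), (7, 9)],
     [(2, 3), (3, 8), (4, 6), (6, 5), (5, 7), (7, 9)],
     [(0, 1), (1, 2), (2, 3), (3, 8), (4, 6), (6, 5), (5, 7), (7, 9)],
     [(2, 8), (8, 3), (4, 5), (5, 9), (9, 7), (7, 6)],
     [(0, 2), (2, 3), (3, 8), (8, 1), (4, 6), (6, 5), (5, 7), (7, 9)]]]
  Ks := [[(0, 1), (1, 1)], [(7, 1), (8, 1)], [(9, 1), (8, 1)]]
  steps := [[([(0, 1), (1, 1), (2, 1), (3, 1), (4, 1)], .kill 0 [([], [(0, 1), (2, 0), (4, 0), (3, 11), (1, 0)]), ([], [(1, 0), (3, 0), (2, 13), (0, 0), (4, 8)])]),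
     ([(5, 1), (6, 1), (7, 1), (8, 1), (9, 1)], .tr 0 2 [(5, 0), (6, 0), (7, 0), (9, 0), (8, 0)]),
     ([(10, 1), (11, 1), (12, 1), (13, 1), (14, 1)], .tr 0 3 [(10, 0), (11, 0), (13, 3), (12, 0), (14, 3)]),
     ([(15, 1), (16, 1), (17, 1), (18, 1), (19, 1)], .tr 1 3 [(15, 0), (16, 0), (18, 0), (19, 0), (17, 0)]),
     ([(20, 1), (21, 1), (22, 1), (23, 1), (24, 1)], .tr 2 3 [(20, 0), (21, 0), (22, 0), (23, 0), (24, 0)]),
     ([(25, 1), (26, 1), (27, 1), (28, 1), (29, 1)], .tr 3 2 [(25, 0), (26, 0), (28, 14), (27, 0), (29, 0)]),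
     ([(0, 2), (1, 4), (5, 4), (10, 3), (11, 2), (2, 1), (3, 3), (6, 2), (7, 1), (12, 4), (13, 1), (15, 2), (25, 4), (16, 1), (20, 4), (21, 3), (22, 2), (8, 3), (26, 2), (17, 4), (18, 3), (27, 3), (23, 1), (28, 1)], .kill 1 [([(0, 1), (1, 3), (2, 1), (3, 4), (4, 2), (5, 3)], [(5, 1), (7, 0), (10, 19), (0, 6), (2, 3), (8, 0), (9, 11), (13, 0), (14, 0), (3, 17), (4, 0), (25, 1), (20, 7), (27, 0), (15, 7), (18, 4), (17, 18), (11, 16), (23, 10), (28, 26), (29, 0), (24, 10), (19, 10), (22, 27)]), ([(1, 2), (3, 3)], [(11, 0), (12, 0), (16, 0), (21, 0), (22, 0), (13, 20), (10, 0), (17, 0), (18, 13), (20, 0), (23, 13), (26, 9), (6, 14), (28, 0), (1, 0), (3, 0), (0, 0), (19, 8), (9, 14), (25, 9), (27, 24), (7, 29), (2, 30), (5, 0)])]),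
     ([(0, 2), (5, 4), (10, 3), (2, 4), (3, 3), (6, 3), (7, 2), (12, 4), (13, 2), (15, 2), (25, 4), (20, 4), (22, 2), (4, 1), (8, 1), (14, 1), (17, 4), (18, 1), (27, 2), (23, 3), (28, 1), (19, 3), (29, 3), (24, 1)], .tr 6 0 [(0, 1), (2, 0), (5, 1), (10, 1), (13, 3), (4, 0), (3, 11), (7, 0), (8, 0), (12, 11), (14, 0), (15, 1), (25, 1), (18, 0), (20, 1), (23, 3), (22, 11), (6, 0), (27, 0), (17, 11), (19, 0), (29, 0), (24, 0), (28, 11)]),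
     ([(0, 3), (1, 2), (10, 4), (11, 3), (2, 1), (3, 4), (6, 4), (7, 1), (12, 2), (13, 1), (15, 4), (25, 1), (16, 2), (20, 2), (21, 4), (22, 3), (8, 3), (9, 2), (26, 4), (17, 1), (18, 3), (27, 3), (23, 1), (28, 2)], .tr 6 1 [(1, 0), (3, 0), (6, 0), (11, 0), (12, 0), (2, 13), (0, 0), (9, 0), (7, 13), (10, 0), (13, 13), (16, 0), (26, 0), (17, 0), (21, 0), (22, 0), (20, 0), (8, 8), (28, 14), (15, 0), (18, 13), (27, 13), (23, 13), (25, 9)]),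
     ([(0, 3), (1, 2), (5, 2), (10, 4), (11, 2), (2, 1), (3, 4), (6, 4), (7, 1), (13, 1), (15, 1), (25, 2), (16, 2), (20, 1), (21, 3), (22, 4), (14, 3), (9, 3), (26, 1), (17, 3), (18, 4), (27, 3), (23, 2), (28, 4)], .tr 6 2 [(5, 0), (6, 0), (10, 16), (0, 3), (1, 3), (7, 0), (9, 0), (11, 16), (13, 0), (3, 3), (2, 0), (25, 0), (20, 4), (26, 0), (15, 4), (16, 4), (17, 4), (14, 0), (21, 4), (28, 14), (27, 0), (23, 10), (18, 10), (22, 15)]),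
     ([(0, 4), (1, 3), (5, 4), (10, 2), (11, 4), (2, 1), (3, 2), (6, 2), (7, 3), (12, 3), (13, 1), (15, 4), (25, 2), (16, 2), (20, 3), (21, 2), (22, 4), (9, 1), (26, 1), (18, 1), (27, 3), (23, 1), (28, 4), (19, 3)], .tr 6 3 [(10, 0), (11, 0), (15, 0), (20, 0), (21, 0), (13, 3), (12, 0), (16, 0), (18, 0), (22, 0), (23, 0), (25, 9), (5, 14), (26, 9), (0, 0), (1, 0), (3, 0), (19, 0), (6, 14), (28, 0), (27, 9), (7, 14), (2, 16), (9, 0)]),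
     ([(0, 3), (1, 2), (10, 4), (11, 3), (2, 4), (6, 4), (7, 2), (13, 2), (15, 4), (25, 1), (16, 2), (20, 2), (21, 4), (4, 1), (8, 1), (14, 1), (9, 3), (26, 4), (18, 1), (27, 2), (23, 3), (19, 3), (29, 3), (24, 1)], .tr 7 1 [(1, 0), (6, 0), (11, 0), (2, 13), (0, 0), (9, 0), (7, 13), (10, 0), (13, 13), (16, 0), (26, 0), (21, 0), (20, 0), (4, 8), (8, 8), (14, 8), (15, 0), (18, 13), (27, 13), (23, 13), (25, 9), (19, 8), (29, 8), (24, 8)]),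
     ([(0, 4), (5, 4), (10, 2), (2, 3), (3, 2), (7, 2), (12, 3), (13, 4), (15, 4), (25, 2), (16, 3), (20, 3), (22, 4), (4, 1), (8, 3), (14, 1), (9, 1), (18, 2), (27, 1), (23, 2), (28, 4), (19, 1), (29, 3), (24, 1)], .tr 7 3 [(10, 0), (15, 0), (20, 0), (13, 3), (12, 0), (16, 0), (18, 0), (22, 0), (23, 0), (25, 9), (5, 14), (0, 0), (3, 0), (14, 3), (19, 0), (24, 0), (28, 0), (27, 9), (7, 14), (2, 16), (9, 0), (29, 9), (8, 14), (4, 16)]),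
     ([(0, 3), (10, 4), (2, 2), (3, 4), (6, 3), (7, 4), (12, 2), (13, 3), (15, 4), (25, 1), (20, 2), (22, 3), (4, 1), (8, 1), (14, 1), (9, 2), (17, 1), (18, 2), (27, 4), (23, 4), (28, 2), (19, 3), (29, 3), (24, 1)], .tr 8 0 [(0, 1), (2, 0), (10, 1), (13, 3), (4, 0), (3, 11), (7, 0), (8, 0), (12, 11), (14, 0), (15, 1), (25, 1), (18, 0), (20, 1), (23, 3), (22, 11), (6, 0), (9, 11), (27, 0), (17, 11), (19, 0), (29, 0), (24, 0), (28, 11)]),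
     ([(0, 4), (1, 3), (5, 3), (11, 4), (2, 1), (3, 2), (6, 2), (7, 1), (12, 2), (13, 1), (15, 3), (25, 4), (16, 1), (20, 4), (21, 1), (22, 3), (14, 3), (9, 4), (26, 2), (17, 2), (18, 4), (27, 3), (23, 2), (28, 1)], .tr 8 2 [(5, 0), (6, 0), (0, 3), (1, 3), (7, 0), (9, 0), (11, 16), (13, 0), (3, 3), (2, 0), (25, 0), (20, 4), (26, 0), (15, 4), (16, 4), (17, 4), (14, 0), (12, 16), (21, 4), (28, 14), (27, 0), (23, 10), (18, 10), (22, 15)]),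
     ([(0, 3), (1, 1), (5, 4), (11, 2), (2, 3), (3, 3), (6, 2), (7, 4), (13, 3), (20, 4), (22, 1)], .kill 2 [([(0, 4), (1, 3), (2, 1), (3, 4), (6, 4), (7, 3), (8, 3), (11, 3), (12, 2), (13, 2), (14, 4)], [(10, 19), (13, 0), (0, 1), (7, 3), (14, 0), (12, 28), (2, 0), (4, 0), (8, 0), (25, 7), (28, 27)]), ([(0, 2), (4, 2), (5, 1), (6, 1), (7, 4), (9, 4), (11, 2), (12, 2)], [(11, 0), (12, 0), (16, 0), (22, 0), (13, 20), (10, 0), (17, 0), (18, 13), (23, 13), (1, 0), (0, 0)])]),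
     ([(0, 3), (5, 4), (2, 1), (3, 3), (7, 2), (13, 2), (20, 4), (22, 1), (4, 3), (8, 4), (14, 3)], .tr 15 0 [(0, 1), (2, 0), (5, 1), (13, 3), (4, 0), (3, 11), (7, 0), (8, 0), (14, 0), (20, 1), (22, 11)]),
     ([(0, 3), (1, 3), (2, 3), (3, 1), (6, 4), (7, 4), (12, 2), (13, 3), (20, 1), (21, 4), (9, 2)], .tr 15 1 [(1, 0), (3, 0), (6, 0), (12, 0), (2, 13), (0, 0), (9, 0), (7, 13), (13, 13), (21, 0), (20, 0)]),
     ([(0, 4), (10, 3), (11, 1), (3, 1), (12, 3), (13, 3), (15, 4), (16, 2), (21, 2), (18, 4), (23, 3)], .tr 15 3 [(10, 0), (11, 0), (15, 0), (21, 0), (13, 3), (12, 0), (16, 0), (18, 0), (23, 0), (0, 0), (3, 0)]),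
     ([(0, 3), (1, 3), (5, 4), (11, 3), (3, 3), (6, 4), (20, 4), (22, 1), (4, 1), (8, 2), (14, 2)], .tr 16 0 [(0, 1), (5, 1), (4, 0), (3, 11), (8, 0), (14, 0), (20, 1), (22, 11), (1, 0), (6, 0), (11, 16)]),
     ([(0, 3), (1, 3), (2, 1), (6, 4), (7, 2), (13, 2), (20, 1), (21, 4), (4, 3), (8, 4), (14, 3)], .tr 16 1 [(1, 0), (6, 0), (2, 13), (0, 0), (7, 13), (13, 13), (21, 0), (20, 0), (4, 8), (8, 8), (14, 8)]),
     ([(0, 4), (10, 3), (3, 1), (12, 3), (13, 1), (15, 4), (14, 3), (18, 2), (23, 2), (19, 4), (24, 3)], .tr 16 3 [(10, 0), (15, 0), (13, 3), (12, 0), (18, 0), (23, 0), (0, 0), (3, 0), (14, 3), (19, 0), (24, 0)]),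
     ([(0, 3), (2, 3), (3, 1), (7, 4), (12, 2), (20, 1), (4, 3), (8, 4), (14, 3), (9, 2), (23, 4)], .tr 17 0 [(0, 1), (2, 0), (4, 0), (3, 11), (7, 0), (8, 0), (12, 11), (14, 0), (20, 1), (23, 3), (9, 11)]),
     ([(0, 3), (1, 3), (3, 3), (6, 4), (12, 3), (20, 1), (21, 4), (4, 1), (8, 2), (14, 2), (9, 4)], .tr 19 1 [(1, 0), (3, 0), (6, 0), (12, 0), (0, 0), (9, 0), (21, 0), (20, 0), (4, 8), (8, 8), (14, 8)]),
     ([(0, 1)], .kill 0 [([], [(0, 1)]), ([(0, 1), (1, 4), (2, 3), (3, 2), (4, 2), (7, 2), (8, 1), (9, 4), (10, 4), (11, 1), (12, 4), (13, 3), (14, 2), (16, 4), (17, 4), (18, 2), (19, 4), (20, 4), (21, 1), (22, 1), (23, 3)], [(1, 0)])])]]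
  nSteps := 25
  fin := [(24, 1)]

theorem ks_eq : data.killed = [Words.a5A5, Words.a5D, Words.a5Dodd] := by decide +kernel

theorem xgens_eq : data.fixedBy = Words.eigA4Neg := by decide +kernel

theorem checked : data.checked data.eqv1 = true := by decide +kernel

end H63.ModCert.P5L1
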