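import Cfsg.Agent.H63.ModCert.Words

/-! Certificate P5L2 (computed offline). -/

set_option autoImplicit false

namespace H63.ModCert.P5L2

/-- certificate data -/
def data : Data where
  n := 10
  p := 5
  N := 36
  gens := [[(4, 5), (5, 6)],
    [(5, 6), (6, 7), (7, 8), (8, 9)],
    [(0, 1), (1, 2)],
    [(0, 1), (2, 3)],
    [(4, 5), (5, 6), (6, 7), (7, 9)],
    [(5, 9), (6, 7)],
    [(6, 7), (7, 8)],
    [(4, 5), (5, 6), (6, 7), (7, 8)],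
    [(4, 9), (5, 8)]]
  xgens := [(2, 1), (3, 1), (4, 1), (5, 1)]
  xs := [[([], 1, 0, 0),
     ([(0, 1), (1, 2)], 1, 0, 0),
     ([(0, 1), (2, 3)], 1, 1, 0),
     ([(4, 5), (5, 6), (6, 7), (7, 9)], 1, 2, 0),
     ([(5, 9), (6, 7)], 1, 3, 0),
     ([(4, 6), (6, 9), (9, 5), (5, 7)], 1, 2, 3),
     ([(4, 9), (5, 7)], 1, 3, 3),
     ([(4, 5), (6, 9)], 1, 2, 4),
     ([(4, 7), (7, 5), (5, 9), (9, 6)], 1, 2, 5),
     ([(4, 7), (5, 6)], 1, 3, 5),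
     ([(4, 6), (7, 9)], 1, 2, 7),
     ([(4, 9), (9, 7), (7, 6), (6, 5)], 1, 3, 7)]]
  nX := 12
  reps := [[[],
     [(5, 6), (6, 7), (7, 8), (8, 9)],
     [(4, 6), (5, 7), (7, 8), (8, 9)],
     [(4, 5), (6, 7), (7, 8), (8, 9)],
     [(4, 5), (5, 7), (6, 8), (8, 9)],
     [(4, 8), (8, 9), (5, 6), (6, 7)],
     [(4, 7), (7, 8), (8, 9), (9, 5)],
     [(4, 9), (5, 8)],
     [(4, 8), (8, 5), (5, 6), (6, 9)],
     [(5, 7), (7, 9), (9, 6), (6, 8)],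
     [(4, 6), (6, 9), (5, 7), (7, 8)],
     [(4, 6), (6, 8), (8, 5), (5, 7)],
     [(4, 7), (5, 8)],
     [(6, 7), (7, 8)],
     [(4, 5), (5, 7), (7, 8), (8, 6)],
     [(4, 5), (5, 9), (6, 7), (7, 8)],
     [(4, 9), (9, 5), (6, 7), (7, 8)],
     [(4, 7), (7, 8), (8, 6), (6, 5)],
     [(4, 8), (8, 6), (6, 9), (9, 5)],
     [(4, 5), (5, 6), (6, 7), (7, 8)],
     [(4, 6), (6, 5), (5, 7), (7, 8)],
     [(4, 5), (5, 7), (7, 8), (6, 9)],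
     [(4, 9), (9, 5), (5, 7), (7, 8)],
     [(4, 5), (5, 7), (7, 6), (6, 8)],
     [(4, 7), (7, 6), (6, 5), (5, 8)],
     [(5, 6), (6, 8), (8, 7), (7, 9)],
     [(4, 5), (5, 6), (6, 9), (7, 8)],
     [(5, 9), (7, 8)],
     [(4, 5), (5, 6), (6, 8), (8, 7)],
     [(4, 6), (6, 5), (5, 9), (7, 8)],
     [(4, 6), (6, 9), (9, 5), (7, 8)],
     [(4, 5), (5, 6)]],
    [[(4, 6), (6, 5)],
     [(4, 6), (6, 5), (5, 7), (7, 9)],
     [(4, 7), (7, 9)],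
     [(5, 7), (7, 9)]]]
  Ks := [[(0, 1), (6, 1)], [(7, 1), (8, 1)], [(2, 1), (3, 1), (4, 1), (5, 4)]]
  steps := [[([(1, 1), (2, 1), (3, 1), (4, 1), (5, 1), (6, 1)], .kill 0 [([], [(3, 0), (6, 7), (4, 11), (1, 3), (2, 9), (5, 5)]), ([], [(3, 3), (4, 3), (5, 8), (6, 6), (1, 3), (2, 9)])]),
     ([(7, 1), (8, 1), (9, 1), (10, 1), (11, 1), (12, 1)], .tr 0 1 [(9, 0), (11, 3), (10, 4), (7, 10), (12, 11), (8, 4)]),
     ([(13, 1), (14, 1), (15, 1), (16, 1), (17, 1), (18, 1)], .tr 1 0 [(14, 6), (18, 0), (13, 3), (17, 7), (16, 3), (15, 5)]),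
     ([(19, 1), (20, 1), (21, 1), (22, 1), (23, 1), (24, 1)], .tr 2 0 [(19, 0), (20, 0), (24, 8), (23, 11), (21, 7), (22, 8)]),
     ([(25, 1), (26, 1), (27, 1), (28, 1), (29, 1), (30, 1)], .tr 2 1 [(25, 0), (28, 3), (30, 4), (26, 4), (29, 8), (27, 7)]),
     ([(0, 1), (31, 1), (32, 1), (33, 1), (34, 1), (35, 1)], .tr 4 1 [(31, 5), (33, 0), (32, 3), (0, 5), (34, 0), (35, 7)]),
     ([(13, 1), (28, 1), (10, 1), (6, 1), (35, 1), (24, 1)], .kill 1 [([], [(28, 0), (35, 10), (13, 5), (6, 8), (24, 10), (10, 8)]), ([], [(13, 6), (28, 10), (35, 10), (24, 4), (10, 10), (6, 4)])]),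
     ([(19, 1), (5, 1), (34, 1), (17, 1), (29, 1), (12, 1)], .tr 6 0 [(19, 0), (29, 4), (17, 7), (5, 5), (34, 7), (12, 0)]),
     ([(0, 1), (20, 1), (8, 1), (4, 1), (25, 1), (16, 1)], .tr 6 1 [(25, 0), (0, 5), (16, 5), (8, 4), (4, 9), (20, 8)]),
     ([(2, 1), (33, 1), (9, 1), (21, 1), (27, 1), (15, 1)], .tr 7 0 [(9, 11), (2, 9), (33, 7), (21, 7), (27, 0), (15, 5)]),
     ([(31, 1), (1, 1), (7, 1), (26, 1), (23, 1), (18, 1)], .tr 8 0 [(31, 0), (7, 6), (18, 0), (1, 3), (26, 4), (23, 11)]),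
     ([(1, 1), (7, 4), (21, 1), (28, 1), (11, 1), (5, 4), (15, 4), (17, 1), (24, 4), (30, 4)], .kill 2 [([], [(1, 1), (7, 1), (21, 1), (28, 1), (11, 1), (5, 1), (15, 1), (17, 1), (24, 1), (30, 1)]), ([], [(1, 2), (7, 2), (21, 2), (28, 2), (11, 2), (5, 2), (15, 2), (17, 2), (24, 2), (30, 2)]), ([], [(21, 0), (15, 6), (11, 4), (1, 3), (17, 4), (24, 7), (30, 0), (28, 11), (7, 0), (5, 5)]), ([], [(7, 6), (1, 6), (24, 6), (15, 3), (5, 10), (11, 10), (28, 11), (30, 0), (21, 6), (17, 0)])]),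
     ([(2, 4), (14, 4), (3, 1), (21, 1), (25, 4), (10, 1), (16, 1), (29, 1), (24, 4), (12, 4)], .tr 11 0 [(3, 0), (14, 6), (10, 0), (29, 4), (16, 3), (2, 9), (24, 8), (21, 7), (12, 0), (25, 4)]),
     ([(0, 1), (13, 1), (20, 4), (9, 1), (22, 1), (15, 4), (35, 4), (29, 1), (12, 4), (30, 4)], .tr 11 1 [(9, 0), (15, 0), (22, 5), (0, 5), (13, 5), (12, 11), (30, 4), (29, 8), (20, 8), (35, 7)]),
     ([(20, 4), (4, 1), (26, 4), (27, 1), (10, 1), (23, 1), (15, 4), (6, 4), (17, 1), (12, 4)], .tr 12 0 [(6, 7), (20, 0), (4, 11), (10, 0), (26, 4), (17, 7), (23, 11), (27, 0), (12, 0), (15, 5)]),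
     ([(31, 4), (20, 4), (26, 1), (28, 4), (10, 1), (22, 1), (11, 4), (16, 1), (34, 1), (17, 4)], .tr 12 1 [(11, 3), (28, 3), (10, 4), (22, 5), (31, 5), (16, 5), (26, 4), (34, 0), (20, 8), (17, 8)]),
     ([(31, 1), (13, 1), (19, 1), (7, 4), (8, 1), (25, 4), (27, 1), (15, 4), (34, 4), (24, 4)], .tr 13 0 [(31, 0), (19, 0), (7, 6), (13, 3), (8, 5), (24, 8), (34, 7), (27, 0), (15, 5), (25, 4)]),
     ([(1, 1), (14, 1), (4, 4), (25, 1), (23, 4), (34, 1), (17, 4), (35, 4), (24, 1), (30, 4)], .tr 13 1 [(1, 0), (25, 0), (23, 3), (14, 5), (24, 10), (30, 4), (4, 9), (34, 0), (17, 8), (35, 7)]),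
     ([(7, 1), (32, 1), (33, 4), (8, 4), (21, 1), (23, 4), (16, 1), (17, 4), (29, 1), (30, 4)], .tr 14 1 [(23, 3), (7, 10), (33, 0), (32, 3), (16, 5), (21, 6), (30, 4), (8, 4), (29, 8), (17, 8)]),
     ([(0, 4), (13, 4), (2, 4), (33, 1), (26, 1), (23, 4), (5, 1), (16, 1), (29, 4), (24, 1)], .tr 15 1 [(2, 0), (23, 3), (33, 0), (0, 5), (16, 5), (24, 10), (13, 5), (26, 4), (5, 0), (29, 8)]),
     ([(19, 1), (32, 1), (33, 4), (14, 4), (9, 1), (26, 4), (28, 1), (24, 4), (12, 4), (18, 1)], .tr 16 0 [(32, 0), (19, 0), (9, 11), (14, 6), (18, 0), (26, 4), (28, 4), (24, 8), (33, 7), (12, 0)]),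
     ([(31, 4), (19, 1), (32, 1), (2, 1), (20, 4), (25, 1), (5, 4), (15, 4), (18, 1), (30, 4)], .tr 16 1 [(2, 0), (25, 0), (19, 3), (15, 0), (18, 5), (31, 5), (32, 3), (30, 4), (5, 0), (20, 8)]),
     ([(1, 4), (33, 1), (20, 1), (3, 1), (21, 4), (25, 4), (26, 1), (11, 4), (34, 4), (12, 1)], .tr 17 0 [(3, 0), (20, 0), (1, 3), (26, 4), (11, 0), (33, 7), (21, 7), (34, 7), (12, 0), (25, 4)]),
     ([(31, 1), (7, 4), (20, 1), (9, 1), (21, 4), (4, 4), (28, 1), (5, 1), (35, 4), (29, 4)], .tr 17 1 [(9, 0), (28, 3), (7, 10), (31, 5), (21, 6), (5, 0), (29, 8), (4, 9), (20, 8), (35, 7)]),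
     ([(0, 1), (14, 1), (21, 4), (25, 4), (27, 1), (10, 1), (23, 1), (11, 4), (35, 4), (18, 4)], .tr 18 0 [(14, 6), (0, 0), (35, 0), (18, 0), (10, 0), (11, 0), (23, 11), (21, 7), (27, 0), (25, 4)]),
     ([(3, 4), (21, 4), (26, 1), (22, 1), (15, 1), (6, 1), (34, 1), (35, 4), (29, 4), (18, 4)], .tr 18 1 [(15, 0), (6, 0), (3, 5), (18, 5), (22, 5), (21, 6), (26, 4), (29, 8), (34, 0), (35, 7)]),
     ([(31, 4), (19, 4), (2, 1), (27, 4), (23, 1), (11, 4), (6, 4), (35, 1), (12, 1), (30, 1)], .tr 19 0 [(31, 0), (19, 0), (6, 7), (35, 0), (30, 0), (11, 0), (2, 9), (23, 11), (27, 0), (12, 0)]),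
     ([(0, 3), (1, 4), (13, 1), (19, 3), (32, 1), (2, 4), (33, 1)], .kill 0 [([(0, 3), (1, 1), (2, 2), (3, 1), (4, 3), (5, 3), (6, 1), (10, 1), (11, 1), (12, 4), (13, 2), (14, 4), (16, 1), (18, 2), (19, 2), (20, 3), (21, 1), (22, 4), (23, 2), (25, 2), (26, 3)], [(31, 0), (3, 0), (19, 0), (9, 11), (0, 0), (6, 7), (35, 0)]), ([(0, 3), (1, 3), (2, 2), (3, 3), (4, 4), (5, 3), (6, 4), (8, 4), (9, 3), (10, 1), (11, 3), (12, 3), (13, 1), (14, 4), (15, 4), (16, 3), (17, 4), (19, 3), (21, 1), (23, 3), (24, 2), (25, 2)], [(13, 0), (3, 3), (27, 4), (23, 0), (17, 0), (4, 3), (16, 5)])]),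
     ([(0, 3), (31, 3), (13, 1), (19, 1), (7, 3), (32, 3), (2, 1)], .kill 2 [([], [(0, 1), (31, 1), (13, 1), (19, 1), (7, 1), (32, 1), (2, 1)]), ([], [(0, 2), (31, 2), (13, 2), (19, 2), (7, 2), (32, 2), (2, 2)]), ([(0, 3), (1, 3), (3, 4), (4, 1), (6, 2), (8, 3), (9, 4), (10, 1), (11, 3), (12, 1), (13, 1), (14, 3), (15, 3), (16, 3), (17, 4), (18, 4), (19, 4), (20, 2), (21, 4), (22, 4), (24, 4), (25, 3), (27, 2)], [(0, 3), (33, 0), (26, 0), (10, 0), (15, 6), (34, 0), (22, 7)]), ([(0, 1), (1, 4), (3, 4), (4, 1), (5, 3), (6, 3), (7, 3), (9, 4), (11, 3), (13, 3), (14, 3), (15, 1), (16, 2), (17, 2), (18, 1), (19, 3), (20, 2), (21, 1), (22, 2), (23, 2), (25, 3), (26, 4), (27, 1)], [(0, 4), (31, 6), (27, 0), (22, 0), (1, 6), (34, 4), (10, 7)])]),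
     ([(0, 3), (31, 3), (19, 1), (32, 3), (14, 3), (9, 1), (6, 1)], .tr 28 0 [(31, 0), (32, 0), (19, 0), (9, 11), (14, 6), (0, 0), (6, 7)]),
     ([(1, 3), (19, 1), (2, 3), (25, 1), (11, 1), (15, 3), (6, 3)], .tr 28 1 [(1, 0), (2, 0), (25, 0), (19, 3), (15, 0), (6, 0), (11, 3)]),
     ([(0, 3), (31, 3), (13, 1), (32, 3), (20, 3), (9, 1), (5, 1)], .tr 29 0 [(31, 0), (32, 0), (9, 11), (0, 0), (20, 0), (13, 3), (5, 5)])],
    [([(1, 3), (19, 1), (2, 3), (14, 1), (8, 1), (28, 3), (6, 3)], .tr 29 1 [(1, 0), (2, 0), (19, 3), (6, 0), (28, 3), (14, 5), (8, 4)]),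
     ([(3, 3), (9, 1), (26, 1), (5, 3), (16, 1), (6, 3), (24, 3)], .tr 30 0 [(3, 0), (9, 11), (6, 7), (26, 4), (16, 3), (24, 8), (5, 5)]),
     ([(33, 1), (14, 1), (20, 3), (8, 3), (26, 1), (10, 3), (12, 3)], .tr 33 1 [(10, 4), (14, 5), (33, 0), (12, 11), (26, 4), (8, 4), (20, 8)])]]
  nSteps := 35
  fin := [(0, 1), (1, 2), (2, 2), (4, 1), (5, 4), (6, 2), (7, 4), (8, 3), (9, 1), (10, 2), (11, 4), (12, 2), (13, 4), (14, 3), (15, 1), (17, 4), (18, 3), (19, 1), (22, 3), (23, 3), (24, 4), (26, 4), (27, 2), (29, 1), (30, 1), (31, 1), (32, 2), (33, 3), (34, 2)]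

theorem ks_eq : data.killed = [Words.a5Pt, Words.a5Six, Words.eigA4Neg] := by decide +kernel

theorem xgens_eq : data.fixedBy = Words.eigA4Pos := by decide +kernel

theorem checked : data.checked data.eqv1 = true := by decide +kernel

end H63.ModCert.P5L2
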