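import Cfsg.Agent.H63.ModCert.Words

/-! Certificate P5L3 (computed offline). -/

set_option autoImplicit false

namespace H63.ModCert.P5L3

/-- certificate data -/
def data : Data where
  n := 10
  p := 5
  N := 90
  gens := [[(0, 1), (1, 2)],
    [(2, 3), (3, 8)],
    [(4, 5), (5, 6)],
    [(6, 7), (7, 9)],
    [(0, 1), (2, 3)],
    [(0, 2), (1, 3)],
    [(4, 5), (5, 6), (6, 7), (7, 9)],
    [(5, 9), (6, 7)],
    [(0, 1), (1, 2), (4, 5), (5, 6)],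
    [(2, 3), (3, 8), (6, 7), (7, 9)],
    [(0, 1), (1, 2), (4, 6), (6, 5)]]
  xgens := [(4, 1), (5, 1), (6, 1), (7, 1)]
  xs := [[([], 1, 0, 0),
     ([(0, 1), (2, 3)], 1, 0, 0),
     ([(0, 2), (1, 3)], 1, 1, 0),
     ([(4, 5), (5, 6), (6, 7), (7, 9)], 1, 2, 0),
     ([(5, 9), (6, 7)], 1, 3, 0),
     ([(0, 3), (1, 2)], 1, 1, 1),
     ([(0, 1), (2, 3), (4, 5), (5, 6), (6, 7), (7, 9)], 1, 2, 1),
     ([(0, 1), (2, 3), (5, 9), (6, 7)], 1, 3, 1),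
     ([(0, 2), (1, 3), (4, 5), (5, 6), (6, 7), (7, 9)], 1, 2, 2),
     ([(0, 2), (1, 3), (5, 9), (6, 7)], 1, 3, 2),
     ([(4, 6), (6, 9), (9, 5), (5, 7)], 1, 2, 3),
     ([(4, 5), (6, 9)], 1, 2, 4),
     ([(0, 3), (1, 2), (4, 5), (5, 6), (6, 7), (7, 9)], 1, 2, 5),
     ([(0, 3), (1, 2), (5, 9), (6, 7)], 1, 3, 5),
     ([(0, 1), (2, 3), (4, 6), (6, 9), (9, 5), (5, 7)], 1, 2, 6),
     ([(0, 1), (2, 3), (4, 5), (6, 9)], 1, 2, 7),
     ([(0, 2), (1, 3), (4, 6), (6, 9), (9, 5), (5, 7)], 1, 2, 8),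
     ([(0, 2), (1, 3), (4, 5), (6, 9)], 1, 2, 9),
     ([(4, 7), (7, 5), (5, 9), (9, 6)], 1, 2, 10),
     ([(4, 7), (5, 6)], 1, 3, 10),
     ([(4, 9), (9, 7), (7, 6), (6, 5)], 1, 3, 11),
     ([(0, 3), (1, 2), (4, 6), (6, 9), (9, 5), (5, 7)], 1, 2, 12),
     ([(0, 3), (1, 2), (4, 5), (6, 9)], 1, 2, 13),
     ([(0, 1), (2, 3), (4, 7), (7, 5), (5, 9), (9, 6)], 1, 2, 14),
     ([(0, 1), (2, 3), (4, 9), (9, 7), (7, 6), (6, 5)], 1, 3, 15),
     ([(0, 2), (1, 3), (4, 7), (7, 5), (5, 9), (9, 6)], 1, 2, 16),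
     ([(0, 2), (1, 3), (4, 7), (5, 6)], 1, 3, 16),
     ([(0, 2), (1, 3), (4, 6), (7, 9)], 1, 2, 17),
     ([(0, 2), (1, 3), (4, 9), (9, 7), (7, 6), (6, 5)], 1, 3, 17),
     ([(0, 3), (1, 2), (4, 7), (7, 5), (5, 9), (9, 6)], 1, 2, 21),
     ([(0, 3), (1, 2), (4, 7), (5, 6)], 1, 3, 21),
     ([(0, 3), (1, 2), (4, 9), (9, 7), (7, 6), (6, 5)], 1, 3, 22)]]
  nX := 32
  reps := [[[],
     [(6, 9), (9, 7)],
     [(0, 1), (1, 2), (4, 7), (7, 9), (9, 6), (6, 5)],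
     [(0, 2), (2, 1), (4, 7), (7, 9), (9, 6), (6, 5)],
     [(2, 3), (3, 8), (6, 9), (9, 7)],
     [(0, 1), (1, 3), (3, 8), (8, 2), (4, 7), (7, 9), (9, 6), (6, 5)],
     [(0, 3), (3, 8), (8, 2), (2, 1), (4, 7), (7, 9), (9, 6), (6, 5)],
     [(4, 5), (5, 7), (7, 9), (9, 6)],
     [(0, 1), (1, 2), (4, 5), (5, 7), (7, 9), (9, 6)],
     [(0, 2), (2, 1), (4, 5), (5, 7), (7, 9), (9, 6)],
     [(0, 1), (1, 2)],
     [(0, 2), (2, 1)],
     [(0, 1), (1, 2), (2, 3), (3, 8), (4, 7), (7, 9), (9, 6), (6, 5)],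
     [(0, 1), (1, 3), (3, 2), (2, 8), (4, 7), (7, 9), (9, 6), (6, 5)],
     [(0, 2), (2, 1), (1, 3), (3, 8), (6, 9), (9, 7)],
     [(2, 8), (8, 3), (6, 9), (9, 7)],
     [(0, 1), (1, 8), (8, 3), (3, 2), (6, 9), (9, 7)],
     [(0, 1), (1, 2), (2, 8), (8, 3), (6, 9), (9, 7)],
     [(2, 3), (3, 8), (4, 5), (5, 7), (7, 9), (9, 6)],
     [(0, 1), (1, 3), (3, 8), (8, 2), (4, 5), (5, 7), (7, 9), (9, 6)],
     [(0, 3), (3, 8), (8, 2), (2, 1), (4, 5), (5, 7), (7, 9), (9, 6)],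
     [(2, 3), (3, 8)],
     [(0, 1), (1, 3), (3, 8), (8, 2)],
     [(0, 3), (3, 8), (8, 2), (2, 1)],
     [(4, 6), (6, 5), (5, 7), (7, 9)],
     [(0, 1), (1, 2), (4, 6), (6, 5), (5, 7), (7, 9)],
     [(0, 2), (2, 1), (4, 6), (6, 5), (5, 7), (7, 9)],
     [(4, 5), (5, 6)],
     [(0, 1), (1, 2), (4, 5), (5, 6)],
     [(0, 2), (2, 1), (4, 5), (5, 6)],
     [(6, 7), (7, 9)],
     [(0, 1), (1, 2), (4, 6), (6, 5)]],
    [[(0, 2), (2, 1), (4, 6), (6, 5)],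
     [(0, 2), (2, 8), (8, 1), (1, 3), (6, 9), (9, 7)],
     [(0, 3), (1, 8), (6, 9), (9, 7)],
     [(0, 3), (3, 2), (2, 8), (8, 1), (4, 7), (7, 9), (9, 6), (6, 5)],
     [(0, 1), (1, 2), (2, 3), (3, 8), (4, 5), (5, 7), (7, 9), (9, 6)],
     [(0, 1), (1, 3), (3, 2), (2, 8), (4, 5), (5, 7), (7, 9), (9, 6)],
     [(0, 2), (2, 1), (1, 3), (3, 8), (4, 5), (5, 7), (7, 9), (9, 6)],
     [(0, 1), (1, 2), (2, 3), (3, 8)],
     [(0, 2), (2, 1), (1, 3), (3, 8)],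
     [(0, 3), (3, 8)],
     [(2, 8), (8, 3), (4, 5), (5, 7), (7, 9), (9, 6)],
     [(0, 1), (1, 8), (8, 3), (3, 2), (4, 5), (5, 7), (7, 9), (9, 6)],
     [(0, 1), (1, 2), (2, 8), (8, 3), (4, 5), (5, 6), (6, 9), (9, 7)],
     [(2, 8), (8, 3)],
     [(0, 1), (1, 8), (8, 3), (3, 2)],
     [(0, 1), (1, 2), (2, 8), (8, 3)],
     [(2, 3), (3, 8), (4, 6), (6, 5), (5, 7), (7, 9)],
     [(0, 1), (1, 3), (3, 8), (8, 2), (4, 6), (6, 5), (5, 7), (7, 9)],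
     [(0, 3), (3, 8), (8, 2), (2, 1), (4, 6), (6, 5), (5, 7), (7, 9)],
     [(2, 3), (3, 8), (4, 5), (5, 6)],
     [(0, 1), (1, 3), (3, 8), (8, 2), (4, 5), (5, 6)],
     [(0, 3), (3, 8), (8, 2), (2, 1), (4, 5), (5, 6)],
     [(2, 3), (3, 8), (6, 7), (7, 9)],
     [(0, 1), (1, 3), (3, 8), (8, 2), (6, 7), (7, 9)],
     [(0, 3), (3, 8), (8, 2), (2, 1), (6, 7), (7, 9)],
     [(0, 2), (2, 3), (3, 8), (8, 1), (4, 5), (5, 7), (7, 9), (9, 6)],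
     [(0, 3), (3, 2), (2, 8), (8, 1), (4, 5), (5, 7), (7, 9), (9, 6)],
     [(0, 2), (2, 8), (8, 1), (1, 3), (4, 5), (5, 7), (7, 9), (9, 6)],
     [(0, 2), (2, 3), (3, 8), (8, 1)],
     [(1, 3), (3, 8)],
     [(0, 2), (2, 8), (8, 1), (1, 3)],
     [(0, 1), (1, 2), (2, 3), (3, 8), (4, 6), (6, 5), (5, 7), (7, 9)]],
    [[(0, 2), (2, 1), (1, 3), (3, 8), (4, 6), (6, 5), (5, 7), (7, 9)],
     [(0, 3), (3, 8), (4, 6), (6, 5), (5, 7), (7, 9)],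
     [(0, 1), (1, 2), (2, 3), (3, 8), (4, 5), (5, 6)],
     [(0, 2), (2, 1), (1, 3), (3, 8), (4, 5), (5, 6)],
     [(0, 1), (1, 3), (3, 2), (2, 8), (4, 5), (5, 6)],
     [(0, 1), (1, 2), (2, 3), (3, 8), (4, 6), (6, 5)],
     [(0, 2), (2, 1), (1, 3), (3, 8), (6, 7), (7, 9)],
     [(0, 3), (3, 8), (6, 7), (7, 9)],
     [(2, 8), (8, 3), (4, 5), (5, 9), (9, 7), (7, 6)],
     [(0, 1), (1, 8), (8, 3), (3, 2), (4, 5), (5, 9), (9, 7), (7, 6)],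
     [(0, 1), (1, 2), (2, 8), (8, 3), (4, 6), (6, 9), (9, 7), (7, 5)],
     [(2, 8), (8, 3), (4, 5), (5, 6)],
     [(0, 1), (1, 2), (2, 8), (8, 3), (4, 5), (5, 6)],
     [(0, 1), (1, 8), (8, 3), (3, 2), (4, 5), (5, 6)],
     [(2, 8), (8, 3), (6, 7), (7, 9)],
     [(0, 1), (1, 8), (8, 3), (3, 2), (6, 7), (7, 9)],
     [(0, 1), (1, 2), (2, 8), (8, 3), (4, 6), (6, 5)],
     [(0, 2), (2, 3), (3, 8), (8, 1), (4, 6), (6, 5), (5, 7), (7, 9)],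
     [(1, 3), (3, 8), (4, 6), (6, 5), (5, 7), (7, 9)],
     [(0, 2), (2, 8), (8, 1), (1, 3), (4, 6), (6, 5), (5, 7), (7, 9)],
     [(0, 2), (2, 3), (3, 8), (8, 1), (4, 5), (5, 6)],
     [(1, 3), (3, 8), (4, 5), (5, 6)],
     [(0, 3), (3, 8), (8, 1), (1, 2), (4, 5), (5, 6)],
     [(0, 2), (2, 3), (3, 8), (8, 1), (4, 6), (6, 5)],
     [(1, 3), (3, 8), (4, 6), (6, 5)],
     [(0, 2), (2, 8), (8, 1), (1, 3), (6, 7), (7, 9)]]]
  Ks := [[(2, 1), (3, 1)], [(8, 1), (9, 1)], [(10, 1), (9, 1)], [(0, 1), (4, 1)]]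
  steps := [[([(1, 1), (2, 1), (3, 1)], .kill 3 [([], [(2, 3), (3, 0), (1, 20)]), ([], [(1, 1), (2, 2), (3, 5)])]),
     ([(4, 1), (5, 1), (6, 1)], .tr 0 1 [(4, 0), (5, 0), (6, 0)]),
     ([(7, 1), (8, 1), (9, 1)], .tr 0 2 [(7, 4), (8, 11), (9, 11)]),
     ([(0, 1), (10, 1), (11, 1)], .tr 0 3 [(0, 0), (10, 20), (11, 20)]),
     ([(12, 1), (13, 1), (14, 1)], .tr 1 0 [(12, 3), (14, 20), (13, 1)]),
     ([(15, 1), (16, 1), (17, 1)], .tr 1 1 [(15, 0), (16, 20), (17, 28)]),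
     ([(18, 1), (19, 1), (20, 1)], .tr 1 2 [(18, 4), (19, 11), (20, 11)]),
     ([(21, 1), (22, 1), (23, 1)], .tr 1 3 [(21, 0), (22, 20), (23, 20)]),
     ([(24, 1), (25, 1), (26, 1)], .tr 2 2 [(24, 0), (25, 0), (26, 0)]),
     ([(27, 1), (28, 1), (29, 1)], .tr 3 2 [(27, 0), (28, 0), (29, 0)]),
     ([(30, 1), (31, 1), (32, 1)], .tr 3 3 [(30, 0), (31, 3), (32, 3)]),
     ([(33, 1), (34, 1), (35, 1)], .tr 4 0 [(34, 28), (33, 20), (35, 6)]),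
     ([(36, 1), (37, 1), (38, 1)], .tr 4 2 [(36, 11), (37, 11), (38, 4)]),
     ([(39, 1), (40, 1), (41, 1)], .tr 4 3 [(39, 20), (41, 24), (40, 0)]),
     ([(42, 1), (43, 1), (44, 1)], .tr 5 2 [(42, 4), (43, 4), (44, 0)]),
     ([(45, 1), (46, 1), (47, 1)], .tr 5 3 [(45, 0), (46, 0), (47, 0)]),
     ([(48, 1), (49, 1), (50, 1)], .tr 6 2 [(48, 0), (49, 0), (50, 0)]),
     ([(51, 1), (52, 1), (53, 1)], .tr 7 2 [(51, 0), (52, 0), (53, 0)]),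
     ([(54, 1), (55, 1), (56, 1)], .tr 7 3 [(54, 0), (55, 0), (56, 0)]),
     ([(57, 1), (58, 1), (59, 1)], .tr 11 2 [(59, 4), (57, 9), (58, 11)]),
     ([(60, 1), (61, 1), (62, 1)], .tr 11 3 [(62, 0), (60, 2), (61, 24)]),
     ([(63, 1), (64, 1), (65, 1)], .tr 12 2 [(63, 0), (65, 1), (64, 0)]),
     ([(66, 1), (67, 1), (68, 1)], .tr 13 2 [(66, 0), (67, 0), (68, 1)]),
     ([(69, 1), (70, 1), (71, 1)], .tr 13 3 [(69, 3), (70, 0), (71, 0)]),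
     ([(72, 1), (73, 1), (74, 1)], .tr 14 2 [(72, 18), (73, 18), (74, 0)]),
     ([(75, 1), (76, 1), (77, 1)], .tr 15 2 [(75, 0), (77, 0), (76, 0)]),
     ([(78, 1), (79, 1), (80, 1)], .tr 15 3 [(78, 0), (79, 0), (80, 3)]),
     ([(81, 1), (82, 1), (83, 1)], .tr 19 2 [(81, 0), (82, 1), (83, 0)]),
     ([(84, 1), (85, 1), (86, 1)], .tr 20 2 [(84, 0), (85, 0), (86, 1)]),
     ([(87, 1), (88, 1), (89, 1)], .tr 20 3 [(87, 3), (88, 3), (89, 0)]),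
     ([(0, 1), (27, 1), (30, 1), (7, 1), (24, 1), (1, 1)], .kill 0 [([], [(27, 0), (30, 20), (0, 3), (24, 0), (1, 4), (7, 4)]), ([], [(30, 0), (7, 0), (1, 0), (24, 10), (27, 18), (0, 0)])]),
     ([(10, 1), (27, 1), (22, 1), (55, 1), (32, 1), (7, 1), (18, 1), (70, 1), (2, 1), (41, 1), (67, 1), (79, 1), (53, 1), (26, 1), (16, 1), (6, 1), (61, 1), (47, 1), (75, 1), (48, 1), (85, 1), (36, 1), (89, 1), (12, 1), (72, 1), (44, 1), (65, 1), (34, 1), (81, 1), (59, 1)], .kill 2 [([], [(32, 0), (10, 0), (70, 20), (67, 3), (27, 0), (2, 11), (12, 11), (85, 3), (26, 11), (89, 24), (61, 0), (75, 12), (41, 0), (7, 0), (72, 30), (65, 11), (55, 20), (79, 31), (47, 0), (36, 0), (22, 0), (34, 9), (53, 6), (81, 11), (44, 19), (16, 5), (59, 1), (48, 9), (18, 0), (6, 15)]), ([], [(55, 0), (18, 0), (79, 0), (16, 0), (6, 0), (48, 10), (72, 0), (12, 8), (22, 20), (70, 5), (36, 2), (2, 3), (44,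 9), (53, 18), (10, 0), (47, 28), (89, 5), (32, 8), (7, 0), (75, 18), (59, 5), (65, 14), (34, 0), (41, 24), (27, 0), (26, 27), (67, 29), (61, 5), (85, 23), (81, 16)])])],
    [([(30, 1), (28, 1), (11, 1), (22, 1), (40, 1), (78, 1), (24, 1), (4, 1), (52, 1), (8, 1), (70, 1), (15, 1), (56, 1), (46, 1), (20, 1), (3, 1), (62, 1), (76, 1), (48, 1), (85, 1), (88, 1), (68, 1), (36, 1), (63, 1), (13, 1), (43, 1), (74, 1), (34, 1), (57, 1), (83, 1)], .tr 31 0 [(11, 0), (28, 0), (40, 0), (70, 0), (30, 20), (8, 0), (36, 0), (88, 3), (3, 0), (62, 1), (85, 0), (78, 5), (68, 1), (24, 0), (15, 5), (13, 1), (22, 0), (46, 5), (76, 0), (63, 0), (52, 0), (57, 0), (56, 1), (34, 28), (74, 19), (43, 13), (83, 1), (4, 2), (48, 0), (20, 1)]),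
     ([(27, 1), (31, 1), (11, 1), (22, 1), (51, 1), (40, 1), (66, 1), (69, 1), (24, 1), (18, 1), (2, 1), (5, 1), (56, 1), (46, 1), (79, 1), (9, 1), (87, 1), (62, 1), (76, 1), (42, 1), (37, 1), (13, 1), (72, 1), (64, 1), (17, 1), (86, 1), (50, 1), (57, 1), (35, 1), (82, 1)], .tr 31 1 [(22, 0), (51, 0), (46, 0), (79, 0), (56, 20), (18, 0), (42, 0), (69, 8), (5, 0), (40, 5), (66, 2), (31, 3), (76, 2), (50, 0), (2, 3), (17, 28), (62, 5), (11, 2), (27, 0), (72, 18), (86, 2), (37, 0), (87, 8), (13, 0), (24, 10), (9, 9), (64, 5), (35, 8), (82, 1), (57, 2)]),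
     ([(10, 1), (31, 1), (29, 1), (55, 1), (39, 1), (51, 1), (7, 1), (24, 1), (5, 1), (23, 1), (46, 1), (20, 1), (71, 1), (16, 1), (3, 1), (60, 1), (84, 1), (75, 1), (80, 1), (48, 1), (42, 1), (88, 1), (68, 1), (63, 1), (38, 1), (14, 1), (33, 1), (74, 1), (58, 1), (83, 1)], .tr 31 3 [(31, 3), (7, 0), (55, 0), (5, 3), (3, 0), (24, 10), (48, 10), (14, 0), (10, 20), (71, 0), (38, 0), (16, 0), (20, 0), (29, 18), (46, 0), (23, 20), (88, 3), (80, 3), (42, 0), (51, 18), (58, 1), (63, 10), (33, 0), (39, 20), (75, 0), (74, 18), (68, 23), (60, 2), (84, 18), (83, 10)]),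
     ([(0, 1), (31, 1), (29, 1), (55, 1), (45, 1), (40, 1), (18, 1), (1, 1), (4, 1), (52, 1), (25, 1), (23, 1), (67, 1), (9, 1), (71, 1), (61, 1), (80, 1), (42, 1), (88, 1), (63, 1), (37, 1), (12, 1), (77, 1), (73, 1), (17, 1), (33, 1), (86, 1), (50, 1), (57, 1), (81, 1)], .tr 32 0 [(31, 3), (29, 0), (0, 0), (40, 0), (61, 0), (80, 3), (25, 0), (12, 3), (67, 0), (9, 0), (88, 3), (17, 0), (71, 0), (45, 5), (37, 1), (1, 20), (23, 1), (77, 5), (63, 0), (52, 0), (55, 20), (86, 1), (57, 0), (81, 0), (33, 20), (42, 5), (73, 30), (4, 2), (18, 0), (50, 1)]),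
     ([(10, 1), (30, 1), (54, 1), (29, 1), (39, 1), (69, 1), (1, 1), (52, 1), (8, 1), (19, 1), (15, 1), (23, 1), (46, 1), (67, 1), (26, 1), (6, 1), (60, 1), (80, 1), (48, 1), (37, 1), (89, 1), (72, 1), (14, 1), (77, 1), (44, 1), (86, 1), (65, 1), (81, 1), (58, 1), (35, 1)], .tr 32 1 [(54, 0), (52, 0), (23, 0), (46, 0), (39, 2), (30, 0), (48, 0), (15, 0), (77, 0), (19, 0), (69, 8), (1, 0), (80, 8), (10, 0), (44, 9), (6, 0), (60, 2), (29, 2), (72, 18), (86, 2), (89, 31), (67, 2), (37, 0), (65, 1), (14, 28), (8, 0), (26, 9), (35, 8), (58, 0), (81, 2)]),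
     ([(21, 1), (27, 1), (11, 1), (55, 1), (32, 1), (45, 1), (51, 1), (66, 1), (1, 1), (8, 1), (25, 1), (19, 1), (70, 1), (15, 1), (41, 1), (79, 1), (6, 1), (60, 1), (76, 1), (63, 1), (37, 1), (89, 1), (14, 1), (73, 1), (44, 1), (86, 1), (50, 1), (81, 1), (58, 1), (35, 1)], .tr 32 3 [(1, 0), (8, 0), (32, 3), (55, 0), (70, 0), (15, 0), (27, 18), (21, 0), (19, 0), (25, 10), (14, 0), (45, 0), (6, 3), (79, 0), (50, 10), (11, 20), (89, 0), (44, 4), (51, 18), (58, 1), (35, 1), (37, 0), (63, 10), (66, 18), (41, 24), (73, 0), (76, 19), (60, 2), (81, 10), (86, 23)]),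
     ([(0, 1), (28, 1), (54, 1), (32, 1), (45, 1), (40, 1), (66, 1), (78, 1), (7, 1), (18, 1), (25, 1), (5, 1), (23, 1), (53, 1), (71, 1), (16, 1), (3, 1), (61, 1), (84, 1), (87, 1), (36, 1), (14, 1), (77, 1), (49, 1), (33, 1), (44, 1), (74, 1), (65, 1), (59, 1), (82, 1)], .tr 33 0 [(28, 0), (32, 0), (0, 0), (40, 0), (66, 0), (61, 0), (84, 0), (87, 0), (25, 0), (36, 0), (3, 0), (14, 20), (71, 0), (45, 5), (78, 5), (7, 0), (54, 20), (23, 1), (77, 5), (44, 4), (59, 0), (33, 20), (74, 19), (82, 0), (16, 5), (53, 0), (65, 0), (18, 0), (5, 1), (49, 0)]),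
     ([(10, 1), (28, 1), (54, 1), (22, 1), (32, 1), (66, 1), (78, 1), (24, 1), (1, 1), (4, 1), (19, 1), (41, 1), (53, 1), (9, 1), (71, 1), (61, 1), (84, 1), (87, 1), (47, 1), (12, 1), (38, 1), (72, 1), (77, 1), (43, 1), (64, 1), (17, 1), (33, 1), (50, 1), (59, 1), (82, 1)], .tr 34 2 [(28, 0), (10, 0), (32, 0), (22, 3), (66, 0), (54, 20), (24, 0), (1, 4), (19, 11), (53, 0), (77, 0), (50, 0), (41, 3), (43, 4), (9, 11), (84, 0), (87, 0), (78, 20), (47, 0), (4, 4), (72, 18), (61, 0), (71, 24), (12, 11), (64, 0), (38, 4), (59, 4), (17, 0), (82, 1), (33, 4)]),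
     ([(0, 1), (21, 1), (28, 1), (55, 1), (32, 1), (39, 1), (66, 1), (7, 1), (4, 1), (25, 1), (70, 1), (15, 1), (79, 1), (53, 1), (20, 1), (3, 1), (84, 1), (47, 1), (62, 1), (42, 1), (89, 1), (13, 1), (38, 1), (77, 1), (49, 1), (74, 1), (65, 1), (34, 1), (58, 1), (82, 1)], .tr 35 1 [(21, 0), (55, 20), (53, 0), (79, 0), (0, 0), (39, 2), (42, 0), (4, 0), (15, 0), (77, 0), (49, 0), (47, 2), (66, 2), (20, 0), (70, 5), (62, 5), (32, 2), (7, 0), (89, 31), (65, 1), (38, 2), (13, 0), (28, 0), (25, 10), (3, 8), (34, 0), (84, 5), (74, 9), (58, 0), (82, 1)]),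
     ([(0, 1), (21, 1), (30, 1), (28, 1), (39, 1), (66, 1), (78, 1), (19, 1), (70, 1), (2, 1), (5, 1), (56, 1), (53, 1), (9, 1), (26, 1), (84, 1), (47, 1), (62, 1), (48, 1), (88, 1), (13, 1), (38, 1), (72, 1), (77, 1), (43, 1), (17, 1), (65, 1), (81, 1), (35, 1), (59, 1)], .tr 35 3 [(30, 0), (2, 0), (9, 0), (5, 3), (78, 0), (70, 0), (48, 10), (0, 0), (21, 0), (19, 0), (28, 18), (56, 0), (38, 0), (26, 10), (13, 6), (88, 3), (17, 20), (72, 0), (35, 1), (66, 18), (65, 14), (39, 20), (43, 0), (77, 0), (47, 0), (62, 0), (59, 1), (53, 18), (81, 10), (84, 18)]),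
     ([(21, 1), (27, 1), (31, 1), (11, 1), (45, 1), (69, 1), (24, 1), (19, 1), (2, 1), (5, 1), (56, 1), (41, 1), (67, 1), (79, 1), (53, 1), (9, 1), (60, 1), (87, 1), (75, 1), (48, 1), (85, 1), (63, 1), (13, 1), (38, 1), (43, 1), (17, 1), (74, 1), (35, 1), (59, 1), (83, 1)], .tr 36 0 [(11, 0), (31, 3), (69, 3), (27, 0), (60, 0), (87, 0), (2, 3), (67, 0), (9, 0), (38, 0), (17, 0), (41, 0), (45, 5), (85, 0), (24, 0), (13, 1), (21, 0), (79, 31), (63, 0), (59, 0), (56, 1), (74, 19), (35, 6), (75, 5), (43, 13), (53, 0), (83, 1), (48, 0), (19, 1), (5, 1)]),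
     ([(0, 1), (31, 1), (29, 1), (45, 1), (51, 1), (40, 1), (69, 1), (1, 1), (4, 1), (25, 1), (19, 1), (23, 1), (56, 1), (79, 1), (9, 1), (61, 1), (84, 1), (87, 1), (75, 1), (68, 1), (12, 1), (38, 1), (49, 1), (43, 1), (17, 1), (33, 1), (74, 1), (65, 1), (59, 1), (82, 1)], .tr 36 3 [(31, 3), (1, 0), (4, 0), (9, 0), (69, 3), (12, 0), (0, 0), (19, 0), (25, 10), (49, 10), (45, 0), (56, 0), (79, 0), (38, 0), (29, 18), (23, 20), (87, 3), (17, 20), (51, 18), (65, 14), (33, 0), (75, 0), (40, 0), (43, 0), (74, 18), (59, 1), (68, 23), (84, 18), (82, 14), (61, 24)]),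
     ([(30, 1), (54, 1), (11, 1), (22, 1), (29, 1), (51, 1), (40, 1), (69, 1), (7, 1), (25, 1), (2, 1), (46, 1), (20, 1), (16, 1), (6, 1), (84, 1), (75, 1), (62, 1), (80, 1), (42, 1), (68, 1), (89, 1), (12, 1), (38, 1), (49, 1), (74, 1), (65, 1), (34, 1), (58, 1), (82, 1)], .tr 37 2 [(51, 0), (30, 20), (29, 0), (22, 3), (11, 0), (75, 0), (54, 20), (69, 0), (7, 4), (25, 0), (2, 11), (49, 0), (40, 3), (42, 4), (68, 1), (46, 3), (20, 11), (84, 0), (80, 0), (12, 11), (65, 1), (62, 3), (38, 4), (16, 19), (74, 0), (89, 24), (6, 11), (34, 9), (82, 1), (58, 11)]),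
     ([(10, 1), (30, 1), (54, 1), (22, 1), (29, 1), (51, 1), (69, 1), (1, 1), (8, 1), (15, 1), (41, 1), (26, 1), (20, 1), (6, 1), (61, 1), (84, 1), (47, 1), (75, 1), (80, 1), (68, 1), (36, 1), (89, 1), (14, 1), (49, 1), (43, 1), (64, 1), (73, 1), (57, 1), (35, 1), (83, 1)], .tr 38 0 [(10, 0), (29, 0), (69, 3), (30, 20), (47, 0), (61, 0), (84, 0), (80, 3), (8, 0), (36, 0), (26, 0), (14, 20), (41, 0), (68, 1), (89, 1), (15, 5), (1, 20), (22, 0), (51, 0), (54, 20), (57, 0), (35, 6), (75, 5), (64, 0), (6, 6), (43, 13), (73, 30), (83, 1), (20, 1), (49, 0)]),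
     ([(21, 1), (28, 1), (31, 1), (11, 1), (45, 1), (69, 1), (7, 1), (18, 1), (1, 1), (52, 1), (15, 1), (56, 1), (41, 1), (79, 1), (26, 1), (6, 1), (60, 1), (87, 1), (76, 1), (85, 1), (68, 1), (36, 1), (14, 1), (49, 1), (64, 1), (73, 1), (44, 1), (35, 1), (59, 1), (83, 1)], .tr 39 2 [(28, 0), (31, 0), (21, 3), (52, 0), (11, 0), (69, 0), (45, 3), (1, 4), (7, 4), (18, 4), (49, 0), (68, 1), (56, 20), (26, 0), (41, 3), (85, 0), (87, 0), (60, 0), (76, 0), (36, 11), (64, 0), (15, 19), (79, 20), (73, 18), (14, 4), (44, 0), (59, 4), (6, 11), (83, 0), (35, 15)]),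
     ([(21, 1), (30, 1), (28, 1), (54, 1), (11, 1), (45, 1), (69, 1), (24, 1), (52, 1), (8, 1), (5, 1), (41, 1), (20, 1), (16, 1), (3, 1), (60, 1), (76, 1), (80, 1), (85, 1), (68, 1), (36, 1), (89, 1), (72, 1), (14, 1), (43, 1), (64, 1), (33, 1), (50, 1), (57, 1), (82, 1)], .tr 40 3 [(30, 0), (54, 0), (8, 0), (5, 3), (3, 0), (69, 3), (36, 0), (24, 10), (21, 0), (28, 18), (14, 0), (45, 0), (16, 0), (20, 0), (50, 10), (11, 20), (57, 0), (80, 3), (89, 0), (72, 0), (33, 0), (41, 24), (64, 10), (43, 0), (52, 18), (76, 19), (68, 23), (60, 2), (82, 14), (85, 18)]),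
     ([(0, 1), (21, 1), (28, 1), (54, 1), (32, 1), (39, 1), (78, 1), (7, 1), (52, 1), (25, 1), (5, 1), (20, 1), (71, 1), (16, 1), (3, 1), (87, 1), (47, 1), (62, 1), (76, 1), (42, 1), (85, 1), (68, 1), (63, 1), (38, 1), (14, 1), (73, 1), (33, 1), (50, 1), (81, 1), (58, 1)], .tr 42 0 [(39, 0), (28, 0), (32, 0), (0, 0), (47, 0), (87, 0), (25, 0), (38, 0), (3, 0), (14, 20), (71, 0), (62, 1), (85, 0), (78, 5), (68, 1), (7, 0), (21, 0), (54, 20), (76, 0), (63, 0), (52, 0), (81, 0), (33, 20), (58, 1), (42, 5), (16, 5), (73, 30), (5, 1), (20, 1), (50, 1)]),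
     ([(0, 1), (27, 1), (31, 1), (55, 1), (45, 1), (51, 1), (40, 1), (66, 1), (8, 1), (5, 1), (23, 1), (26, 1), (20, 1), (71, 1), (16, 1), (3, 1), (61, 1), (76, 1), (80, 1), (48, 1), (88, 1), (36, 1), (72, 1), (14, 1), (43, 1), (33, 1), (86, 1), (65, 1), (57, 1), (81, 1)], .tr 42 1 [(45, 0), (51, 0), (55, 20), (23, 0), (0, 0), (71, 24), (48, 0), (43, 0), (5, 0), (16, 20), (80, 8), (40, 5), (66, 2), (31, 3), (76, 2), (20, 0), (61, 1), (88, 1), (27, 0), (72, 18), (86, 2), (65, 1), (14, 28), (36, 2), (8, 0), (3, 8), (26, 9), (33, 28), (57, 2), (81, 2)]),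
     ([(10, 1), (27, 1), (54, 1), (32, 1), (39, 1), (78, 1), (7, 1), (18, 1), (2, 1), (5, 1), (23, 1), (46, 1), (67, 1), (53, 1), (26, 1), (71, 1), (60, 1), (87, 1), (75, 1), (85, 1), (36, 1), (13, 1), (49, 1), (64, 1), (73, 1), (17, 1), (44, 1), (35, 1), (59, 1), (83, 1)], .tr 43 2 [(27, 0), (10, 0), (32, 0), (75, 0), (54, 20), (67, 0), (39, 0), (7, 4), (18, 4), (2, 11), (49, 0), (53, 0), (23, 3), (46, 3), (26, 0), (85, 0), (87, 0), (60, 0), (78, 20), (71, 24), (36, 11), (64, 0), (5, 11), (73, 18), (44, 0), (59, 4), (17, 0), (13, 15), (83, 0), (35, 15)]),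
     ([(0, 1), (21, 1), (54, 1), (29, 1), (32, 1), (39, 1), (78, 1), (24, 1), (52, 1), (8, 1), (2, 1), (5, 1), (67, 1), (20, 1), (71, 1), (87, 1), (47, 1), (62, 1), (36, 1), (13, 1), (72, 1), (77, 1), (43, 1), (64, 1), (17, 1), (86, 1), (50, 1), (57, 1), (35, 1), (82, 1)], .tr 44 2 [(0, 3), (21, 3), (29, 0), (52, 0), (32, 0), (54, 20), (67, 0), (39, 0), (24, 0), (2, 11), (8, 11), (77, 0), (50, 0), (43, 4), (20, 11), (87, 0), (78, 20), (86, 1), (47, 0), (72, 18), (71, 24), (62, 3), (36, 11), (64, 0), (5, 11), (17, 0), (13, 15), (57, 9), (82, 1), (35, 15)]),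
     ([(10, 1), (30, 1), (22, 1), (29, 1), (55, 1), (45, 1), (51, 1), (40, 1), (69, 1), (24, 1), (4, 1), (2, 1), (67, 1), (79, 1), (9, 1), (20, 1), (16, 1), (60, 1), (76, 1), (42, 1), (85, 1), (88, 1), (36, 1), (13, 1), (33, 1), (74, 1), (50, 1), (65, 1), (81, 1), (59, 1)], .kill 1 [([], [(29, 0), (10, 3), (67, 0), (30, 20), (40, 3), (76, 0), (69, 0), (85, 0), (60, 0), (2, 11), (36, 4), (9, 11), (88, 0), (45, 12), (24, 0), (65, 0), (42, 13), (51, 0), (79, 31), (74, 4), (55, 20), (22, 0), (81, 0), (59, 11), (20, 7), (16, 5), (13, 15), (33, 7), (4, 4), (50, 1)]), ([], [(55, 0), (4, 0), (79, 0), (20, 0), (16, 0), (30, 0), (42, 0), (69, 8), (13, 0), (51, 18), (45, 0), (22, 20), (36, 2), (2, 3), (50, 10), (74, 26), (10, 0), (88, 6), (9, 2), (24, 10), (59, 5), (33, 31), (65, 14), (40, 28), (60, 2), (29, 26), (76, 25), (67, 29), (85, 23), (81, 16)])]),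
     ([(21, 1), (27, 1), (31, 1), (11, 1), (55, 1), (40, 1), (66, 1), (78, 1), (7, 1), (52, 1), (25, 1), (70, 1), (15, 1), (20, 1), (3, 1), (6, 1), (61, 1), (87, 1), (47, 1), (48, 1), (85, 1), (37, 1), (12, 1), (77, 1), (73, 1), (33, 1), (44, 1), (65, 1), (57, 1), (83, 1)], .tr 52 0 [(11, 0), (31, 3), (40, 0), (27, 0), (70, 0), (47, 0), (66, 0), (61, 0), (87, 0), (25, 0), (12, 3), (3, 0), (85, 0), (78, 5), (7, 0), (37, 1), (15, 5), (21, 0), (77, 5), (44, 4), (52, 0), (55, 20), (57, 0), (33, 20), (6, 6), (73, 30), (65, 0), (83, 1), (48, 0), (20, 1)]),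
     ([(0, 1), (54, 1), (31, 1), (22, 1), (29, 1), (39, 1), (66, 1), (7, 1), (15, 1), (2, 1), (5, 1), (46, 1), (79, 1), (53, 1), (26, 1), (20, 1), (71, 1), (61, 1), (75, 1), (48, 1), (37, 1), (89, 1), (14, 1), (64, 1), (44, 1), (74, 1), (86, 1), (34, 1), (57, 1), (82, 1)], .tr 52 1 [(22, 0), (54, 0), (46, 0), (53, 0), (79, 0), (0, 0), (75, 0), (39, 2), (71, 24), (48, 0), (15, 0), (5, 0), (66, 2), (31, 3), (20, 0), (44, 9), (2, 3), (61, 1), (29, 2), (7, 0), (86, 2), (89, 31), (37, 0), (14, 28), (34, 0), (26, 9), (74, 9), (64, 5), (82, 1), (57, 2)]),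
     ([(0, 1), (28, 1), (54, 1), (22, 1), (32, 1), (39, 1), (18, 1), (1, 1), (52, 1), (8, 1), (70, 1), (46, 1), (67, 1), (26, 1), (6, 1), (61, 1), (84, 1), (75, 1), (80, 1), (88, 1), (63, 1), (37, 1), (13, 1), (72, 1), (43, 1), (17, 1), (50, 1), (34, 1), (59, 1), (83, 1)], .tr 52 2 [(28, 0), (0, 3), (52, 0), (32, 0), (22, 3), (75, 0), (54, 20), (67, 0), (39, 0), (1, 4), (18, 4), (8, 11), (70, 20), (46, 3), (26, 0), (50, 0), (43, 4), (84, 0), (80, 0), (72, 18), (88, 0), (61, 0), (63, 0), (37, 11), (59, 4), (17, 0), (6, 11), (13, 15), (34, 9), (83, 0)]),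
     ([(10, 1), (21, 1), (27, 1), (31, 1), (55, 1), (78, 1), (18, 1), (1, 1), (70, 1), (5, 1), (46, 1), (41, 1), (53, 1), (9, 1), (26, 1), (16, 1), (84, 1), (87, 1), (62, 1), (76, 1), (68, 1), (63, 1), (12, 1), (38, 1), (72, 1), (44, 1), (50, 1), (58, 1), (35, 1), (83, 1)], .tr 52 3 [(31, 3), (1, 0), (55, 0), (9, 0), (5, 3), (78, 0), (18, 0), (70, 0), (12, 0), (27, 18), (21, 0), (10, 20), (38, 0), (16, 0), (26, 10), (50, 10), (46, 0), (87, 3), (44, 4), (72, 0), (58, 1), (35, 1), (63, 10), (41, 24), (62, 0), (76, 19), (53, 18), (68, 23), (84, 18), (83, 10)]),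
     ([(30, 1), (28, 1), (11, 1), (55, 1), (39, 1), (45, 1), (51, 1), (69, 1), (18, 1), (1, 1), (25, 1), (23, 1), (79, 1), (9, 1), (6, 1), (62, 1), (88, 1), (68, 1), (13, 1), (38, 1), (72, 1), (77, 1), (49, 1), (64, 1), (17, 1), (44, 1), (86, 1), (34, 1), (81, 1), (58, 1)], .tr 53 1 [(45, 0), (51, 0), (55, 20), (23, 0), (79, 0), (39, 2), (68, 0), (30, 0), (18, 0), (77, 0), (49, 0), (69, 8), (1, 0), (44, 9), (6, 0), (17, 28), (62, 5), (88, 1), (11, 2), (72, 18), (86, 2), (38, 2), (13, 0), (28, 0), (25, 10), (34, 0), (9, 9), (64, 5), (58, 0), (81, 2)]),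
     ([(28, 1), (54, 1), (11, 1), (32, 1), (39, 1), (45, 1), (51, 1), (7, 1), (24, 1), (19, 1), (70, 1), (15, 1), (2, 1), (5, 1), (23, 1), (62, 1), (80, 1), (88, 1), (68, 1), (36, 1), (14, 1), (77, 1), (43, 1), (74, 1), (86, 1), (50, 1), (65, 1), (34, 1), (81, 1), (58, 1)], .tr 53 3 [(54, 0), (7, 0), (2, 0), (32, 3), (5, 3), (70, 0), (36, 0), (15, 0), (24, 10), (19, 0), (28, 18), (14, 0), (45, 0), (50, 10), (11, 20), (23, 20), (88, 3), (34, 28), (80, 3), (51, 18), (58, 1), (65, 14), (39, 20), (43, 0), (77, 0), (62, 0), (74, 18), (68, 23), (81, 10), (86, 23)]),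
     ([(10, 1), (27, 1), (22, 1), (32, 1), (45, 1), (40, 1), (78, 1), (69, 1), (24, 1), (18, 1), (4, 1), (8, 1), (56, 1), (53, 1), (3, 1), (60, 1), (84, 1), (76, 1), (68, 1), (63, 1), (37, 1), (89, 1), (14, 1), (49, 1), (43, 1), (73, 1), (17, 1), (35, 1), (59, 1), (82, 1)], .tr 54 0 [(10, 0), (69, 3), (32, 0), (40, 0), (27, 0), (60, 0), (84, 0), (8, 0), (17, 0), (3, 0), (14, 20), (45, 5), (78, 5), (68, 1), (24, 0), (37, 1), (89, 1), (22, 0), (76, 0), (63, 0), (59, 0), (56, 1), (35, 6), (82, 0), (43, 13), (73, 30), (53, 0), (4, 2), (18, 0), (49, 0)]),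
     ([(10, 1), (21, 1), (27, 1), (32, 1), (66, 1), (78, 1), (69, 1), (24, 1), (4, 1), (52, 1), (8, 1), (19, 1), (56, 1), (46, 1), (41, 1), (3, 1), (62, 1), (42, 1), (85, 1), (89, 1), (38, 1), (14, 1), (77, 1), (17, 1), (74, 1), (50, 1), (65, 1), (57, 1), (81, 1), (35, 1)], .tr 54 2 [(27, 0), (21, 3), (10, 0), (52, 0), (32, 0), (66, 0), (69, 0), (24, 0), (42, 4), (8, 11), (19, 11), (77, 0), (46, 3), (56, 20), (3, 11), (50, 0), (41, 3), (85, 0), (78, 20), (4, 4), (65, 1), (62, 3), (38, 4), (14, 4), (74, 0), (17, 0), (89, 24), (57, 9), (81, 0), (35, 15)]),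
     ([(0, 1), (30, 1), (29, 1), (55, 1), (66, 1), (69, 1), (4, 1), (8, 1), (25, 1), (19, 1), (23, 1), (41, 1), (79, 1), (53, 1), (3, 1), (60, 1), (47, 1), (75, 1), (48, 1), (42, 1), (88, 1), (38, 1), (14, 1), (73, 1), (17, 1), (86, 1), (65, 1), (57, 1), (35, 1), (83, 1)], .tr 55 3 [(30, 0), (8, 0), (4, 0), (55, 0), (3, 0), (69, 3), (48, 10), (0, 0), (19, 0), (25, 10), (14, 0), (79, 0), (38, 0), (29, 18), (23, 20), (88, 3), (57, 0), (42, 0), (17, 20), (35, 1), (66, 18), (65, 14), (41, 24), (75, 0), (73, 0), (47, 0), (53, 18), (60, 2), (83, 10), (86, 23)]),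
     ([(0, 1), (31, 1), (29, 1), (55, 1), (66, 1), (78, 1), (7, 1), (4, 1), (19, 1), (70, 1), (2, 1), (23, 1), (41, 1), (53, 1), (26, 1), (16, 1), (60, 1), (87, 1), (47, 1), (75, 1), (48, 1), (36, 1), (13, 1), (43, 1), (64, 1), (33, 1), (74, 1), (86, 1), (58, 1), (82, 1)], .tr 57 0 [(31, 3), (29, 0), (0, 0), (70, 0), (60, 0), (47, 0), (66, 0), (87, 0), (36, 0), (2, 3), (26, 0), (41, 0), (78, 5), (7, 0), (13, 1), (23, 1), (55, 20), (86, 1), (33, 20), (58, 1), (74, 19), (75, 5), (64, 0), (82, 0), (16, 5), (43, 13), (53, 0), (4, 2), (48, 0), (19, 1)]),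
     ([(0, 1), (28, 1), (54, 1), (31, 1), (24, 1), (4, 1), (52, 1), (23, 1), (41, 1), (67, 1), (79, 1), (9, 1), (20, 1), (71, 1), (3, 1), (60, 1), (84, 1), (47, 1), (75, 1), (42, 1), (36, 1), (63, 1), (89, 1), (14, 1), (49, 1), (73, 1), (17, 1), (35, 1), (59, 1), (82, 1)], .tr 57 1 [(54, 0), (52, 0), (23, 0), (79, 0), (41, 1), (0, 0), (75, 0), (71, 24), (42, 0), (4, 0), (49, 0), (47, 2), (31, 3), (20, 0), (17, 28), (60, 2), (89, 31), (67, 2), (14, 28), (36, 2), (24, 10), (28, 0), (73, 18), (63, 2), (3, 8), (9, 9), (84, 5), (35, 8), (82, 1), (59, 2)])],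
    [([(0, 1), (28, 1), (32, 1), (78, 1), (69, 1), (18, 1), (1, 1), (52, 1), (8, 1), (5, 1), (23, 1), (56, 1), (41, 1), (67, 1), (26, 1), (16, 1), (60, 1), (84, 1), (47, 1), (75, 1), (48, 1), (37, 1), (89, 1), (12, 1), (43, 1), (64, 1), (74, 1), (35, 1), (59, 1), (82, 1)], .tr 57 3 [(1, 0), (8, 0), (32, 3), (5, 3), (69, 3), (78, 0), (18, 0), (12, 0), (48, 10), (0, 0), (28, 18), (56, 0), (16, 0), (26, 10), (23, 20), (89, 0), (35, 1), (37, 0), (41, 24), (64, 10), (75, 0), (43, 0), (52, 18), (67, 18), (47, 0), (74, 18), (59, 1), (60, 2), (84, 18), (82, 14)]),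
     ([(21, 1), (54, 1), (31, 1), (11, 1), (29, 1), (40, 1), (66, 1), (24, 1), (1, 1), (8, 1), (19, 1), (79, 1), (53, 1), (71, 1), (6, 1), (61, 1), (47, 1), (75, 1), (42, 1), (63, 1), (89, 1), (13, 1), (38, 1), (49, 1), (73, 1), (17, 1), (86, 1), (34, 1), (57, 1), (82, 1)], .tr 58 2 [(31, 0), (21, 3), (29, 0), (11, 0), (66, 0), (75, 0), (54, 20), (24, 0), (1, 4), (49, 0), (40, 3), (42, 4), (8, 11), (19, 11), (53, 0), (86, 1), (47, 0), (61, 0), (71, 24), (63, 0), (38, 4), (79, 20), (73, 18), (17, 0), (89, 24), (6, 11), (13, 15), (57, 9), (34, 9), (82, 1)]),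
     ([(21, 1), (30, 1), (28, 1), (11, 1), (51, 1), (40, 1), (1, 1), (25, 1), (5, 1), (56, 1), (9, 1), (20, 1), (71, 1), (16, 1), (61, 1), (87, 1), (47, 1), (80, 1), (42, 1), (68, 1), (36, 1), (12, 1), (72, 1), (77, 1), (49, 1), (64, 1), (86, 1), (81, 1), (35, 1), (59, 1)], .tr 59 0 [(11, 0), (28, 0), (40, 0), (30, 20), (47, 0), (61, 0), (80, 3), (87, 0), (25, 0), (36, 0), (12, 3), (9, 0), (71, 0), (68, 1), (1, 20), (21, 0), (51, 0), (77, 5), (86, 1), (81, 0), (59, 0), (56, 1), (35, 6), (64, 0), (42, 5), (72, 5), (16, 5), (5, 1), (20, 1), (49, 0)]),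
     ([(0, 1), (30, 1), (22, 1), (29, 1), (39, 1), (51, 1), (8, 1), (25, 1), (19, 1), (15, 1), (56, 1), (46, 1), (67, 1), (71, 1), (3, 1), (6, 1), (61, 1), (87, 1), (76, 1), (80, 1), (48, 1), (42, 1), (85, 1), (12, 1), (38, 1), (73, 1), (33, 1), (65, 1), (57, 1), (83, 1)], .tr 59 1 [(22, 0), (51, 0), (46, 0), (56, 20), (0, 0), (39, 2), (30, 0), (71, 24), (48, 0), (42, 0), (15, 0), (19, 0), (80, 8), (76, 2), (6, 0), (61, 1), (85, 1), (29, 2), (67, 2), (65, 1), (38, 2), (87, 8), (12, 8), (73, 18), (8, 0), (25, 10), (3, 8), (33, 28), (57, 2), (83, 5)]),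
     ([(30, 1), (28, 1), (11, 1), (39, 1), (45, 1), (18, 1), (1, 1), (52, 1), (25, 1), (5, 1), (23, 1), (56, 1), (67, 1), (9, 1), (71, 1), (16, 1), (84, 1), (87, 1), (75, 1), (62, 1), (80, 1), (48, 1), (12, 1), (38, 1), (73, 1), (44, 1), (65, 1), (58, 1), (35, 1), (83, 1)], .tr 59 2 [(28, 0), (30, 20), (52, 0), (11, 0), (75, 0), (67, 0), (45, 3), (39, 0), (1, 4), (48, 0), (18, 4), (25, 0), (23, 3), (56, 20), (9, 11), (84, 0), (87, 0), (80, 0), (71, 24), (12, 11), (65, 1), (62, 3), (38, 4), (5, 11), (73, 18), (16, 19), (44, 0), (58, 11), (83, 0), (35, 15)]),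
     ([(21, 1), (27, 1), (54, 1), (31, 1), (11, 1), (40, 1), (7, 1), (25, 1), (19, 1), (15, 1), (79, 1), (53, 1), (71, 1), (3, 1), (6, 1), (61, 1), (84, 1), (47, 1), (76, 1), (68, 1), (36, 1), (89, 1), (12, 1), (72, 1), (49, 1), (43, 1), (64, 1), (33, 1), (81, 1), (58, 1)], .tr 60 3 [(31, 3), (54, 0), (7, 0), (3, 0), (36, 0), (15, 0), (12, 0), (27, 18), (21, 0), (19, 0), (25, 10), (49, 10), (6, 3), (79, 0), (71, 0), (11, 20), (89, 0), (72, 0), (58, 1), (33, 0), (64, 10), (40, 0), (43, 0), (47, 0), (76, 19), (53, 18), (68, 23), (81, 10), (84, 18), (61, 24)]),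
     ([(0, 1), (27, 1), (22, 1), (32, 1), (39, 1), (78, 1), (69, 1), (18, 1), (4, 1), (25, 1), (2, 1), (56, 1), (46, 1), (53, 1), (9, 1), (16, 1), (61, 1), (84, 1), (76, 1), (68, 1), (89, 1), (13, 1), (38, 1), (72, 1), (49, 1), (64, 1), (33, 1), (44, 1), (81, 1), (58, 1)], .tr 61 2 [(27, 0), (0, 3), (32, 0), (22, 3), (69, 0), (39, 0), (18, 4), (25, 0), (2, 11), (49, 0), (53, 0), (68, 1), (46, 3), (56, 20), (9, 11), (84, 0), (76, 0), (78, 20), (4, 4), (72, 18), (61, 0), (64, 0), (38, 4), (16, 19), (44, 0), (89, 24), (13, 15), (81, 0), (58, 11), (33, 4)]),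
     ([(10, 1), (21, 1), (27, 1), (54, 1), (32, 1), (24, 1), (8, 1), (19, 1), (70, 1), (15, 1), (46, 1), (41, 1), (53, 1), (3, 1), (6, 1), (84, 1), (62, 1), (76, 1), (80, 1), (42, 1), (88, 1), (68, 1), (63, 1), (12, 1), (38, 1), (49, 1), (73, 1), (33, 1), (57, 1), (82, 1)], .tr 62 0 [(10, 0), (32, 0), (27, 0), (70, 0), (84, 0), (80, 3), (8, 0), (12, 3), (38, 0), (88, 3), (3, 0), (41, 0), (62, 1), (68, 1), (24, 0), (15, 5), (21, 0), (54, 20), (46, 5), (76, 0), (63, 0), (57, 0), (33, 20), (42, 5), (82, 0), (6, 6), (73, 30), (53, 0), (19, 1), (49, 0)]),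
     ([(21, 1), (27, 1), (30, 1), (11, 1), (55, 1), (40, 1), (69, 1), (18, 1), (8, 1), (15, 1), (2, 1), (5, 1), (79, 1), (53, 1), (26, 1), (61, 1), (84, 1), (47, 1), (76, 1), (88, 1), (68, 1), (63, 1), (37, 1), (72, 1), (14, 1), (43, 1), (50, 1), (34, 1), (59, 1), (83, 1)], .tr 62 1 [(21, 0), (55, 20), (53, 0), (79, 0), (68, 0), (30, 0), (18, 0), (15, 0), (43, 0), (69, 8), (5, 0), (47, 2), (40, 5), (76, 2), (50, 0), (2, 3), (61, 1), (88, 1), (11, 2), (27, 0), (72, 18), (37, 0), (14, 28), (8, 0), (63, 2), (34, 0), (26, 9), (84, 5), (59, 2), (83, 5)]),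
     ([(10, 1), (21, 1), (30, 1), (29, 1), (51, 1), (24, 1), (15, 1), (2, 1), (5, 1), (56, 1), (46, 1), (41, 1), (67, 1), (9, 1), (20, 1), (71, 1), (87, 1), (62, 1), (76, 1), (80, 1), (42, 1), (85, 1), (36, 1), (63, 1), (14, 1), (49, 1), (73, 1), (34, 1), (59, 1), (82, 1)], .tr 62 3 [(30, 0), (2, 0), (9, 0), (5, 3), (36, 0), (15, 0), (24, 10), (21, 0), (49, 10), (14, 0), (10, 20), (56, 0), (71, 0), (20, 0), (29, 18), (46, 0), (87, 3), (34, 28), (80, 3), (42, 0), (51, 18), (63, 10), (41, 24), (73, 0), (67, 18), (62, 0), (76, 19), (59, 1), (82, 14), (85, 18)]),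
     ([(10, 1), (21, 1), (29, 1), (32, 1), (51, 1), (78, 1), (69, 1), (7, 1), (1, 1), (25, 1), (5, 1), (56, 1), (46, 1), (41, 1), (67, 1), (20, 1), (16, 1), (62, 1), (76, 1), (85, 1), (37, 1), (89, 1), (12, 1), (72, 1), (49, 1), (64, 1), (44, 1), (57, 1), (81, 1), (35, 1)], .tr 63 0 [(10, 0), (29, 0), (69, 3), (32, 0), (25, 0), (12, 3), (67, 0), (41, 0), (62, 1), (85, 0), (78, 5), (7, 0), (37, 1), (89, 1), (1, 20), (21, 0), (51, 0), (46, 5), (76, 0), (44, 4), (57, 0), (81, 0), (56, 1), (35, 6), (64, 0), (72, 5), (16, 5), (5, 1), (20, 1), (49, 0)]),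
     ([(27, 1), (31, 1), (11, 1), (55, 1), (39, 1), (45, 1), (78, 1), (7, 1), (4, 1), (25, 1), (19, 1), (70, 1), (23, 1), (53, 1), (3, 1), (84, 1), (87, 1), (62, 1), (76, 1), (48, 1), (68, 1), (36, 1), (14, 1), (43, 1), (73, 1), (17, 1), (65, 1), (58, 1), (35, 1), (83, 1)], .tr 64 2 [(27, 0), (31, 0), (11, 0), (45, 3), (39, 0), (48, 0), (7, 4), (55, 20), (25, 0), (19, 11), (53, 0), (23, 3), (68, 1), (70, 20), (3, 11), (43, 4), (84, 0), (87, 0), (76, 0), (78, 20), (4, 4), (65, 1), (62, 3), (36, 11), (73, 18), (14, 4), (17, 0), (58, 11), (83, 0), (35, 15)])]]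
  nSteps := 76
  fin := [(0, 2), (1, 4), (2, 2), (3, 4), (4, 4), (5, 4), (6, 4), (7, 4), (8, 2), (9, 2), (10, 2), (11, 4), (12, 4), (13, 4), (14, 4), (15, 4), (16, 4), (17, 4), (18, 4), (19, 4), (20, 4), (21, 4), (22, 4), (23, 4), (24, 4), (25, 4), (26, 4), (27, 4), (28, 4), (29, 4), (30, 1), (31, 3), (32, 2), (34, 2), (35, 4), (36, 1), (37, 4), (38, 2), (40, 2), (41, 1), (42, 4), (43, 4), (44, 2), (45, 1), (46, 2), (47, 4), (48, 2), (49, 4), (50, 1), (51, 4), (52, 4), (55, 1), (56, 3), (57, 4), (58, 1), (60, 3), (61, 4), (62, 3), (64, 2), (65, 3), (66, 4), (67, 1), (68, 1), (69, 1), (70, 2), (71, 3), (72, 1), (73, 2), (74, 3), (75, 3)]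

theorem ks_eq : data.killed = [Words.a5B5, Words.a5D, Words.a5Dodd, Words.qA5] := by decide +kernel

theorem xgens_eq : data.fixedBy = Words.eigV4Pos := by decide +kernel

theorem checked : data.checked data.eqv1 = true := by decide +kernel

end H63.ModCert.P5L3
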