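import Cfsg.Agent.H63.ModCert.Words

/-! Certificate P5L4 (computed offline). -/

set_option autoImplicit false

namespace H63.ModCert.P5L4

/-- certificate data -/
def data : Data where
  n := 10
  p := 5
  N := 36
  gens := [[(4, 5), (5, 6)],
    [(5, 6), (6, 7), (7, 8), (8, 9)],
    [(0, 1), (2, 3)],
    [(0, 2), (1, 3)],
    [(4, 5), (5, 6), (6, 7), (7, 9)],
    [(5, 9), (6, 7)],
    [(6, 7), (7, 8)],
    [(4, 5), (5, 6), (6, 7), (7, 8)],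
    [(4, 9), (5, 8)],
    [(5, 6), (6, 7)]]
  xgens := [(2, 1), (3, 1), (4, 1), (5, 4)]
  xs := [[([], 1, 0, 0),
     ([(0, 1), (2, 3)], 1, 0, 0),
     ([(0, 2), (1, 3)], 1, 1, 0),
     ([(4, 5), (5, 6), (6, 7), (7, 9)], 1, 2, 0),
     ([(5, 9), (6, 7)], 4, 3, 0),
     ([(4, 6), (6, 9), (9, 5), (5, 7)], 1, 2, 3),
     ([(4, 9), (5, 7)], 4, 3, 3),
     ([(4, 5), (6, 9)], 4, 2, 4),
     ([(4, 7), (7, 5), (5, 9), (9, 6)], 1, 2, 5),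
     ([(4, 7), (5, 6)], 4, 3, 5),
     ([(4, 6), (7, 9)], 4, 2, 7),
     ([(4, 9), (9, 7), (7, 6), (6, 5)], 1, 3, 7)]]
  nX := 12
  reps := [[[],
     [(5, 6), (6, 7), (7, 8), (8, 9)],
     [(4, 9), (5, 8)],
     [(4, 5), (5, 7), (7, 8), (6, 9)],
     [(4, 5), (5, 6), (6, 8), (8, 7)],
     [(5, 6), (7, 8)],
     [(4, 6), (6, 8), (8, 5), (5, 7)],
     [(4, 8), (8, 9), (5, 6), (6, 7)],
     [(4, 5), (5, 9), (6, 7), (7, 8)],
     [(4, 7), (7, 8), (8, 6), (6, 5)],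
     [(4, 7), (7, 6), (6, 5), (5, 8)],
     [(4, 6), (5, 7), (7, 8), (8, 9)],
     [(4, 5), (5, 7), (7, 8), (8, 6)],
     [(4, 5), (6, 7), (7, 8), (8, 9)],
     [(5, 6), (6, 8), (8, 7), (7, 9)],
     [(4, 6), (6, 9), (5, 7), (7, 8)],
     [(4, 9), (9, 5), (6, 7), (7, 8)],
     [(4, 6), (6, 5), (5, 9), (7, 8)],
     [(4, 7), (5, 8)],
     [(6, 7), (7, 8)],
     [(4, 6), (6, 5), (5, 7), (7, 8)],
     [(4, 6), (5, 7)],
     [(5, 7), (7, 9), (9, 6), (6, 8)],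
     [(4, 9), (9, 5), (5, 7), (7, 8)],
     [(4, 5), (5, 7), (6, 8), (8, 9)],
     [(5, 7), (7, 8), (8, 9), (9, 6)],
     [(4, 5), (5, 6), (6, 9), (7, 8)],
     [(5, 9), (7, 8)],
     [(4, 5), (5, 7), (7, 6), (6, 8)],
     [(4, 5), (5, 6)],
     [(5, 7), (7, 6)],
     [(4, 5), (5, 6), (6, 7), (7, 8)]],
    [[(4, 8), (8, 5), (5, 6), (6, 9)],
     [(5, 6), (6, 7)],
     [(4, 6), (6, 5)],
     [(4, 8), (8, 6), (6, 9), (9, 5)]]]
  Ks := [[(0, 1), (9, 1)], [(2, 1), (3, 1), (4, 1), (5, 1)]]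
  steps := [[([(1, 1), (2, 4), (3, 1), (4, 1), (5, 4), (6, 4), (7, 1), (8, 1), (9, 1), (10, 4)], .kill 1 [([], [(1, 1), (2, 1), (3, 1), (4, 1), (5, 1), (6, 1), (7, 1), (8, 1), (9, 1), (10, 1)]), ([], [(1, 2), (2, 2), (3, 2), (4, 2), (5, 2), (6, 2), (7, 2), (8, 2), (9, 2), (10, 2)]), ([], [(3, 0), (8, 6), (6, 4), (1, 3), (7, 9), (9, 4), (10, 7), (5, 7), (4, 11), (2, 0)]), ([], [(2, 6), (1, 6), (10, 6), (8, 3), (9, 7), (7, 10), (6, 10), (4, 11), (5, 7), (3, 6)])]),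
     ([(11, 4), (12, 1), (13, 1), (3, 4), (14, 4), (15, 1), (16, 4), (17, 4), (10, 1), (18, 4)], .tr 0 0 [(13, 0), (12, 6), (15, 0), (17, 4), (14, 11), (16, 3), (11, 9), (10, 8), (3, 7), (18, 0)]),
     ([(0, 1), (19, 4), (20, 4), (21, 1), (22, 1), (5, 1), (23, 1), (8, 4), (17, 1), (18, 1)], .tr 0 1 [(22, 0), (8, 0), (23, 5), (0, 5), (21, 10), (19, 5), (18, 11), (5, 3), (17, 8), (20, 8)]),
     ([(20, 1), (24, 1), (25, 4), (26, 1), (27, 4), (15, 4), (28, 4), (8, 4), (9, 4), (18, 1)], .tr 1 0 [(25, 0), (20, 0), (24, 11), (15, 0), (26, 4), (9, 7), (28, 11), (27, 0), (18, 0), (8, 5)]),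
     ([(29, 4), (20, 1), (26, 1), (4, 1), (15, 4), (23, 4), (6, 4), (16, 1), (30, 4), (9, 4)], .tr 1 1 [(6, 3), (4, 3), (15, 4), (23, 5), (29, 5), (16, 5), (26, 4), (30, 3), (20, 8), (9, 8)]),
     ([(29, 1), (19, 1), (31, 4), (2, 1), (32, 1), (14, 1), (27, 1), (8, 1), (30, 1), (10, 4)], .tr 2 0 [(29, 0), (31, 0), (2, 6), (30, 0), (19, 3), (14, 11), (32, 5), (10, 8), (27, 0), (8, 5)]),
     ([(1, 1), (12, 1), (21, 4), (24, 1), (14, 4), (5, 4), (28, 4), (30, 1), (9, 1), (10, 4)], .tr 2 1 [(1, 0), (14, 0), (28, 3), (24, 3), (12, 5), (21, 10), (10, 10), (5, 3), (30, 3), (9, 8)]),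
     ([(2, 4), (33, 1), (34, 4), (32, 4), (3, 1), (5, 4), (28, 1), (16, 4), (9, 1), (17, 4)], .tr 3 1 [(28, 3), (2, 10), (32, 11), (33, 3), (34, 3), (16, 5), (3, 6), (5, 3), (17, 8), (9, 8)]),
     ([(0, 1), (19, 4), (33, 1), (11, 4), (26, 4), (28, 1), (7, 4), (16, 4), (17, 4), (10, 1)], .tr 4 1 [(11, 0), (28, 3), (33, 3), (0, 5), (16, 5), (10, 10), (19, 5), (26, 4), (7, 11), (17, 8)]),
     ([(31, 1), (33, 4), (34, 1), (12, 4), (22, 4), (26, 4), (4, 4), (10, 1), (18, 4), (35, 1)], .tr 5 0 [(34, 0), (31, 0), (22, 11), (12, 6), (35, 0), (26, 4), (4, 4), (10, 8), (33, 9), (18, 0)]),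
     ([(29, 1), (31, 4), (34, 1), (11, 1), (20, 4), (14, 1), (5, 1), (7, 1), (8, 1), (35, 1)], .tr 5 1 [(11, 0), (14, 0), (31, 3), (8, 0), (35, 5), (29, 5), (34, 3), (5, 3), (7, 11), (20, 8)]),
     ([(29, 1), (31, 4), (11, 1), (21, 4), (25, 4), (27, 4), (5, 1), (28, 4), (6, 1), (18, 1)], .tr 8 0 [(29, 0), (31, 0), (21, 9), (25, 0), (5, 7), (6, 0), (11, 9), (28, 11), (27, 0), (18, 0)]),
     ([(0, 1), (2, 1), (34, 1), (11, 4), (22, 4), (25, 1), (14, 1), (26, 4), (23, 1), (10, 1)], .tr 10 0 [(34, 0), (22, 11), (0, 0), (25, 0), (2, 6), (26, 4), (14, 11), (11, 9), (10, 8), (23, 8)]),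
     ([(19, 1), (31, 1), (2, 4), (12, 1), (20, 1), (22, 1), (3, 4), (14, 1), (26, 4), (5, 1), (15, 4), (9, 1)], .kill 0 [([], [(31, 0), (22, 11), (12, 6), (20, 0), (2, 6), (19, 3), (15, 0), (26, 4), (5, 7), (14, 11), (9, 7), (3, 7)]), ([], [(5, 0), (20, 0), (19, 6), (26, 7), (3, 7), (9, 3), (31, 7), (22, 0), (15, 0), (2, 6), (12, 7), (14, 11)])]),
     ([(29, 1), (31, 1), (33, 4), (12, 1), (21, 4), (14, 1), (4, 1), (23, 4), (28, 1), (8, 4), (16, 4), (17, 1)], .tr 13 1 [(14, 0), (31, 3), (8, 0), (4, 3), (28, 3), (12, 5), (23, 5), (29, 5), (33, 3), (21, 10), (16, 5), (17, 8)]),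
     ([(34, 1), (20, 1), (32, 4), (21, 1), (22, 1), (26, 4), (27, 1), (28, 4), (6, 1), (30, 4), (17, 4), (10, 4)], .tr 14 0 [(34, 0), (22, 11), (21, 9), (20, 0), (30, 0), (26, 4), (17, 4), (32, 5), (6, 0), (10, 8), (28, 11), (27, 0)]),
     ([(0, 1), (29, 1), (31, 1), (11, 1), (13, 4), (3, 4), (24, 4), (26, 1), (4, 1), (5, 4), (30, 1), (10, 1)], .tr 14 1 [(11, 0), (31, 3), (13, 3), (4, 3), (24, 3), (29, 5), (0, 5), (10, 10), (3, 6), (5, 3), (26, 4), (30, 3)]),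
     ([(0, 1), (19, 1), (2, 4), (33, 1), (27, 4), (4, 4), (5, 1), (6, 4), (16, 1), (30, 1), (18, 4), (35, 4)], .tr 15 0 [(0, 0), (2, 6), (35, 0), (30, 0), (19, 3), (5, 7), (4, 4), (6, 0), (16, 3), (33, 9), (27, 0), (18, 0)]),
     ([(0, 1), (1, 1), (31, 1), (2, 1), (33, 1), (11, 1), (20, 1), (21, 1), (15, 1), (23, 4), (6, 1), (7, 1)], .tr 16 1 [(1, 0), (11, 0), (31, 3), (6, 3), (15, 4), (23, 5), (2, 10), (33, 3), (0, 5), (21, 10), (7, 11), (20, 8)]),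
     ([(0, 4), (1, 1), (19, 4), (34, 4), (21, 4), (13, 1), (14, 1), (26, 4), (27, 1), (7, 1), (8, 4), (9, 4)], .tr 17 1 [(1, 0), (14, 0), (8, 0), (13, 3), (34, 3), (0, 5), (21, 10), (19, 5), (26, 4), (7, 11), (9, 8), (27, 7)]),
     ([(32, 1), (27, 4), (4, 1), (23, 1), (28, 1), (6, 1), (8, 4), (16, 1), (17, 4), (10, 4), (18, 4), (35, 1)], .kill 0 [([], [(35, 0), (4, 4), (17, 4), (32, 5), (6, 0), (16, 3), (10, 8), (28, 11), (27, 0), (18, 0), (8, 5), (23, 8)]), ([], [(8, 9), (18, 8), (6, 0), (28, 11), (10, 9), (35, 8), (17, 0), (27, 7), (32, 9), (23, 6), (16, 6), (4, 5)])]),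
     ([(0, 1), (19, 1), (34, 4), (20, 4), (3, 4), (26, 4), (27, 4), (5, 4), (30, 4), (9, 4), (10, 4), (35, 1)], .tr 20 1 [(35, 5), (34, 3), (0, 5), (10, 10), (3, 6), (19, 5), (5, 3), (26, 4), (30, 3), (20, 8), (9, 8), (27, 7)]),
     ([(0, 4), (29, 1), (31, 1), (2, 1), (33, 1), (3, 1), (14, 4), (4, 1), (5, 1), (15, 4), (23, 1), (18, 4)], .tr 21 0 [(29, 0), (31, 0), (0, 0), (2, 6), (15, 0), (5, 7), (4, 4), (14, 11), (33, 9), (3, 7), (18, 0), (23, 8)]),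
     ([(1, 1), (33, 4), (34, 4), (20, 4), (21, 1), (25, 1), (14, 1), (27, 4), (23, 4), (28, 4), (7, 4), (17, 4)], .tr 21 1 [(1, 0), (14, 0), (25, 7), (28, 3), (23, 5), (33, 3), (34, 3), (21, 10), (7, 11), (17, 8), (20, 8), (27, 7)]),
     ([(0, 1), (29, 4), (1, 4), (31, 1), (11, 1), (21, 4), (13, 1), (23, 1), (8, 1), (16, 4), (9, 4), (10, 4)], .tr 22 1 [(1, 0), (11, 0), (31, 3), (8, 0), (13, 3), (23, 5), (29, 5), (0, 5), (21, 10), (16, 5), (10, 10), (9, 8)]),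
     ([(0, 4), (2, 1), (11, 1), (32, 4), (21, 1), (13, 1), (26, 4), (27, 4), (4, 1), (6, 4), (7, 4), (30, 1)], .tr 23 0 [(13, 0), (21, 9), (0, 0), (2, 6), (30, 0), (7, 9), (26, 4), (4, 4), (32, 5), (6, 0), (11, 9), (27, 0)]),
     ([(0, 1), (1, 4), (19, 4), (33, 4), (34, 4), (24, 1), (15, 4), (6, 1), (7, 1), (8, 1), (18, 4), (35, 4)], .tr 25 1 [(1, 0), (8, 0), (6, 3), (35, 5), (24, 3), (15, 4), (33, 3), (34, 3), (0, 5), (19, 5), (18, 11), (7, 11)])]]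
  nSteps := 27
  fin := [(1, 4), (2, 2), (3, 1), (4, 2), (5, 3), (6, 4), (7, 3), (9, 3), (10, 1), (11, 3), (12, 4), (13, 3), (14, 2), (15, 2), (16, 2), (17, 4), (18, 2), (19, 3), (21, 2), (22, 3), (24, 2), (25, 3), (26, 2)]

theorem ks_eq : data.killed = [Words.qB5, Words.eigV4Pos] := by decide +kernel

theorem xgens_eq : data.fixedBy = Words.eigV4Neg := by decide +kernel

theorem checked : data.checked data.eqv1 = true := by decide +kernel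

end H63.ModCert.P5L4
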