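import Cfsg.Agent.H63.ModCert.Facts
import Cfsg.Agent.H63.ModCert.P5L1
import Cfsg.Agent.H63.ModCert.P5L2
import Cfsg.Agent.H63.ModCert.P5L3
import Cfsg.Agent.H63.ModCert.P5L4

/-!
In characteristic five every nonzero finite module over A₁₀ has a nonzero vector fixed by a
nonsolvable subgroup.

The certificates show that a Klein four group on four points fixes nothing, so each of its three
involutions fixes a third of the dimension.  But the ten involutions (2i 2i+1)(2j 2j+1) commute
and on each common eigen space at least four of them act trivially.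
-/

set_option autoImplicit false

namespace H63.ModCert

section split

variable {G V : Type*} [Group G] [AddCommGroup V] [DistribMulAction G V] [Finite V]

/-- the vectors of `U` on which `g` acts by the sign `σ` -/
def eigen (U : AddSubgroup V) (g : G) (σ : Bool) : AddSubgroup V where
  carrier := {u | u ∈ U ∧ g • u = if σ then u else -u}
  add_mem' := by
    rintro a b ⟨ha, ha'⟩ ⟨hb, hb'⟩
    refine ⟨U.add_mem ha hb, ?_⟩
    rw [smul_add, ha', hb']
    cases σ <;> simp [add_comm]
  zero_mem' := ⟨U.zero_mem, by simp⟩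
  neg_mem' := by
    rintro a ⟨ha, ha'⟩
    refine ⟨U.neg_mem ha, ?_⟩
    rw [smul_neg, ha']
    cases σ <;> simp

theorem mem_eigen {U : AddSubgroup V} {g : G} {σ : Bool} {u : V} :
    u ∈ eigen U g σ ↔ u ∈ U ∧ g • u = if σ then u else -u := Iff.rfl

/-- An involution splits an invariant subgroup. -/
theorem card_split (hp : ∀ v : V, 5 • v = 0) {U : AddSubgroup V} {g : G} (hg : g * g = 1)
    (hU : ∀ u ∈ U, g • u ∈ U) :
    Nat.card U = Nat.card (eigen U g true) * Nat.card (eigen U g false) := by
  have hgg : ∀ u : V, g • g • u = u := fun u => by rw [← mul_smul, hg, one_smul]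
  let f : U → eigen U g true × eigen U g false := fun u =>
    (⟨3 • ((u : V) + g • (u : V)), U.nsmul_mem (U.add_mem u.2 (hU _ u.2)) 3, by
        rw [smul_comm g 3, smul_add, hgg, add_comm]; rfl⟩,
      ⟨3 • ((u : V) - g • (u : V)), U.nsmul_mem (U.sub_mem u.2 (hU _ u.2)) 3, by
        rw [smul_comm g 3, smul_sub, hgg]
        simp only [Bool.false_eq_true, if_false]
        rw [← smul_neg, neg_sub]⟩)
  rw [← Nat.card_prod]
  refine Nat.card_eq_of_bijective f ⟨?_, ?_⟩
  · intro a b h
    simp only [f, Prod.mk.injEq, Subtype.mk.injEq] at h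
    apply Subtype.ext
    have key : ∀ x : V, x = 3 • (x + g • x) + 3 • (x - g • x) := fun x => by
      calc x = 5 • x + x := by rw [hp, zero_add]
        _ = _ := by abel
    have e1 : 3 • ((a : V) + g • (a : V)) = 3 • ((b : V) + g • (b : V)) :=
      congrArg Subtype.val h.1
    have e2 : 3 • ((a : V) - g • (a : V)) = 3 • ((b : V) - g • (b : V)) :=
      congrArg Subtype.val h.2
    rw [key (a : V), key (b : V), e1, e2]
  · rintro ⟨⟨a, ha, ha'⟩, ⟨b, hb, hb'⟩⟩
    simp only [if_true] at ha'
    simp only [Bool.false_eq_true, if_false] at hb'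
    refine ⟨⟨a + b, U.add_mem ha hb⟩, ?_⟩
    refine Prod.ext (Subtype.ext ?_) (Subtype.ext ?_)
    · show 3 • ((a + b) + g • (a + b)) = a
      rw [smul_add g, ha', hb']
      calc _ = 5 • a + a := by abel
        _ = a := by rw [hp, zero_add]
    · show 3 • ((a + b) - g • (a + b)) = b
      rw [smul_add g, ha', hb']
      calc _ = 5 • b + b := by abel
        _ = b := by rw [hp, zero_add]

theorem eigen_stable {U : AddSubgroup V} {g t : G} {σ : Bool} (hc : Commute g t)
    (hU : ∀ u ∈ U, t • u ∈ U) : ∀ u ∈ eigen U g σ, t • u ∈ eigen U g σ := by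
  rintro u ⟨hu, hu'⟩
  refine ⟨hU u hu, ?_⟩
  rw [← mul_smul, hc.eq, mul_smul, hu']
  cases σ <;> simp

theorem eigen_comm (U : AddSubgroup V) (g t : G) (σ τ : Bool) :
    eigen (eigen U g σ) t τ = eigen (eigen U t τ) g σ := by
  ext u
  simp only [mem_eigen]
  tauto

/-- product over the involutions in `T` of the number of fixed points in `U` -/
noncomputable def fixProd (U : AddSubgroup V) (T : List G) : ℕ :=
  (T.map fun t => Nat.card (eigen U t true)).prod

theorem fixProd_split (hp : ∀ v : V, 5 • v = 0) {U : AddSubgroup V} {g : G} (hg : g * g = 1)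
    (hU : ∀ u ∈ U, g • u ∈ U) (T : List G) (hT : ∀ t ∈ T, Commute g t) :
    fixProd U T = fixProd (eigen U g true) T * fixProd (eigen U g false) T := by
  induction T with
  | nil => simp [fixProd]
  | cons t T ih =>
    have ih := ih fun x hx => hT x (List.mem_cons_of_mem _ hx)
    have h1 := card_split hp (U := eigen U t true) hg
      (eigen_stable (hT t List.mem_cons_self).symm hU)
    rw [eigen_comm U t g true true, eigen_comm U t g true false] at h1
    simp only [fixProd, List.map_cons, List.prod_cons] at ih ⊢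
    rw [ih, h1]
    ring

theorem fixProd_ge (hp : ∀ v : V, 5 • v = 0) (m : ℕ) (T : List G) :
    ∀ (gs : List G), (∀ g ∈ gs, g * g = 1) → (∀ g ∈ gs, ∀ t ∈ T, Commute g t) →
      (∀ g ∈ gs, ∀ h ∈ gs, Commute g h) → ∀ U : AddSubgroup V,
        (∀ g ∈ gs, ∀ u ∈ U, g • u ∈ U) →
        (∀ σ : List Bool, σ.length = gs.length → ∀ W : AddSubgroup V, W ≤ U →
          (∀ i < gs.length, ∀ u ∈ W, gs.getD i 1 • u = if σ.getD i true then u else -u) →
            (Nat.card W) ^ m ≤ fixProd W T) →
        (Nat.card U) ^ m ≤ fixProd U T := by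
  intro gs
  induction gs with
  | nil => intro _ _ _ U _ hleaf; exact hleaf [] rfl U le_rfl (by simp)
  | cons g gs ih =>
    intro hsq hT hcomm U hU hleaf
    have hmem : g ∈ g :: gs := List.mem_cons_self
    have hg := hsq g hmem
    rw [fixProd_split hp hg (hU g hmem) T (hT g hmem), card_split hp hg (hU g hmem), mul_pow]
    have sub : ∀ τ : Bool, (Nat.card (eigen U g τ)) ^ m ≤ fixProd (eigen U g τ) T := by
      intro τ
      refine ih (fun x hx => hsq x (List.mem_cons_of_mem _ hx))
        (fun x hx => hT x (List.mem_cons_of_mem _ hx))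
        (fun x hx y hy => hcomm x (List.mem_cons_of_mem _ hx) y (List.mem_cons_of_mem _ hy))
        _ (fun x hx => eigen_stable (hcomm g hmem x (List.mem_cons_of_mem _ hx))
          (hU x (List.mem_cons_of_mem _ hx))) ?_
      intro σ hσ W hW hs
      refine hleaf (τ :: σ) (by simp [hσ]) W (fun u hu => (hW hu).1) ?_
      intro i hi u hu
      cases i with
      | zero => simpa using (hW hu).2
      | succ i => simpa using hs i (by simpa using hi) u hu
    exact Nat.mul_le_mul (sub true) (sub false)

end split

/-- the four generators of the elementary abelian group of even sets of pairs -/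
def pairGens : List Word :=
  [[(0, 1), (2, 3)], [(2, 3), (4, 5)], [(4, 5), (6, 7)], [(6, 7), (8, 9)]]

/-- for each of the ten involutions: the word, the generators multiplying to it, and an element
conjugating (0 1)(2 3) to it -/
def tenInvolutions : List (Word × List ℕ × Word) :=
  [([(0, 1), (2, 3)], [0], []),
    ([(0, 1), (4, 5)], [0, 1], [(2, 4), (3, 5)]),
    ([(0, 1), (6, 7)], [0, 1, 2], [(2, 6), (6, 4), (3, 7), (7, 5)]),
    ([(0, 1), (8, 9)], [0, 1, 2, 3], [(2, 8), (8, 6), (6, 4), (3, 9), (9, 7), (7, 5)]),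
    ([(2, 3), (4, 5)], [1], [(0, 2), (2, 4), (1, 3), (3, 5)]),
    ([(2, 3), (6, 7)], [1, 2], [(0, 2), (2, 6), (6, 4), (1, 3), (3, 7), (7, 5)]),
    ([(2, 3), (8, 9)], [1, 2, 3],
      [(0, 2), (2, 8), (8, 6), (6, 4), (1, 3), (3, 9), (9, 7), (7, 5)]),
    ([(4, 5), (6, 7)], [2], [(0, 4), (1, 5), (2, 6), (3, 7)]),
    ([(4, 5), (8, 9)], [2, 3], [(0, 4), (1, 5), (2, 8), (8, 6), (3, 9), (9, 7)]),
    ([(6, 7), (8, 9)], [3], [(0, 6), (6, 2), (2, 8), (8, 4), (1, 7), (7, 3), (3, 9), (9, 5)])]

def pairWord (a : List ℕ) : Word := a.flatMap fun i => pairGens.getD i []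

def signProd (σ : List Bool) (a : List ℕ) : Bool :=
  a.foldr (fun i b => σ.getD i true == b) true

def tenOK : Bool :=
  pairGens.all (fun g => okW 10 g && eqW 10 (g ++ g) []) &&
  pairGens.all (fun g => pairGens.all fun h => eqW 10 (g ++ h) (h ++ g)) &&
  pairGens.all (fun g => tenInvolutions.all fun t => eqW 10 (g ++ t.1) (t.1 ++ g)) &&
  tenInvolutions.all (fun t => okW 10 t.1 && okW 10 t.2.2 &&
    eqW 10 (t.2.2 ++ [(0, 1), (2, 3)]) (t.1 ++ t.2.2) && eqW 10 t.1 (pairWord t.2.1) &&
    t.2.1.all (fun i => Nat.blt i 4))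

theorem tenOK_true : tenOK = true := by decide +kernel

theorem four_positive : ∀ a b c d : Bool,
    4 ≤ (tenInvolutions.filter fun t => signProd [a, b, c, d] t.2.1).length := by decide

theorem card_fixed_conj {G V : Type*} [Group G] [AddCommGroup V] [DistribMulAction G V]
    [Finite V] {g a b : G} (h : g * a = b * g) :
    Nat.card (eigen (⊤ : AddSubgroup V) b true) = Nat.card (eigen (⊤ : AddSubgroup V) a true) := by
  have h1 : ∀ u : eigen (⊤ : AddSubgroup V) a true,
      g • (u : V) ∈ eigen (⊤ : AddSubgroup V) b true := fun u =>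
    ⟨trivial, by
      show b • g • (u : V) = g • (u : V)
      rw [← mul_smul, ← h, mul_smul]
      exact congrArg (g • ·) u.2.2⟩
  have h2 : ∀ u : eigen (⊤ : AddSubgroup V) b true,
      g⁻¹ • (u : V) ∈ eigen (⊤ : AddSubgroup V) a true := fun u =>
    ⟨trivial, by
      show a • g⁻¹ • (u : V) = g⁻¹ • (u : V)
      rw [← mul_smul, show a * g⁻¹ = g⁻¹ * b by rw [eq_inv_mul_iff_mul_eq, ← mul_assoc, h,
        mul_inv_cancel_right], mul_smul]
      exact congrArg (g⁻¹ • ·) u.2.2⟩
  exact (Nat.card_congr
    { toFun := fun u => ⟨_, h1 u⟩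
      invFun := fun u => ⟨_, h2 u⟩
      left_inv := fun u => Subtype.ext (inv_smul_smul g (u : V))
      right_inv := fun u => Subtype.ext (smul_inv_smul g (u : V)) }).symm

set_option maxHeartbeats 1600000 in
theorem eq_zero_of_noFix_ten {V : Type*} [AddCommGroup V] [Finite V]
    [DistribMulAction (alternatingGroup (Fin 10)) V] (hp : ∀ u : V, 5 • u = 0)
    (hV : NoFix 10 V) : ∀ u : V, u = 0 := by
  have hA : Kills 10 V Words.a5A5 := kills_of_perfect (C := Words.a5A5Comm) (by decide +kernel) hV
  have hB : Kills 10 V Words.a5B5 := kills_of_perfect (C := Words.a5B5Comm) (by decide +kernel) hV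
  have hD : Kills 10 V Words.a5D := kills_of_perfect (C := Words.a5DComm) (by decide +kernel) hV
  have hD' : Kills 10 V Words.a5Dodd :=
    kills_of_perfect (C := Words.a5DoddComm) (by decide +kernel) hV
  have hpt : Kills 10 V Words.a5Pt := kills_of_perfect (C := Words.a5PtComm) (by decide +kernel) hV
  have hsix : Kills 10 V Words.a5Six :=
    kills_of_perfect (C := Words.a5SixComm) (by decide +kernel) hV
  have h1 : Kills 10 V Words.eigA4Neg := by
    rw [← P5L1.xgens_eq]
    refine P5L1.data.sound1 rfl hp P5L1.checked fun K hK => ?_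
    simp only [P5L1.ks_eq, List.mem_cons, List.not_mem_nil, or_false] at hK
    rcases hK with rfl | rfl | rfl <;> assumption
  have h2 : Kills 10 V Words.eigA4Pos := by
    rw [← P5L2.xgens_eq]
    refine P5L2.data.sound1 rfl hp P5L2.checked fun K hK => ?_
    simp only [P5L2.ks_eq, List.mem_cons, List.not_mem_nil, or_false] at hK
    rcases hK with rfl | rfl | rfl <;> assumption
  have hQ : Kills 10 V Words.qA5 :=
    five_descend (y := [(4, 5), (5, 6), (6, 7), (7, 9)]) (u := [(5, 9), (6, 7)]) hp
      (by decide +kernel) h2 h1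
  have hQ' : Kills 10 V Words.qB5 := by
    refine kills_of_le (K := [([(4, 5), (5, 6)], 1), ([(4, 5), (6, 7)], 1)]) [[0], [0, 1]]
      (by decide +kernel) (by decide +kernel) ?_
    exact kills_conj (K := Words.qA5) (g := [(0, 4), (1, 5), (2, 6), (3, 7)]) (by decide +kernel)
      (by decide +kernel) rfl (by decide +kernel) hQ
  have h3 : Kills 10 V Words.eigV4Pos := by
    rw [← P5L3.xgens_eq]
    refine P5L3.data.sound1 rfl hp P5L3.checked fun K hK => ?_
    simp only [P5L3.ks_eq, List.mem_cons, List.not_mem_nil, or_false] at hK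
    rcases hK with rfl | rfl | rfl | rfl <;> assumption
  have h4 : Kills 10 V Words.eigV4Neg := by
    rw [← P5L4.xgens_eq]
    refine P5L4.data.sound1 rfl hp P5L4.checked fun K hK => ?_
    simp only [P5L4.ks_eq, List.mem_cons, List.not_mem_nil, or_false] at hK
    rcases hK with rfl | rfl <;> assumption
  have hF : Kills 10 V [([(0, 1), (2, 3)], 1), ([(0, 2), (1, 3)], 1)] :=
    five_descend (y := [(4, 5), (5, 6), (6, 7), (7, 9)]) (u := [(5, 9), (6, 7)]) hp
      (by decide +kernel) h3 h4
  set wa : Word := [(0, 1), (2, 3)] with hwa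
  set wb : Word := [(0, 2), (1, 3)] with hwb
  set wc : Word := [(0, 3), (1, 2)] with hwc
  have oka : okW 10 wa = true := by decide
  have okb : okW 10 wb = true := by decide
  have okc : okW 10 wc = true := by decide
  set a := el 10 wa with ha
  set b := el 10 wb with hb
  set c := el 10 wc with hc
  have hsq : ∀ w : Word, okW 10 w = true → eqW 10 (w ++ w) [] = true → el 10 w * el 10 w = 1 :=
    fun w h h' => by rw [← el_append h h, el_congr (okW_append h h) (by decide) h', el_nil]
  have haa : a * a = 1 := hsq wa oka (by decide)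
  have hbb : b * b = 1 := hsq wb okb (by decide)
  have hab : a * b = c := by
    rw [ha, hb, ← el_append oka okb]; exact el_congr (okW_append oka okb) okc (by decide)
  have hba : Commute b a := by
    show b * a = a * b
    rw [hab, ha, hb, ← el_append okb oka]; exact el_congr (okW_append okb oka) okc (by decide)
  have hnone : ∀ v : V, a • v = v → b • v = v → v = 0 := fun v h h' => hF v (by
    intro gs hgs
    simp only [List.mem_cons, List.not_mem_nil, or_false] at hgs
    rcases hgs with rfl | rfl <;> simpa [← hwa, ← hwb, ← ha, ← hb])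
  -- the three involutions have fixed spaces of equal size
  have hconj : ∀ (g : Word) (x : Word), okW 10 g = true → okW 10 x = true →
      eqW 10 (g ++ wa) (x ++ g) = true →
      Nat.card (eigen (⊤ : AddSubgroup V) (el 10 x) true) =
        Nat.card (eigen (⊤ : AddSubgroup V) a true) := fun g x hg hx he => by
    refine card_fixed_conj (g := el 10 g) ?_
    rw [ha, ← el_append hg oka, ← el_append hx hg]
    exact el_congr (okW_append hg oka) (okW_append hx hg) he
  set M := Nat.card (eigen (⊤ : AddSubgroup V) a true) with hM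
  have hstab : ∀ (g : alternatingGroup (Fin 10)), ∀ u ∈ (⊤ : AddSubgroup V), g • u ∈
      (⊤ : AddSubgroup V) := fun _ _ _ => trivial
  have hb' := hconj [(1, 2), (2, 3)] wb (by decide) okb (by decide)
  have hc' := hconj [(1, 3), (3, 2)] wc (by decide) okc (by decide)
  have hcardV : Nat.card (⊤ : AddSubgroup V) = M * M * M := by
    rw [card_split hp haa (hstab a), ← hM,
      card_split hp hbb (eigen_stable hba.symm (hstab b)), mul_assoc]
    congr 2
    · rw [← hb']
      refine Nat.card_congr (Equiv.subtypeEquivRight fun u => ?_)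
      simp only [mem_eigen, AddSubgroup.mem_top, true_and, if_true, Bool.false_eq_true, if_false]
      refine ⟨fun h => h.2, fun h => ⟨?_, h⟩⟩
      have hz : u + a • u = 0 := hnone _ (by rw [smul_add, ← mul_smul, haa, one_smul, add_comm])
        (by rw [smul_add, h, ← mul_smul, hba.eq, mul_smul, h])
      exact eq_neg_of_add_eq_zero_right hz
    · rw [← hc']
      refine Nat.card_congr (Equiv.subtypeEquivRight fun u => ?_)
      simp only [mem_eigen, AddSubgroup.mem_top, true_and, if_true, Bool.false_eq_true, if_false]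
      rw [← hc, ← hab, mul_smul]
      refine ⟨fun h => by rw [h.2, smul_neg, h.1, neg_neg], fun h => ?_⟩
      have hub : b • u = a • u := by
        calc b • u = a • a • b • u := by rw [← mul_smul a a, haa, one_smul]
          _ = a • u := by rw [h]
      have hz : u + a • u = 0 := hnone _ (by rw [smul_add, ← mul_smul, haa, one_smul, add_comm])
        (by rw [smul_add, hub, ← mul_smul, hba.eq, mul_smul, h, add_comm])
      have hau : a • u = -u := eq_neg_of_add_eq_zero_right hz
      exact ⟨hau, by rw [hub, hau]⟩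
  have hten := tenOK_true
  simp only [tenOK, Bool.and_eq_true, List.all_eq_true, Nat.blt_eq] at hten
  obtain ⟨⟨⟨hg1, hg2⟩, hg3⟩, ht⟩ := hten
  set gs := pairGens.map (el 10) with hgs
  set T := tenInvolutions.map fun t => el 10 t.1 with hTdef
  have hkey : (Nat.card (⊤ : AddSubgroup V)) ^ 4 ≤ fixProd (⊤ : AddSubgroup V) T := by
    refine fixProd_ge hp 4 T gs ?_ ?_ ?_ ⊤ (fun g _ => hstab g) ?_
    · intro g hg
      obtain ⟨w, hw, rfl⟩ := List.mem_map.mp hg
      exact hsq w (hg1 w hw).1 (hg1 w hw).2
    · intro g hg t htm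
      obtain ⟨w, hw, rfl⟩ := List.mem_map.mp hg
      obtain ⟨t', ht', rfl⟩ := List.mem_map.mp htm
      have h1 := (hg1 w hw).1
      have h2 := (ht t' ht').1.1.1.1
      show _ * _ = _ * _
      rw [← el_append h1 h2, ← el_append h2 h1]
      exact el_congr (okW_append h1 h2) (okW_append h2 h1) (hg3 w hw t' ht')
    · intro g hg h hh
      obtain ⟨w, hw, rfl⟩ := List.mem_map.mp hg
      obtain ⟨x, hx, rfl⟩ := List.mem_map.mp hh
      have h1 := (hg1 w hw).1
      have h2 := (hg1 x hx).1
      show _ * _ = _ * _
      rw [← el_append h1 h2, ← el_append h2 h1]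
      exact el_congr (okW_append h1 h2) (okW_append h2 h1) (hg2 w hw x hx)
    intro σ hσ W _ hs
    have hlen : gs.length = 4 := rfl
    have hsign : ∀ r : List ℕ, (∀ i ∈ r, i < 4) → okW 10 (pairWord r) = true ∧
        ∀ u ∈ W, el 10 (pairWord r) • u = if signProd σ r then u else -u := by
      intro r hr
      induction r with
      | nil => exact ⟨by decide, fun u _ => by simp [pairWord, signProd, el_nil]⟩
      | cons i r ih =>
        obtain ⟨ih1, ih2⟩ := ih fun x hx => hr x (List.mem_cons_of_mem _ hx)
        have hi := hr i List.mem_cons_self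
        have hi' : i < pairGens.length := hi
        have hgi : okW 10 (pairGens.getD i []) = true := by
          rw [List.getD_eq_getElem _ _ hi']; exact (hg1 _ (List.getElem_mem hi')).1
        refine ⟨okW_append hgi ih1, fun u hu => ?_⟩
        rw [show pairWord (i :: r) = pairGens.getD i [] ++ pairWord r from rfl,
          el_append hgi ih1, mul_smul, ih2 u hu]
        have he : gs.getD i 1 = el 10 (pairGens.getD i []) := by
          rw [List.getD_eq_getElem _ _ hi', List.getD_eq_getElem _ _ (hlen ▸ hi : i < gs.length),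
            List.getElem_map]
        have h3 := hs i (hlen ▸ hi) u hu
        rw [he] at h3
        have hsp : signProd σ (i :: r) = (σ.getD i true == signProd σ r) := rfl
        rw [hsp]
        cases hs' : signProd σ r <;> cases hσi : σ.getD i true <;> rw [hσi] at h3 <;>
          simp_all
    have hcount : ∀ L : List (Word × List ℕ × Word), (∀ t ∈ L, t ∈ tenInvolutions) →
        (Nat.card W) ^ (L.filter fun t => signProd σ t.2.1).length ≤
          fixProd W (L.map fun t => el 10 t.1) := by
      intro L
      induction L with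
      | nil => intro _; simp [fixProd]
      | cons t L ih =>
        intro hL
        have ih := ih fun x hx => hL x (List.mem_cons_of_mem _ hx)
        obtain ⟨⟨⟨⟨h1, -⟩, -⟩, h4⟩, h5⟩ := ht t (hL t List.mem_cons_self)
        obtain ⟨h6, h7⟩ := hsign t.2.1 h5
        simp only [fixProd, List.map_cons, List.prod_cons] at ih ⊢
        by_cases hsg : signProd σ t.2.1 = true
        · rw [List.filter_cons_of_pos (p := fun t : Word × List ℕ × Word => signProd σ t.2.1) hsg, List.length_cons, pow_succ']
          refine Nat.mul_le_mul (le_of_eq (Nat.card_congr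
            (Equiv.subtypeEquivRight fun u => ?_))) ih
          rw [mem_eigen, if_pos rfl]
          refine ⟨fun hu => ⟨hu, ?_⟩, fun h => h.1⟩
          rw [el_congr h1 h6 h4, h7 u hu, if_pos hsg]
        · rw [List.filter_cons_of_neg (p := fun t : Word × List ℕ × Word => signProd σ t.2.1) hsg]
          calc _ ≤ 1 * _ := by rw [one_mul]; exact ih
            _ ≤ _ := Nat.mul_le_mul_right _ Nat.card_pos
    refine le_trans ?_ (hcount tenInvolutions fun t h => h)
    obtain ⟨s0, s1, s2, s3, rfl⟩ : ∃ x y z w, σ = [x, y, z, w] := by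
      match σ, hσ with
      | [x, y, z, w], _ => exact ⟨x, y, z, w, rfl⟩
    exact Nat.pow_le_pow_right Nat.card_pos (four_positive s0 s1 s2 s3)
  have hprod : fixProd (⊤ : AddSubgroup V) T = M ^ 10 := by
    have hlen : T.length = 10 := rfl
    have : ∀ x ∈ T.map fun t => Nat.card (eigen (⊤ : AddSubgroup V) t true), x = M := by
      intro x hx
      obtain ⟨t, htm, rfl⟩ := List.mem_map.mp hx
      obtain ⟨t', ht', rfl⟩ := List.mem_map.mp htm
      obtain ⟨⟨⟨⟨h1, h2⟩, h3⟩, -⟩, -⟩ := ht t' ht'
      exact hconj t'.2.2 t'.1 h2 h1 h3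
    rw [fixProd, List.prod_eq_pow_card _ M this, List.length_map, hlen]
  rw [hprod, hcardV] at hkey
  have hM1 : M = 1 := by
    have hpos : 0 < M := Nat.card_pos
    by_contra hne
    have : M ^ 10 < M ^ 12 := Nat.pow_lt_pow_right (by omega) (by norm_num)
    rw [show (M * M * M) ^ 4 = M ^ 12 by ring] at hkey
    omega
  rw [hM1] at hcardV
  intro u
  have : Subsingleton (⊤ : AddSubgroup V) := (Nat.card_eq_one_iff_unique.mp (by simpa using hcardV)).1
  exact congrArg Subtype.val (Subsingleton.elim (⟨u, trivial⟩ : (⊤ : AddSubgroup V)) 0)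

end H63.ModCert
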