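import Cfsg.Agent.H63.ModCert.Words

/-! Certificate P2E (computed offline). -/

set_option autoImplicit false

namespace H63.ModCert.P2E

/-- a chunk of the certificate -/
def xs0 : List (Word × ℕ × ℕ × ℕ) :=
  [([], 1, 0, 0),
     ([(0, 1), (2, 3)], 1, 0, 0),
     ([(0, 2), (1, 3)], 1, 1, 0),
     ([(4, 5), (6, 7)], 1, 2, 0),
     ([(4, 6), (5, 7)], 1, 3, 0),
     ([(0, 1), (4, 5)], 1, 4, 0),
     ([(0, 4), (1, 5), (2, 6), (3, 7)], 1, 5, 0),
     ([(1, 2), (5, 6)], 1, 6, 0),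
     ([(0, 3), (1, 2)], 1, 1, 1),
     ([(0, 1), (2, 3), (4, 5), (6, 7)], 1, 2, 1),
     ([(0, 1), (2, 3), (4, 6), (5, 7)], 1, 3, 1),
     ([(2, 3), (4, 5)], 1, 4, 1),
     ([(0, 5), (5, 1), (1, 4), (2, 7), (7, 3), (3, 6)], 1, 5, 1),
     ([(0, 2), (2, 3), (3, 1), (5, 6)], 1, 6, 1),
     ([(0, 2), (1, 3), (4, 5), (6, 7)], 1, 2, 2),
     ([(0, 2), (1, 3), (4, 6), (5, 7)], 1, 3, 2),
     ([(0, 2), (2, 1), (1, 3), (4, 5)], 1, 4, 2),
     ([(0, 6), (6, 2), (2, 4), (1, 7), (7, 3), (3, 5)], 1, 5, 2),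
     ([(0, 1), (1, 3), (3, 2), (5, 6)], 1, 6, 2),
     ([(4, 7), (5, 6)], 1, 3, 3),
     ([(0, 1), (6, 7)], 1, 4, 3),
     ([(0, 4), (4, 1), (1, 5), (2, 6), (6, 3), (3, 7)], 1, 5, 3),
     ([(1, 2), (4, 6), (6, 7), (7, 5)], 1, 6, 3),
     ([(0, 1), (4, 6), (6, 5), (5, 7)], 1, 4, 4),
     ([(0, 4), (4, 2), (2, 6), (1, 5), (5, 3), (3, 7)], 1, 5, 4),
     ([(1, 2), (4, 5), (5, 7), (7, 6)], 1, 6, 4),
     ([(0, 3), (3, 1), (1, 2), (4, 5)], 1, 1, 5),
     ([(0, 1), (4, 7), (7, 5), (5, 6)], 1, 3, 5),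
     ([(0, 5), (1, 4), (2, 6), (3, 7)], 1, 5, 5),
     ([(0, 2), (2, 1), (4, 6), (6, 5)], 1, 6, 5),
     ([(0, 4), (1, 6), (2, 5), (3, 7)], 1, 6, 6),
     ([(0, 1), (1, 2), (4, 5), (5, 6)], 1, 4, 7)]

/-- a chunk of the certificate -/
def xs1 : List (Word × ℕ × ℕ × ℕ) :=
  [([(0, 3), (1, 2), (4, 5), (6, 7)], 1, 2, 8),
     ([(0, 3), (1, 2), (4, 6), (5, 7)], 1, 3, 8),
     ([(0, 7), (7, 3), (3, 4), (1, 6), (6, 2), (2, 5)], 1, 5, 8),
     ([(0, 3), (5, 6)], 1, 6, 8),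
     ([(0, 1), (2, 3), (4, 7), (5, 6)], 1, 3, 9),
     ([(2, 3), (6, 7)], 1, 4, 9),
     ([(0, 5), (1, 4), (2, 7), (3, 6)], 1, 5, 9),
     ([(0, 2), (2, 3), (3, 1), (4, 6), (6, 7), (7, 5)], 1, 6, 9),
     ([(2, 3), (4, 6), (6, 5), (5, 7)], 1, 4, 10),
     ([(0, 5), (5, 3), (3, 6), (1, 4), (4, 2), (2, 7)], 1, 5, 10),
     ([(0, 2), (2, 3), (3, 1), (4, 5), (5, 7), (7, 6)], 1, 6, 10),
     ([(2, 3), (4, 7), (7, 5), (5, 6)], 1, 3, 11),
     ([(0, 4), (4, 1), (1, 5), (2, 7), (7, 3), (3, 6)], 1, 5, 11),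
     ([(1, 2), (2, 3), (4, 6), (6, 5)], 1, 6, 11),
     ([(0, 6), (6, 1), (1, 4), (2, 7), (7, 3), (3, 5)], 1, 6, 12),
     ([(0, 2), (2, 3), (4, 5), (5, 6)], 1, 4, 13),
     ([(0, 2), (1, 3), (4, 7), (5, 6)], 1, 3, 14),
     ([(0, 2), (2, 1), (1, 3), (6, 7)], 1, 4, 14),
     ([(0, 6), (6, 3), (3, 5), (1, 7), (7, 2), (2, 4)], 1, 5, 14),
     ([(0, 1), (1, 3), (3, 2), (4, 6), (6, 7), (7, 5)], 1, 6, 14),
     ([(0, 2), (2, 1), (1, 3), (4, 6), (6, 5), (5, 7)], 1, 4, 15),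
     ([(0, 6), (1, 7), (2, 4), (3, 5)], 1, 5, 15),
     ([(0, 1), (1, 3), (3, 2), (4, 5), (5, 7), (7, 6)], 1, 6, 15),
     ([(0, 2), (2, 1), (1, 3), (4, 7), (7, 5), (5, 6)], 1, 3, 16),
     ([(0, 6), (6, 2), (2, 5), (1, 7), (7, 3), (3, 4)], 1, 5, 16),
     ([(0, 1), (1, 3), (4, 6), (6, 5)], 1, 6, 16),
     ([(0, 5), (5, 2), (2, 4), (1, 7), (7, 3), (3, 6)], 1, 6, 17),
     ([(1, 3), (3, 2), (4, 5), (5, 6)], 1, 4, 18),
     ([(0, 4), (4, 3), (3, 7), (1, 5), (5, 2), (2, 6)], 1, 5, 19),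
     ([(1, 2), (4, 7)], 1, 6, 19),
     ([(0, 3), (3, 1), (1, 2), (6, 7)], 1, 1, 20),
     ([(0, 5), (5, 1), (1, 4), (2, 6), (6, 3), (3, 7)], 1, 5, 20)]

/-- a chunk of the certificate -/
def xs2 : List (Word × ℕ × ℕ × ℕ) :=
  [([(0, 2), (2, 1), (5, 6), (6, 7)], 1, 6, 20),
     ([(0, 4), (4, 2), (2, 5), (1, 6), (6, 3), (3, 7)], 1, 6, 21),
     ([(0, 1), (1, 2), (4, 6), (6, 7)], 1, 4, 22),
     ([(0, 3), (3, 1), (1, 2), (4, 6), (6, 5), (5, 7)], 1, 1, 23),
     ([(0, 5), (5, 3), (3, 7), (1, 4), (4, 2), (2, 6)], 1, 5, 23),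
     ([(0, 2), (2, 1), (4, 5), (5, 7)], 1, 6, 23),
     ([(0, 4), (4, 1), (1, 6), (2, 5), (5, 3), (3, 7)], 1, 6, 24),
     ([(0, 1), (1, 2), (5, 7), (7, 6)], 1, 4, 25),
     ([(0, 3), (3, 1), (1, 2), (4, 7), (7, 5), (5, 6)], 1, 3, 26),
     ([(0, 7), (7, 3), (3, 5), (1, 6), (6, 2), (2, 4)], 1, 5, 26),
     ([(0, 3), (3, 2), (4, 6), (6, 5)], 1, 6, 26),
     ([(0, 5), (5, 2), (2, 6), (1, 4), (4, 3), (3, 7)], 1, 5, 27),
     ([(0, 2), (2, 1), (4, 7), (7, 6)], 1, 6, 27),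
     ([(0, 6), (6, 1), (1, 4), (4, 2), (2, 5), (3, 7)], 1, 6, 28),
     ([(0, 2), (4, 6)], 1, 4, 29),
     ([(0, 5), (5, 2), (2, 4), (4, 1), (1, 6), (3, 7)], 1, 4, 30),
     ([(0, 3), (3, 1), (4, 5), (5, 6)], 1, 1, 31),
     ([(0, 1), (1, 2), (4, 7), (7, 5)], 1, 3, 31),
     ([(0, 3), (1, 2), (4, 7), (5, 6)], 1, 3, 32),
     ([(0, 7), (7, 2), (2, 5), (1, 6), (6, 3), (3, 4)], 1, 5, 32),
     ([(0, 3), (4, 6), (6, 7), (7, 5)], 1, 6, 32),
     ([(0, 7), (7, 1), (1, 6), (2, 5), (5, 3), (3, 4)], 1, 5, 33),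
     ([(0, 3), (4, 5), (5, 7), (7, 6)], 1, 6, 33),
     ([(0, 7), (7, 3), (3, 4), (1, 5), (5, 2), (2, 6)], 1, 6, 34),
     ([(0, 5), (5, 2), (2, 7), (1, 4), (4, 3), (3, 6)], 1, 5, 36),
     ([(0, 2), (2, 3), (3, 1), (4, 7)], 1, 6, 36),
     ([(0, 4), (1, 5), (2, 7), (3, 6)], 1, 5, 37),
     ([(1, 2), (2, 3), (5, 6), (6, 7)], 1, 6, 37),
     ([(0, 6), (6, 3), (3, 5), (1, 4), (4, 2), (2, 7)], 1, 6, 38),
     ([(0, 2), (2, 3), (4, 6), (6, 7)], 1, 4, 39),
     ([(0, 4), (4, 2), (2, 7), (1, 5), (5, 3), (3, 6)], 1, 5, 40),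
     ([(1, 2), (2, 3), (4, 5), (5, 7)], 1, 6, 40)]

/-- a chunk of the certificate -/
def xs3 : List (Word × ℕ × ℕ × ℕ) :=
  [([(0, 6), (1, 4), (2, 7), (3, 5)], 1, 6, 41),
     ([(0, 2), (2, 3), (5, 7), (7, 6)], 1, 4, 42),
     ([(0, 4), (4, 3), (3, 6), (1, 5), (5, 2), (2, 7)], 1, 5, 43),
     ([(1, 2), (2, 3), (4, 7), (7, 6)], 1, 6, 43),
     ([(0, 4), (4, 2), (2, 7), (7, 3), (3, 5), (1, 6)], 1, 6, 44),
     ([(0, 1), (1, 2), (2, 3), (4, 6)], 1, 4, 45),
     ([(0, 6), (1, 5), (5, 2), (2, 7), (7, 3), (3, 4)], 1, 4, 46),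
     ([(0, 2), (2, 3), (4, 7), (7, 5)], 1, 3, 47),
     ([(0, 6), (6, 1), (1, 7), (2, 4), (4, 3), (3, 5)], 1, 5, 48),
     ([(0, 1), (1, 3), (3, 2), (4, 7)], 1, 6, 48),
     ([(0, 6), (6, 3), (3, 4), (1, 7), (7, 2), (2, 5)], 1, 5, 49),
     ([(0, 1), (1, 3), (5, 6), (6, 7)], 1, 6, 49),
     ([(0, 5), (1, 7), (2, 4), (3, 6)], 1, 6, 50),
     ([(1, 3), (3, 2), (4, 6), (6, 7)], 1, 4, 51),
     ([(0, 6), (6, 1), (1, 7), (2, 5), (5, 3), (3, 4)], 1, 5, 52),
     ([(0, 1), (1, 3), (4, 5), (5, 7)], 1, 6, 52),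
     ([(0, 5), (5, 3), (3, 6), (1, 7), (7, 2), (2, 4)], 1, 6, 53),
     ([(1, 3), (3, 2), (5, 7), (7, 6)], 1, 4, 54),
     ([(0, 6), (1, 7), (2, 5), (3, 4)], 1, 5, 55),
     ([(0, 1), (1, 3), (4, 7), (7, 6)], 1, 6, 55),
     ([(0, 5), (1, 7), (7, 3), (3, 4), (4, 2), (2, 6)], 1, 6, 56),
     ([(1, 3), (4, 6)], 1, 4, 57),
     ([(0, 4), (4, 1), (1, 7), (7, 3), (3, 6), (2, 5)], 1, 4, 58),
     ([(1, 3), (3, 2), (4, 7), (7, 5)], 1, 3, 59),
     ([(0, 4), (4, 3), (3, 7), (1, 6), (6, 2), (2, 5)], 1, 6, 60),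
     ([(0, 7), (7, 2), (2, 4), (1, 6), (6, 3), (3, 5)], 1, 5, 62),
     ([(0, 3), (3, 2), (5, 6), (6, 7)], 1, 6, 62),
     ([(0, 6), (6, 3), (3, 7), (7, 1), (1, 4), (2, 5)], 1, 6, 63),
     ([(0, 2), (4, 5), (5, 6), (6, 7)], 1, 4, 64),
     ([(0, 5), (5, 1), (1, 6), (6, 3), (3, 7), (2, 4)], 1, 4, 65),
     ([(0, 3), (3, 1), (4, 6), (6, 7)], 1, 1, 66),
     ([(0, 7), (1, 6), (2, 4), (3, 5)], 1, 5, 67)]

/-- a chunk of the certificate -/
def xs4 : List (Word × ℕ × ℕ × ℕ) :=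
  [([(0, 3), (3, 2), (4, 5), (5, 7)], 1, 6, 67),
     ([(0, 6), (6, 2), (2, 5), (5, 3), (3, 7), (1, 4)], 1, 6, 68),
     ([(0, 2), (5, 7)], 1, 4, 69),
     ([(0, 5), (5, 3), (3, 7), (7, 2), (2, 4), (1, 6)], 1, 4, 70),
     ([(0, 3), (3, 1), (5, 7), (7, 6)], 1, 1, 71),
     ([(0, 7), (7, 1), (1, 6), (2, 4), (4, 3), (3, 5)], 1, 5, 72),
     ([(0, 3), (3, 2), (4, 7), (7, 6)], 1, 6, 72),
     ([(0, 7), (7, 3), (3, 6), (6, 1), (1, 5), (2, 4)], 1, 6, 73),
     ([(0, 3), (3, 2), (2, 1), (4, 6)], 1, 4, 74),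
     ([(0, 6), (1, 4), (4, 3), (3, 7), (7, 2), (2, 5)], 1, 6, 75),
     ([(0, 2), (4, 7), (7, 6), (6, 5)], 1, 4, 76),
     ([(0, 6), (1, 5), (2, 4), (3, 7)], 1, 4, 77),
     ([(0, 5), (1, 6), (6, 2), (2, 4), (4, 3), (3, 7)], 1, 1, 79),
     ([(0, 7), (7, 3), (3, 5), (5, 2), (2, 6), (1, 4)], 1, 3, 79),
     ([(0, 3), (3, 1), (4, 7), (7, 5)], 1, 3, 80),
     ([(0, 7), (1, 6), (2, 5), (3, 4)], 1, 5, 82),
     ([(0, 3), (4, 7)], 1, 6, 82),
     ([(0, 7), (7, 1), (1, 5), (2, 6), (6, 3), (3, 4)], 1, 6, 83),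
     ([(0, 7), (7, 2), (2, 6), (1, 5), (5, 3), (3, 4)], 1, 6, 85),
     ([(0, 6), (6, 2), (2, 7), (1, 4), (4, 3), (3, 5)], 1, 6, 88),
     ([(0, 4), (1, 6), (6, 3), (3, 5), (5, 2), (2, 7)], 1, 6, 90),
     ([(0, 1), (1, 2), (2, 3), (4, 5), (5, 6), (6, 7)], 1, 4, 91),
     ([(0, 6), (6, 3), (3, 4), (4, 2), (2, 7), (1, 5)], 1, 4, 92),
     ([(0, 4), (4, 1), (1, 6), (6, 2), (2, 7), (3, 5)], 1, 6, 94),
     ([(0, 1), (1, 2), (2, 3), (5, 7)], 1, 4, 95),
     ([(0, 6), (6, 1), (1, 5), (5, 3), (3, 4), (2, 7)], 1, 4, 96),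
     ([(0, 4), (4, 3), (3, 5), (5, 1), (1, 6), (2, 7)], 1, 6, 98),
     ([(0, 1), (1, 2), (2, 3), (4, 7), (7, 6), (6, 5)], 1, 4, 99),
     ([(0, 5), (5, 1), (1, 6), (2, 7), (7, 3), (3, 4)], 1, 4, 100),
     ([(0, 6), (6, 2), (2, 7), (7, 1), (1, 5), (3, 4)], 1, 1, 102),
     ([(0, 5), (5, 1), (1, 7), (2, 4), (4, 3), (3, 6)], 1, 6, 104),
     ([(0, 5), (5, 2), (2, 6), (6, 3), (3, 4), (1, 7)], 1, 6, 106)]

/-- a chunk of the certificate -/
def xs5 : List (Word × ℕ × ℕ × ℕ) :=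
  [([(1, 3), (4, 5), (5, 6), (6, 7)], 1, 4, 107),
     ([(0, 4), (4, 2), (2, 5), (5, 1), (1, 7), (3, 6)], 1, 4, 108),
     ([(0, 5), (5, 3), (3, 4), (4, 1), (1, 7), (2, 6)], 1, 6, 110),
     ([(1, 3), (5, 7)], 1, 4, 111),
     ([(0, 4), (1, 7), (7, 2), (2, 5), (5, 3), (3, 6)], 1, 4, 112),
     ([(0, 5), (5, 1), (1, 7), (7, 2), (2, 6), (3, 4)], 1, 6, 114),
     ([(1, 3), (4, 7), (7, 6), (6, 5)], 1, 4, 115),
     ([(0, 4), (4, 2), (2, 6), (1, 7), (7, 3), (3, 5)], 1, 4, 116),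
     ([(0, 4), (4, 3), (3, 6), (6, 2), (2, 5), (1, 7)], 1, 1, 118),
     ([(0, 7), (7, 1), (1, 5), (5, 2), (2, 4), (3, 6)], 1, 6, 121),
     ([(0, 3), (3, 2), (2, 1), (4, 5), (5, 6), (6, 7)], 1, 4, 122),
     ([(0, 6), (6, 3), (3, 7), (1, 5), (5, 2), (2, 4)], 1, 4, 123),
     ([(0, 7), (1, 4), (4, 2), (2, 6), (6, 3), (3, 5)], 1, 3, 125),
     ([(0, 7), (1, 5), (5, 3), (3, 6), (6, 2), (2, 4)], 1, 6, 127),
     ([(0, 3), (3, 2), (2, 1), (5, 7)], 1, 4, 128),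
     ([(0, 6), (6, 2), (2, 4), (1, 5), (5, 3), (3, 7)], 1, 4, 129),
     ([(0, 7), (7, 2), (2, 6), (6, 1), (1, 4), (3, 5)], 1, 3, 131),
     ([(0, 7), (7, 2), (2, 4), (4, 3), (3, 6), (1, 5)], 1, 6, 133),
     ([(0, 3), (3, 2), (2, 1), (4, 7), (7, 6), (6, 5)], 1, 4, 134),
     ([(0, 7), (7, 3), (3, 6), (1, 4), (4, 2), (2, 5)], 1, 4, 135),
     ([(0, 6), (6, 1), (1, 5), (2, 4), (4, 3), (3, 7)], 1, 4, 137),
     ([(0, 7), (7, 1), (1, 4), (4, 3), (3, 5), (2, 6)], 1, 3, 140),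
     ([(0, 7), (1, 5), (2, 6), (3, 4)], 1, 6, 143),
     ([(0, 5), (5, 2), (2, 7), (1, 6), (6, 3), (3, 4)], 1, 4, 148),
     ([(0, 5), (5, 3), (3, 4), (1, 6), (6, 2), (2, 7)], 1, 4, 151),
     ([(0, 5), (1, 6), (2, 7), (3, 4)], 1, 4, 154),
     ([(0, 4), (4, 1), (1, 7), (2, 6), (6, 3), (3, 5)], 1, 4, 159),
     ([(0, 4), (1, 7), (2, 6), (3, 5)], 1, 4, 162),
     ([(0, 4), (4, 3), (3, 5), (1, 7), (7, 2), (2, 6)], 1, 4, 165),
     ([(0, 7), (1, 4), (2, 5), (3, 6)], 1, 4, 169),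
     ([(0, 7), (7, 1), (1, 4), (2, 5), (5, 3), (3, 6)], 1, 4, 173),
     ([(0, 7), (7, 2), (2, 5), (1, 4), (4, 3), (3, 6)], 1, 4, 177)]

/-- a chunk of the certificate -/
def reps0 : List Word :=
  [[],
     [(0, 2), (7, 8)],
     [(0, 1), (7, 8)],
     [(0, 8), (8, 7), (1, 6), (6, 2), (2, 5), (3, 4)],
     [(0, 1), (1, 2), (2, 3), (3, 4)],
     [(0, 1), (1, 2), (2, 3), (3, 4), (4, 5), (5, 6)],
     [(0, 2), (2, 1), (1, 3), (3, 4)],
     [(0, 2), (2, 3), (3, 4), (4, 5), (5, 6), (6, 1)],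
     [(1, 3), (3, 4), (4, 5), (5, 6)],
     [(1, 2), (2, 3), (3, 4), (5, 6)],
     [(0, 8), (2, 6), (6, 3), (3, 7), (7, 4), (4, 5)],
     [(0, 2), (2, 4), (4, 6), (6, 1), (1, 3), (3, 5), (5, 7), (7, 8)],
     [(0, 1), (1, 6), (6, 3), (3, 7), (7, 4), (4, 5), (5, 2), (2, 8)],
     [(2, 3), (3, 4)],
     [(0, 1), (1, 3), (3, 4), (4, 2)],
     [(0, 3), (3, 4), (4, 2), (2, 1)],
     [(0, 3), (3, 5), (5, 7), (7, 8), (2, 4), (4, 6)],
     [(0, 1), (1, 4), (4, 6), (6, 2), (2, 3), (3, 5), (5, 7), (7, 8)],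
     [(0, 1), (1, 3), (3, 5), (5, 7), (7, 8), (2, 4)],
     [(1, 3), (3, 5), (5, 6), (6, 7), (7, 8), (2, 4)],
     [(1, 4), (4, 2), (2, 5), (5, 6), (6, 7), (7, 8)],
     [(1, 3), (3, 4), (4, 2), (2, 5), (5, 7), (7, 8)],
     [(0, 4), (4, 2), (2, 6), (6, 8), (8, 1), (1, 3), (3, 5), (5, 7)],
     [(0, 2), (1, 8), (3, 7), (4, 5)],
     [(0, 3), (3, 5), (5, 7), (1, 6), (6, 8), (2, 4)],
     [(0, 1), (1, 4), (4, 3), (3, 2), (2, 5), (5, 6), (6, 7), (7, 8)],
     [(0, 1), (1, 2), (2, 4), (4, 3), (3, 5), (5, 6), (6, 7), (7, 8)],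
     [(0, 2), (2, 1), (1, 4), (4, 3), (3, 5), (5, 6), (6, 7), (7, 8)],
     [(0, 2), (2, 4), (4, 6), (6, 8), (8, 1), (1, 3), (3, 5), (5, 7)],
     [(0, 2), (2, 4), (4, 6), (6, 7), (7, 8), (8, 1), (1, 3), (3, 5)],
     [(1, 8), (2, 6), (6, 3), (3, 7), (7, 4), (4, 5)],
     [(0, 8), (8, 1), (2, 3), (3, 7), (7, 4), (4, 5)]]

/-- a chunk of the certificate -/
def reps1 : List Word :=
  [[(0, 6), (6, 7), (7, 8), (8, 1), (1, 5), (3, 4)],
     [(0, 6), (6, 3), (3, 2), (2, 5), (5, 8), (8, 1), (1, 4), (4, 7)],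
     [(0, 3), (3, 5), (5, 7), (2, 4), (4, 6), (6, 8)],
     [(0, 3), (3, 5), (2, 4), (4, 6), (6, 7), (7, 8)],
     [(0, 1), (1, 4), (4, 6), (6, 8), (8, 2), (2, 3), (3, 5), (5, 7)],
     [(0, 1), (1, 6), (6, 8), (8, 2), (2, 4), (4, 3), (3, 5), (5, 7)],
     [(0, 1), (1, 6), (6, 7), (7, 8), (8, 2), (2, 4), (4, 3), (3, 5)],
     [(1, 8), (8, 2), (2, 3), (3, 7), (7, 4), (4, 5)],
     [(0, 8), (8, 2), (3, 7), (4, 5)],
     [(1, 8), (8, 2), (3, 7), (4, 5)],
     [(0, 1), (2, 8), (3, 7), (4, 5)],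
     [(0, 5), (5, 8), (8, 2), (2, 7), (7, 1), (1, 4), (4, 3), (3, 6)],
     [(0, 8), (8, 2), (1, 3), (4, 7), (7, 6), (6, 5)],
     [(1, 8), (8, 2), (2, 3), (4, 7), (7, 5), (5, 6)],
     [(0, 4), (4, 3), (3, 2), (2, 5), (5, 6), (6, 7), (7, 8), (8, 1)],
     [(1, 5), (5, 6), (6, 7), (7, 8), (2, 4), (4, 3)],
     [(0, 4), (4, 3), (1, 5), (5, 6), (6, 7), (7, 8)],
     [(0, 8), (8, 1), (2, 4), (4, 6), (3, 7), (7, 5)],
     [(1, 8), (2, 4), (4, 6), (6, 3), (3, 7), (7, 5)],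
     [(0, 2), (2, 6), (6, 4), (1, 5), (5, 7), (7, 8)],
     [(1, 3), (3, 5), (2, 4), (4, 6), (6, 7), (7, 8)],
     [(0, 3), (3, 5), (5, 1), (1, 4), (4, 6), (6, 7), (7, 8), (8, 2)],
     [(0, 3), (3, 5), (5, 7), (7, 1), (1, 4), (4, 6), (6, 8), (8, 2)],
     [(0, 8), (8, 2), (2, 3), (3, 7), (7, 4), (4, 5)],
     [(1, 6), (2, 4), (4, 3), (3, 5), (5, 7), (7, 8)],
     [(1, 4), (4, 3), (3, 5), (5, 7), (2, 6), (6, 8)],
     [(0, 3), (3, 7), (7, 4), (4, 8), (8, 2), (2, 6), (6, 1), (1, 5)],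
     [(0, 3), (3, 6), (6, 4), (4, 8), (8, 2), (2, 5), (5, 1), (1, 7)],
     [(0, 3), (3, 6), (6, 1), (1, 7), (7, 4), (4, 8), (8, 2), (2, 5)],
     [(0, 2), (2, 5), (1, 4), (3, 6), (6, 7), (7, 8)],
     [(0, 4), (4, 7), (1, 6), (2, 5), (5, 8), (8, 3)],
     [(0, 4), (4, 7), (7, 1), (1, 6), (6, 8), (8, 3), (3, 2), (2, 5)]]

/-- a chunk of the certificate -/
def reps2 : List Word :=
  [[(0, 2), (2, 4), (4, 3), (3, 5), (5, 1), (1, 6), (6, 7), (7, 8)],
     [(0, 4), (4, 1), (1, 2), (2, 6), (6, 3), (3, 5), (5, 7), (7, 8)],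
     [(0, 6), (6, 7), (7, 8), (1, 5), (2, 4), (4, 3)],
     [(0, 2), (2, 6), (1, 7), (7, 8), (8, 3), (3, 5)],
     [(0, 8), (8, 3), (3, 4), (4, 6), (6, 5), (5, 7), (7, 2), (2, 1)],
     [(0, 6), (6, 1), (1, 7), (7, 8), (8, 3), (3, 5)],
     [(0, 6), (6, 7), (7, 8), (1, 5), (2, 3), (3, 4)],
     [(0, 4), (4, 2), (2, 6), (6, 1), (1, 3), (3, 5), (5, 7), (7, 8)],
     [(0, 4), (4, 2), (2, 3), (3, 5), (5, 7), (7, 1), (1, 6), (6, 8)],
     [(0, 8), (8, 3), (3, 2), (4, 7), (7, 6), (6, 5)],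
     [(0, 8), (8, 3), (1, 2), (4, 7), (7, 6), (6, 5)],
     [(1, 8), (8, 3), (3, 2), (4, 7), (7, 6), (6, 5)],
     [(0, 1), (1, 8)],
     [(0, 8), (1, 2)],
     [(0, 1), (1, 3), (3, 8), (4, 5), (5, 7), (7, 6)],
     [(1, 2), (3, 4), (4, 5), (5, 6), (6, 7), (7, 8)],
     [(0, 2), (3, 4), (4, 5), (5, 6), (6, 7), (7, 8)],
     [(0, 1), (3, 4), (4, 5), (5, 6), (6, 7), (7, 8)],
     [(0, 1), (1, 4), (4, 6), (6, 7), (7, 8), (8, 2), (2, 5), (5, 3)],
     [(0, 1), (2, 4), (4, 6), (6, 7), (7, 8), (3, 5)],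
     [(0, 3), (3, 7), (7, 5), (5, 1), (1, 8), (8, 2), (2, 6), (6, 4)],
     [(0, 8), (8, 2), (2, 7), (7, 3), (1, 4), (4, 5)],
     [(0, 8), (8, 2), (2, 7), (7, 1), (1, 4), (4, 5), (5, 6), (6, 3)],
     [(1, 8), (8, 2), (2, 4), (4, 3), (3, 7), (7, 5)],
     [(1, 5), (5, 7), (7, 8), (8, 2), (2, 6), (6, 4)],
     [(1, 5), (2, 6), (6, 7), (7, 8)],
     [(1, 3), (3, 6), (6, 7), (7, 8), (8, 2), (2, 5)],
     [(0, 4), (4, 1), (1, 3), (3, 6), (2, 7), (7, 8)],
     [(0, 5), (5, 3), (3, 1), (1, 8), (8, 2), (4, 7)],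
     [(0, 8), (8, 2), (2, 5), (5, 3), (3, 1), (4, 7)],
     [(0, 1), (1, 4), (4, 7), (2, 5), (3, 6), (6, 8)],
     [(0, 1), (1, 4), (2, 5), (3, 6), (6, 7), (7, 8)]]

/-- a chunk of the certificate -/
def reps3 : List Word :=
  [[(0, 4), (2, 6), (6, 8), (8, 3), (3, 5), (5, 7)],
     [(0, 1), (1, 4), (4, 7), (7, 8), (2, 5), (3, 6)],
     [(0, 1), (1, 4), (4, 3), (3, 6), (6, 2), (2, 5), (5, 7), (7, 8)],
     [(0, 6), (6, 7), (7, 8), (1, 5), (5, 2), (3, 4)],
     [(0, 6), (1, 7), (7, 8), (8, 3), (3, 5), (5, 2)],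
     [(0, 7), (7, 8), (8, 3), (3, 5), (1, 6), (6, 2)],
     [(0, 8), (8, 3), (3, 2), (2, 4), (4, 6), (6, 7), (7, 5), (5, 1)],
     [(0, 5), (5, 4), (4, 8), (1, 7), (2, 3), (3, 6)],
     [(0, 5), (5, 1), (1, 7), (7, 2), (2, 3), (3, 6), (6, 4), (4, 8)],
     [(0, 5), (5, 4), (4, 1), (1, 7), (7, 2), (2, 3), (3, 6), (6, 8)],
     [(0, 2), (3, 5), (5, 7), (7, 8)],
     [(0, 2), (3, 5), (5, 4), (4, 6), (6, 7), (7, 8)],
     [(3, 5), (5, 6), (6, 7), (7, 8)],
     [(0, 8), (8, 3), (3, 7), (7, 4), (4, 5), (1, 2)],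
     [(0, 8), (8, 3), (3, 7), (7, 4), (4, 6), (1, 2)],
     [(0, 2), (2, 7), (7, 6), (6, 5), (5, 4), (3, 8)],
     [(0, 5), (5, 2), (2, 6), (1, 7), (7, 8), (8, 4)],
     [(0, 7), (7, 8), (8, 4), (4, 1), (1, 6), (2, 5)],
     [(0, 6), (1, 5), (5, 2), (2, 7), (7, 8), (8, 4)],
     [(1, 6), (6, 8), (2, 4), (4, 3), (3, 5), (5, 7)],
     [(1, 6), (6, 7), (7, 8), (2, 4), (4, 3), (3, 5)],
     [(0, 2), (2, 3), (3, 7), (7, 4), (4, 5), (1, 8)],
     [(0, 5), (5, 8), (8, 1), (1, 7), (7, 2), (2, 3), (3, 6), (6, 4)],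
     [(0, 3), (3, 6), (6, 2), (2, 5), (5, 8), (8, 1), (1, 7), (7, 4)],
     [(0, 3), (3, 6), (6, 4), (4, 2), (2, 5), (5, 8), (8, 1), (1, 7)],
     [(0, 7), (7, 8), (8, 3), (3, 5), (5, 2), (1, 6)],
     [(0, 1), (1, 8), (8, 3), (3, 2), (2, 4), (4, 6), (6, 7), (7, 5)],
     [(0, 7), (7, 4), (4, 8), (8, 3), (3, 6), (6, 1), (1, 5), (5, 2)],
     [(0, 5), (5, 6), (6, 7), (7, 8), (8, 4), (4, 3), (3, 2), (2, 1)],
     [(2, 5), (5, 6), (6, 7), (7, 8), (8, 4), (4, 3)],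
     [(0, 5), (5, 6), (6, 7), (7, 8), (8, 4), (4, 3)],
     [(0, 8), (8, 1)]]

/-- a chunk of the certificate -/
def reps4 : List Word :=
  [[(1, 2), (2, 8)],
     [(0, 5), (5, 8), (8, 1), (1, 7), (2, 6), (3, 4)],
     [(0, 2), (2, 1), (1, 3), (4, 6), (6, 8), (5, 7)],
     [(0, 2), (2, 1), (1, 3), (4, 6), (6, 7), (7, 8)],
     [(0, 5), (5, 2), (2, 6), (6, 3), (3, 7), (7, 1), (1, 8), (8, 4)],
     [(0, 2), (2, 3), (3, 4), (4, 5), (5, 6), (6, 7), (7, 8), (8, 1)],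
     [(1, 3), (3, 4), (4, 5), (5, 6), (6, 7), (7, 8)],
     [(0, 2), (2, 4), (4, 5), (5, 6), (6, 7), (7, 8), (8, 1), (1, 3)],
     [(0, 2), (2, 3), (3, 1), (1, 5), (5, 6), (6, 7), (7, 8), (8, 4)],
     [(0, 5), (5, 6), (6, 7), (7, 8), (8, 4), (1, 3)],
     [(0, 2), (2, 1), (1, 3), (3, 5), (5, 6), (6, 7), (7, 8), (8, 4)],
     [(0, 6), (6, 4), (4, 7), (7, 8), (8, 3), (3, 2), (2, 1), (1, 5)],
     [(1, 4), (2, 7), (3, 8), (5, 6)],
     [(0, 7), (7, 6), (6, 5), (5, 2), (2, 4), (4, 1), (1, 8), (8, 3)],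
     [(0, 8), (2, 4), (4, 6), (6, 3), (3, 7), (7, 5)],
     [(0, 8), (2, 7), (7, 6), (6, 3), (3, 4), (4, 5)],
     [(0, 2), (2, 5), (5, 7), (7, 8), (1, 3), (3, 6)],
     [(1, 8), (8, 3), (2, 5), (4, 7)],
     [(0, 8), (8, 3), (3, 1), (1, 5), (5, 2), (4, 7)],
     [(0, 2), (2, 6), (6, 1), (1, 7), (7, 8), (8, 3), (3, 4), (4, 5)],
     [(0, 7), (7, 6), (6, 5), (5, 1), (1, 2), (2, 4), (4, 3), (3, 8)],
     [(0, 3), (3, 6), (6, 2), (2, 5), (5, 7), (7, 8)],
     [(0, 1), (1, 5), (5, 7), (7, 2), (2, 6), (6, 8)],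
     [(0, 8), (8, 3), (3, 2), (2, 5), (5, 1), (4, 7)],
     [(1, 5), (2, 8), (8, 3), (4, 7)],
     [(0, 7), (7, 8), (8, 3), (3, 6), (1, 4), (4, 2)],
     [(0, 7), (7, 8), (1, 4), (4, 5), (2, 3), (3, 6)],
     [(0, 4), (4, 2), (2, 7), (7, 8), (1, 3), (3, 6)],
     [(0, 4), (4, 1), (1, 7), (7, 2), (2, 3), (3, 6), (6, 5), (5, 8)],
     [(0, 1), (2, 6), (6, 7), (7, 8), (8, 3), (4, 5)],
     [(0, 2), (2, 6), (6, 7), (7, 8), (8, 3), (4, 5)],
     [(0, 1), (1, 6), (6, 7), (7, 8), (8, 3), (4, 5)]]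

/-- a chunk of the certificate -/
def reps5 : List Word :=
  [[(0, 5), (1, 6), (2, 7), (7, 8), (8, 4), (4, 3)],
     [(0, 6), (6, 1), (1, 7), (7, 8), (8, 4), (4, 3), (3, 2), (2, 5)],
     [(0, 5), (5, 1), (1, 6), (6, 3), (3, 2), (2, 7), (7, 8), (8, 4)],
     [(0, 2), (2, 5), (1, 7), (7, 4), (4, 8), (3, 6)],
     [(0, 7), (7, 4), (4, 8), (8, 1), (1, 5), (3, 6)],
     [(0, 8), (8, 1), (2, 3), (3, 4)],
     [(1, 5), (5, 6), (6, 7), (7, 8), (8, 4), (4, 2)],
     [(0, 5), (5, 6), (6, 7), (7, 8), (8, 4), (4, 2)],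
     [(0, 1), (2, 5), (5, 6), (6, 7), (7, 8), (8, 4)],
     [(1, 2), (2, 3), (3, 5), (5, 6), (6, 7), (7, 8)],
     [(0, 2), (1, 3), (3, 5), (5, 6), (6, 7), (7, 8)],
     [(0, 3), (3, 5), (5, 7), (7, 8), (8, 1), (1, 2)],
     [(0, 6), (6, 5), (5, 7), (7, 8), (8, 4), (1, 2)],
     [(0, 6), (6, 7), (1, 3), (3, 2), (4, 5), (5, 8)],
     [(0, 6), (6, 8), (8, 4), (4, 7), (1, 2), (2, 3)],
     [(0, 5), (5, 3), (3, 1), (1, 6), (6, 2), (2, 7), (7, 8), (8, 4)],
     [(0, 5), (1, 6), (6, 3), (2, 7), (7, 8), (8, 4)],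
     [(0, 2), (1, 8), (8, 4), (4, 7)],
     [(0, 8), (8, 5), (5, 2), (2, 6), (6, 3), (3, 7), (7, 1), (1, 4)],
     [(0, 2), (2, 1), (1, 3), (4, 6), (5, 7), (7, 8)],
     [(0, 4), (1, 6), (6, 3), (3, 7), (2, 8), (8, 5)],
     [(0, 7), (1, 5), (5, 3), (2, 6), (6, 4), (4, 8)],
     [(0, 5), (5, 4), (4, 3), (3, 7), (2, 6), (6, 8)],
     [(0, 5), (5, 8), (8, 2), (2, 7), (3, 6), (6, 4)],
     [(0, 3), (3, 5), (5, 7), (7, 8), (8, 2), (2, 1)],
     [(0, 1), (2, 3), (3, 5), (5, 6), (6, 7), (7, 8)],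
     [(1, 3), (3, 5), (5, 6), (6, 7), (7, 8), (8, 2)],
     [(0, 5), (5, 6), (6, 7), (7, 8), (8, 4), (4, 1), (1, 2), (2, 3)],
     [(1, 5), (4, 6), (6, 7), (7, 8)],
     [(0, 8), (8, 4), (4, 5), (1, 6), (6, 2), (3, 7)],
     [(0, 2), (2, 6), (5, 7), (7, 8)],
     [(0, 6), (6, 7), (1, 3), (3, 2), (4, 8), (8, 5)]]

/-- a chunk of the certificate -/
def reps6 : List Word :=
  [[(0, 4), (4, 6), (6, 3), (3, 7), (7, 1), (1, 8), (8, 5), (5, 2)],
     [(0, 3), (3, 4), (4, 5), (5, 6), (6, 7), (7, 8), (8, 2), (2, 1)],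
     [(2, 3), (3, 4), (4, 5), (5, 6), (6, 7), (7, 8)],
     [(0, 3), (2, 4), (4, 5), (5, 6), (6, 7), (7, 8)],
     [(0, 4), (1, 2), (2, 3), (5, 6), (6, 7), (7, 8)],
     [(0, 2), (2, 4), (1, 3), (5, 6), (6, 7), (7, 8)],
     [(0, 4), (1, 3), (3, 2), (5, 6), (6, 7), (7, 8)],
     [(0, 4), (4, 7), (7, 8), (8, 5), (5, 1), (1, 2), (2, 3), (3, 6)],
     [(0, 2), (2, 4), (4, 7), (7, 8), (8, 5), (5, 1), (1, 3), (3, 6)],
     [(0, 3), (3, 2), (2, 4), (4, 1), (1, 6), (6, 7), (7, 8), (8, 5)],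
     [(0, 7), (7, 5), (5, 6), (6, 2), (2, 1), (1, 8), (8, 3), (3, 4)],
     [(0, 1), (1, 8), (8, 3), (3, 4), (4, 6), (6, 2), (2, 7), (7, 5)],
     [(0, 7), (7, 5), (5, 6), (1, 8), (8, 3), (2, 4)],
     [(0, 2), (2, 7), (7, 8), (8, 4), (1, 3), (3, 6)],
     [(0, 3), (3, 6), (6, 1), (1, 7), (7, 8), (8, 4)],
     [(0, 3), (3, 6), (1, 2), (2, 7), (7, 8), (8, 4)],
     [(1, 5), (5, 8), (2, 3), (3, 6), (6, 4), (4, 7)],
     [(0, 5), (5, 2), (2, 6), (6, 8), (8, 1), (4, 7)],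
     [(0, 5), (5, 7), (7, 2), (2, 6), (6, 8), (8, 1)],
     [(0, 7), (7, 8), (8, 1), (1, 4), (4, 5), (5, 2), (2, 3), (3, 6)],
     [(0, 8), (8, 1), (2, 5), (5, 7), (7, 3), (4, 6)],
     [(1, 8), (2, 5), (5, 3), (4, 7)],
     [(0, 1), (2, 6), (6, 7), (7, 8), (8, 4), (4, 3)],
     [(1, 6), (6, 7), (7, 8), (8, 4), (4, 3), (3, 2)],
     [(0, 8), (8, 4), (4, 2), (2, 5), (1, 7), (7, 6)],
     [(1, 5), (5, 2), (2, 8), (4, 7)],
     [(0, 5), (5, 2), (1, 8), (4, 7)],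
     [(0, 8), (8, 1), (2, 5), (4, 7)],
     [(1, 6), (6, 5), (5, 2), (2, 3), (4, 7), (7, 8)],
     [(0, 8), (8, 4), (4, 3), (3, 2), (2, 7), (7, 6), (6, 1), (1, 5)],
     [(0, 6), (6, 5), (5, 2), (1, 3), (4, 7), (7, 8)],
     [(0, 2), (2, 3), (3, 6), (6, 5), (5, 4), (4, 7), (7, 8), (8, 1)]]

/-- a chunk of the certificate -/
def reps7 : List Word :=
  [[(1, 3), (3, 6), (6, 5), (5, 4), (4, 7), (7, 8)],
     [(0, 2), (2, 6), (6, 5), (5, 4), (4, 7), (7, 8), (8, 1), (1, 3)],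
     [(0, 5), (5, 2), (1, 8), (8, 4), (4, 7), (3, 6)],
     [(0, 8), (8, 4), (4, 7), (7, 1), (2, 5), (3, 6)],
     [(0, 5), (5, 2), (2, 6), (6, 3), (3, 8), (8, 4), (4, 7), (7, 1)],
     [(0, 8), (8, 5), (5, 4), (1, 7), (2, 3), (3, 6)],
     [(0, 4), (4, 3), (3, 2), (5, 6), (6, 7), (7, 8)],
     [(0, 4), (4, 3), (1, 2), (5, 6), (6, 7), (7, 8)],
     [(0, 5), (5, 3), (1, 6), (6, 4), (2, 7), (7, 8)],
     [(1, 7), (7, 4), (4, 3), (3, 6), (2, 5), (5, 8)],
     [(1, 7), (7, 4), (4, 8), (8, 2), (2, 5), (3, 6)],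
     [(0, 4), (2, 6), (6, 7), (7, 8), (8, 5), (5, 3)],
     [(0, 2), (2, 6), (6, 7), (7, 8), (8, 5), (5, 3), (3, 1), (1, 4)],
     [(0, 8), (8, 5), (5, 6), (6, 4), (4, 2), (2, 3), (3, 7), (7, 1)],
     [(0, 1), (1, 4), (2, 6), (6, 5), (5, 7), (7, 8)],
     [(0, 4), (1, 6), (6, 5), (5, 7), (7, 8), (8, 2)],
     [(0, 1), (1, 3), (3, 6), (6, 7), (7, 8), (8, 2), (2, 4), (4, 5)],
     [(0, 6), (6, 5), (5, 7), (7, 8), (8, 4), (4, 1)],
     [(0, 2), (2, 3), (1, 6), (6, 5), (4, 7), (7, 8)],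
     [(0, 8), (8, 4), (4, 6), (6, 2), (2, 1), (1, 5), (5, 3), (3, 7)],
     [(0, 4), (4, 6), (1, 3), (3, 7), (7, 8), (8, 5)],
     [(0, 4), (1, 3), (3, 7), (7, 8), (8, 5), (5, 6)],
     [(0, 3), (3, 7), (7, 8), (8, 5), (5, 6), (6, 1), (1, 2), (2, 4)],
     [(0, 4), (4, 2), (2, 1), (5, 6), (6, 7), (7, 8)],
     [(0, 8), (8, 5), (5, 1), (1, 6), (6, 4), (4, 3), (3, 2), (2, 7)],
     [(0, 6), (6, 4), (4, 3), (3, 2), (2, 8), (8, 5), (5, 1), (1, 7)],
     [(0, 4), (2, 3), (6, 7), (7, 8)],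
     [(0, 4), (1, 2), (2, 3), (5, 7), (7, 8), (8, 6)],
     [(0, 7), (7, 4), (4, 1), (1, 8), (8, 6), (6, 2), (2, 5), (5, 3)],
     [(2, 4), (4, 6), (6, 8), (8, 3), (3, 5), (5, 7)],
     [(2, 4), (4, 6), (6, 7), (7, 8), (8, 3), (3, 5)],
     [(0, 2), (2, 6), (6, 1), (1, 8), (8, 3), (3, 7), (7, 4), (4, 5)]]

/-- a chunk of the certificate -/
def reps8 : List Word :=
  [[(0, 1), (1, 2), (2, 3), (3, 5), (5, 7), (7, 8)],
     [(0, 2), (2, 1), (1, 3), (3, 5), (5, 7), (7, 8)],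
     [(0, 3), (3, 5), (5, 7), (7, 8)],
     [(0, 1), (1, 2), (2, 6), (6, 5), (5, 7), (7, 8), (8, 3), (3, 4)],
     [(0, 2), (2, 6), (6, 5), (5, 7), (7, 8), (8, 3), (3, 1), (1, 4)],
     [(0, 2), (2, 1), (1, 6), (6, 5), (5, 7), (7, 8), (8, 3), (3, 4)],
     [(0, 3), (3, 4), (4, 2), (2, 6), (6, 8), (8, 5)],
     [(0, 4), (4, 7), (7, 8), (8, 5), (5, 2), (2, 6)],
     [(0, 6), (6, 7), (7, 8), (8, 5), (1, 3), (2, 4)],
     [(0, 4), (4, 3), (3, 7), (2, 8), (8, 5), (5, 6)],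
     [(0, 1), (1, 8), (8, 5), (5, 6), (6, 2), (2, 4), (4, 3), (3, 7)],
     [(0, 8), (8, 5), (5, 2), (2, 7), (7, 6), (6, 3), (3, 1), (1, 4)],
     [(0, 7), (7, 8), (8, 6), (1, 3), (3, 4), (4, 5)],
     [(0, 8), (8, 6), (6, 4), (4, 7), (7, 2), (2, 1), (1, 5), (5, 3)],
     [(0, 3), (3, 4), (4, 5), (5, 1), (1, 2), (2, 7), (7, 8), (8, 6)],
     [(0, 4), (4, 6), (6, 8), (8, 3), (3, 5), (5, 7)],
     [(0, 4), (4, 6), (6, 7), (7, 8), (8, 3), (3, 5)],
     [(0, 2), (2, 5), (5, 6), (6, 7), (7, 8), (8, 3), (3, 1), (1, 4)],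
     [(0, 6), (6, 4), (4, 2), (2, 1), (1, 8), (8, 5), (5, 3), (3, 7)],
     [(0, 4), (4, 1), (1, 2), (2, 3), (5, 7), (7, 8)],
     [(0, 4), (4, 1), (2, 3), (5, 6), (6, 7), (7, 8)],
     [(0, 3), (3, 4), (4, 1), (1, 2), (2, 5), (6, 8)],
     [(0, 5), (5, 7), (1, 3), (3, 2), (2, 4), (6, 8)],
     [(0, 5), (1, 3), (3, 2), (2, 4), (6, 7), (7, 8)],
     [(0, 3), (1, 6), (6, 7), (7, 8), (8, 5), (2, 4)],
     [(0, 6), (6, 8), (8, 5), (5, 1), (1, 4), (4, 2)],
     [(1, 3), (3, 6), (2, 4), (4, 7), (7, 8), (8, 5)],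
     [(0, 8), (8, 3), (3, 7), (7, 5), (5, 1), (1, 2), (2, 4), (4, 6)],
     [(0, 8), (8, 3), (3, 2), (2, 4), (4, 1), (1, 7), (7, 5), (5, 6)],
     [(0, 7), (7, 5), (5, 6), (6, 1), (1, 8), (8, 3), (3, 2), (2, 4)],
     [(0, 8), (8, 5), (1, 4), (4, 2), (2, 7), (7, 6)],
     [(3, 6), (5, 8)]]

/-- a chunk of the certificate -/
def reps9 : List Word :=
  [[(0, 4), (4, 2), (2, 8), (8, 5), (1, 7), (7, 6)],
     [(1, 8), (8, 2), (2, 5), (4, 7)],
     [(0, 8), (8, 2), (1, 5), (4, 7)],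
     [(0, 1), (1, 6), (6, 5), (5, 8), (8, 2), (2, 7), (7, 3), (3, 4)],
     [(0, 3), (3, 6), (6, 5), (5, 4), (4, 7), (7, 8), (8, 2), (2, 1)],
     [(0, 1), (2, 6), (6, 5), (5, 4), (4, 7), (7, 8)],
     [(0, 8), (8, 2), (2, 5), (5, 6), (6, 3), (3, 4), (4, 1), (1, 7)],
     [(0, 8), (8, 5), (5, 2), (1, 4), (4, 7), (3, 6)],
     [(0, 4), (4, 7), (7, 1), (2, 8), (8, 5), (3, 6)],
     [(0, 8), (8, 5), (5, 2), (2, 6), (6, 3), (3, 4), (4, 7), (7, 1)],
     [(0, 8), (8, 2), (2, 5), (4, 7)],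
     [(0, 1), (1, 5), (2, 8), (4, 7)],
     [(0, 8), (8, 2), (2, 3), (3, 1), (1, 5), (4, 7)],
     [(0, 1), (2, 6), (6, 7), (7, 8), (3, 4), (4, 5)],
     [(1, 6), (6, 7), (7, 8), (8, 2), (3, 4), (4, 5)],
     [(0, 1), (1, 6), (6, 7), (7, 8), (8, 2), (2, 4), (4, 5), (5, 3)],
     [(0, 8), (8, 5), (5, 1), (1, 6), (6, 7), (7, 2)],
     [(0, 6), (6, 7), (7, 2), (2, 8), (8, 5), (5, 1)],
     [(0, 6), (6, 2), (2, 8), (8, 5), (5, 7), (7, 1)],
     [(1, 8), (8, 2), (2, 6), (6, 3), (3, 5), (4, 7)],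
     [(1, 8), (8, 2), (2, 5), (5, 3), (3, 6), (4, 7)],
     [(0, 1), (1, 4), (2, 7), (7, 8)],
     [(0, 2), (2, 7), (7, 8), (8, 4), (4, 1), (5, 6)],
     [(0, 8), (8, 4), (4, 7), (1, 5), (5, 2), (3, 6)],
     [(0, 5), (1, 8), (8, 4), (4, 7), (7, 2), (3, 6)],
     [(0, 6), (6, 8), (8, 5), (5, 3), (3, 1), (1, 7), (7, 4), (4, 2)],
     [(0, 6), (6, 4), (4, 2), (2, 7), (7, 8), (8, 5), (5, 3), (3, 1)],
     [(0, 4), (4, 1), (1, 8), (8, 5), (5, 6), (6, 7)],
     [(0, 8), (8, 6), (6, 2), (2, 4), (4, 1), (1, 7), (7, 5), (5, 3)],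
     [(0, 7), (7, 5), (5, 3), (1, 4), (2, 8), (8, 6)],
     [(0, 8), (8, 6), (6, 3), (3, 7), (7, 1), (1, 4), (4, 5), (5, 2)],
     [(0, 4), (4, 6), (6, 7), (7, 8), (8, 3), (3, 5), (5, 1), (1, 2)]]

/-- a chunk of the certificate -/
def reps10 : List Word :=
  [[(1, 4), (4, 6), (6, 7), (7, 8), (8, 3), (3, 5)],
     [(0, 2), (1, 5), (5, 7), (7, 8), (8, 3), (3, 4)],
     [(0, 1), (1, 8), (8, 5), (5, 6), (6, 4), (4, 2), (2, 3), (3, 7)],
     [(0, 8), (8, 5), (5, 6), (6, 4), (4, 2), (2, 3), (3, 1), (1, 7)],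
     [(0, 1), (1, 8), (8, 5), (5, 4), (4, 2), (2, 3), (3, 7), (7, 6)],
     [(0, 7), (7, 8), (8, 6), (6, 1), (1, 3), (3, 5)],
     [(0, 3), (3, 5), (1, 2), (2, 7), (7, 8), (8, 6)],
     [(0, 7), (7, 8), (8, 6), (6, 1), (1, 2), (2, 5)],
     [(0, 2), (2, 6), (6, 5), (5, 7), (7, 8), (1, 4)],
     [(0, 4), (4, 1), (1, 6), (6, 5), (5, 7), (7, 8)],
     [(0, 2), (2, 4), (4, 5), (5, 1), (1, 3), (3, 6), (6, 7), (7, 8)],
     [(0, 7), (7, 8), (8, 3), (3, 4), (4, 1), (1, 2), (2, 5), (5, 6)],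
     [(0, 8), (8, 3), (2, 6), (6, 4), (4, 7), (7, 5)],
     [(0, 8), (8, 3), (3, 1), (2, 6), (4, 7), (7, 5)],
     [(0, 4), (4, 2), (2, 3), (3, 7), (7, 6), (5, 8)],
     [(0, 8), (8, 5), (5, 4), (4, 7), (7, 1), (1, 2), (2, 6), (6, 3)],
     [(0, 8), (8, 5), (5, 1), (3, 6)],
     [(0, 4), (4, 1), (1, 3), (3, 7), (7, 6), (6, 8), (8, 5), (5, 2)],
     [(0, 8), (8, 5), (5, 7), (7, 4), (4, 3), (3, 2), (2, 1), (1, 6)],
     [(0, 3), (3, 7), (7, 6), (6, 8), (8, 5), (5, 2), (2, 4), (4, 1)],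
     [(0, 5), (1, 2), (3, 4), (6, 8)],
     [(0, 3), (3, 7), (7, 4), (4, 1), (1, 8), (8, 6), (6, 5), (5, 2)],
     [(0, 2), (2, 5), (3, 4), (6, 8)],
     [(0, 8), (8, 6), (6, 2), (2, 5), (5, 3), (3, 1), (1, 7), (7, 4)],
     [(0, 8), (8, 6), (6, 2), (2, 1), (1, 7), (3, 5)],
     [(0, 4), (4, 1), (1, 2), (5, 7), (7, 8), (8, 6)],
     [(0, 1), (1, 2), (2, 6), (6, 3), (3, 5), (5, 7), (7, 8), (8, 4)],
     [(1, 8), (8, 4), (4, 6), (2, 7)],
     [(0, 2), (2, 1), (1, 6), (6, 3), (3, 5), (5, 7), (7, 8), (8, 4)],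
     [(0, 4), (1, 2), (2, 6), (6, 5), (5, 7), (7, 8)],
     [(0, 2), (2, 4), (4, 7), (1, 3), (3, 6), (6, 8)],
     [(0, 2), (2, 4), (4, 5), (5, 8), (8, 1), (1, 3), (3, 6), (6, 7)]]

/-- a chunk of the certificate -/
def reps11 : List Word :=
  [[(0, 2), (2, 6), (6, 7), (7, 8), (8, 3), (3, 4), (4, 5), (5, 1)],
     [(1, 4), (2, 6), (6, 5), (5, 7), (7, 8), (8, 3)],
     [(0, 2), (2, 6), (6, 5), (5, 7), (7, 8), (8, 3), (3, 4), (4, 1)],
     [(0, 5), (1, 3), (3, 2), (2, 7), (7, 8), (8, 4)],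
     [(0, 5), (1, 3), (3, 7), (7, 8), (8, 4), (4, 6)],
     [(0, 1), (1, 8), (8, 4), (4, 7), (7, 3), (2, 6)],
     [(0, 2), (2, 5), (5, 1), (1, 7), (7, 8), (8, 6), (6, 3), (3, 4)],
     [(0, 7), (7, 8), (8, 6), (6, 3), (3, 4), (1, 5)],
     [(0, 7), (7, 8), (8, 6), (1, 2), (2, 5), (3, 4)],
     [(0, 6), (6, 7), (7, 8), (8, 5), (5, 4), (4, 2), (2, 3), (3, 1)],
     [(0, 1), (1, 3), (2, 6), (6, 4), (5, 7), (7, 8)],
     [(0, 4), (4, 3), (3, 2), (2, 7), (7, 6), (6, 1), (1, 8), (8, 5)],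
     [(0, 5), (5, 4), (4, 7), (7, 1), (1, 8), (8, 6), (6, 3), (3, 2)],
     [(0, 7), (7, 8), (8, 6), (1, 4), (4, 2), (2, 3)],
     [(0, 3), (3, 4), (4, 5), (5, 2), (2, 1), (1, 7), (7, 8), (8, 6)],
     [(0, 8), (8, 6), (6, 3), (3, 2), (2, 5), (5, 4)],
     [(0, 8), (8, 6), (6, 4), (4, 7), (1, 5), (5, 3)],
     [(0, 5), (5, 4), (4, 3), (3, 2), (2, 1), (1, 8), (8, 6), (6, 7)],
     [(0, 8), (8, 7), (1, 4), (4, 6), (2, 3), (3, 5)],
     [(0, 3), (3, 8), (8, 7), (7, 1), (1, 4), (4, 2), (2, 5), (5, 6)],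
     [(0, 1), (3, 6), (4, 5), (7, 8)],
     [(0, 5), (5, 1), (1, 3), (3, 6), (4, 7), (7, 8)],
     [(0, 3), (3, 2), (2, 5), (5, 1), (1, 6), (6, 8), (8, 4), (4, 7)],
     [(0, 3), (3, 2), (2, 5), (5, 8), (8, 4), (4, 7), (7, 1), (1, 6)],
     [(0, 8), (8, 6), (6, 3), (1, 7), (7, 5), (5, 4)],
     [(0, 8), (8, 6), (6, 4), (4, 1), (1, 7), (7, 3)],
     [(0, 7), (7, 5), (5, 4), (4, 1), (1, 2), (2, 8), (8, 6), (6, 3)],
     [(0, 5), (5, 1), (1, 3), (2, 4), (6, 7), (7, 8)],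
     [(0, 8), (8, 6), (6, 5), (5, 4), (4, 3), (3, 2), (2, 1), (1, 7)],
     [(0, 8), (8, 6), (6, 3), (3, 1), (1, 2), (2, 7), (7, 5), (5, 4)],
     [(0, 7), (7, 3), (3, 4), (4, 2), (2, 5), (6, 8)],
     [(0, 7), (7, 8), (8, 6), (6, 2), (2, 5), (5, 3), (3, 1), (1, 4)]]

/-- a chunk of the certificate -/
def reps12 : List Word :=
  [[(0, 7), (7, 8), (8, 6), (6, 3), (3, 1), (1, 4), (4, 2), (2, 5)],
     [(0, 7), (7, 8), (8, 6), (6, 5), (1, 2), (2, 3)],
     [(0, 2), (2, 7), (7, 8), (8, 6), (6, 5), (1, 3)],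
     [(0, 3), (3, 1), (1, 7), (7, 8), (8, 6), (6, 5)],
     [(0, 8), (1, 5), (5, 2), (4, 7)],
     [(0, 5), (5, 2), (2, 8), (4, 7)],
     [(0, 1), (1, 8), (2, 5), (4, 7)],
     [(2, 6), (6, 7), (7, 8), (8, 3), (3, 4), (4, 5)],
     [(0, 1), (2, 6), (6, 7), (7, 5), (3, 4), (4, 8)],
     [(2, 6), (6, 5), (5, 7), (7, 8), (8, 3), (3, 4)],
     [(0, 1), (1, 2), (2, 3), (3, 6), (6, 5), (5, 4), (4, 7), (7, 8)],
     [(0, 2), (2, 1), (1, 3), (3, 6), (6, 5), (5, 4), (4, 7), (7, 8)],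
     [(0, 1), (1, 2), (2, 3), (3, 6), (6, 7), (7, 8)],
     [(0, 8), (8, 3), (3, 6), (6, 1), (2, 5), (4, 7)],
     [(0, 8), (8, 3), (3, 6), (6, 4), (4, 7), (7, 2), (2, 5), (5, 1)],
     [(1, 8), (8, 3), (3, 6), (2, 5), (5, 4), (4, 7)],
     [(0, 8), (8, 5), (1, 4), (4, 7), (7, 2), (3, 6)],
     [(0, 8), (8, 5), (5, 3), (3, 6), (6, 2), (2, 1), (1, 4), (4, 7)],
     [(0, 8), (8, 5), (5, 3), (3, 1), (1, 4), (2, 6)],
     [(0, 7), (7, 8), (8, 6), (6, 3), (3, 5), (5, 2)],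
     [(0, 3), (3, 2), (2, 4), (1, 8), (8, 6), (5, 7)],
     [(0, 1), (2, 7), (7, 8), (8, 6), (6, 3), (3, 5)],
     [(0, 8), (1, 2), (2, 5), (4, 7)],
     [(0, 2), (2, 8), (1, 5), (4, 7)],
     [(0, 5), (5, 1), (1, 2), (2, 3), (3, 8), (6, 7)],
     [(0, 2), (2, 6), (6, 7), (7, 8), (3, 4), (4, 5)],
     [(0, 1), (1, 6), (6, 7), (7, 8), (3, 4), (4, 5)],
     [(0, 5), (5, 1), (1, 7), (7, 2), (2, 8), (4, 6)],
     [(0, 2), (2, 7), (3, 5), (5, 4), (4, 6), (6, 8)],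
     [(0, 2), (2, 7), (1, 5), (5, 8), (8, 3), (4, 6)],
     [(0, 6), (6, 7), (7, 5), (5, 2), (2, 4), (4, 1), (1, 8), (8, 3)],
     [(1, 2), (2, 7), (7, 6), (6, 8), (8, 5), (3, 4)]]

/-- a chunk of the certificate -/
def reps13 : List Word :=
  [[(0, 1), (1, 8), (8, 5), (5, 7), (2, 3), (3, 6)],
     [(0, 4), (4, 3), (3, 7), (7, 8), (8, 5), (5, 6), (6, 1), (1, 2)],
     [(0, 4), (4, 2), (1, 7), (7, 8), (8, 6), (6, 3)],
     [(0, 7), (7, 5), (5, 2), (1, 4), (4, 3), (6, 8)],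
     [(0, 4), (4, 8), (8, 6), (6, 2), (2, 7), (7, 5), (5, 3), (3, 1)],
     [(0, 8), (2, 5), (3, 6), (4, 7)],
     [(0, 1), (1, 5), (5, 2), (2, 8), (3, 6), (4, 7)],
     [(0, 8), (1, 5), (5, 2), (2, 6), (6, 3), (4, 7)],
     [(0, 8), (8, 3), (3, 4), (4, 7), (1, 2), (2, 5)],
     [(2, 6), (6, 4), (4, 8), (8, 3), (3, 7), (7, 5)],
     [(0, 1), (2, 6), (3, 7), (7, 5), (5, 4), (4, 8)],
     [(0, 6), (6, 4), (2, 7), (7, 8), (8, 5), (5, 3)],
     [(0, 8), (8, 5), (5, 2), (2, 4), (4, 7), (7, 1)],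
     [(1, 4), (4, 7), (2, 8), (8, 5)],
     [(0, 7), (7, 5), (5, 3), (3, 1), (1, 8), (8, 6), (6, 2), (2, 4)],
     [(0, 8), (8, 6), (6, 2), (2, 7), (7, 5), (5, 3), (3, 1), (1, 4)],
     [(0, 3), (3, 2), (1, 5), (4, 7), (7, 8), (8, 6)],
     [(0, 6), (6, 1), (1, 3), (3, 4), (4, 5), (7, 8)],
     [(1, 8), (8, 7), (7, 6), (6, 3), (2, 5), (5, 4)],
     [(0, 2), (2, 6), (1, 3), (3, 4), (4, 5), (7, 8)],
     [(0, 4), (4, 7), (7, 8), (8, 5), (5, 3), (3, 6), (6, 2), (2, 1)],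
     [(0, 4), (4, 2), (2, 6), (6, 7), (7, 8), (8, 5), (5, 3), (3, 1)],
     [(0, 8), (8, 5), (5, 6), (6, 4), (1, 7), (2, 3)],
     [(0, 7), (7, 8), (8, 6), (6, 2), (2, 3), (3, 5)],
     [(0, 4), (4, 1), (1, 8), (8, 6), (6, 5), (5, 7), (7, 3), (3, 2)],
     [(0, 1), (1, 3), (3, 5), (2, 7), (7, 8), (8, 6)],
     [(0, 3), (3, 5), (5, 2), (1, 7), (7, 8), (8, 6)],
     [(0, 7), (7, 8), (8, 6), (6, 2), (1, 3), (3, 5)],
     [(0, 4), (4, 3), (3, 2), (2, 1), (1, 8), (8, 6), (6, 5), (5, 7)],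
     [(0, 8), (8, 7), (1, 4), (4, 5), (2, 3), (3, 6)],
     [(0, 4), (4, 5), (5, 1), (1, 3), (3, 6), (6, 2), (2, 8), (8, 7)],
     [(0, 2), (3, 5), (4, 6), (7, 8)]]

/-- a chunk of the certificate -/
def reps14 : List Word :=
  [[(0, 4), (4, 7), (7, 2), (2, 3), (1, 6), (6, 8)],
     [(0, 4), (4, 7), (7, 8), (8, 1), (1, 6), (6, 5), (5, 2), (2, 3)],
     [(0, 3), (3, 4), (4, 5), (5, 2), (2, 6), (6, 7), (7, 8), (8, 1)],
     [(0, 8), (8, 1), (1, 2), (2, 6), (6, 4), (4, 7), (7, 5), (5, 3)],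
     [(0, 2), (2, 8), (8, 1), (1, 6), (6, 4), (4, 7), (7, 5), (5, 3)],
     [(0, 2), (2, 8), (8, 1), (3, 6), (6, 7), (4, 5)],
     [(0, 2), (2, 7), (7, 8), (8, 4), (4, 6), (6, 3)],
     [(1, 7), (7, 8), (8, 4), (4, 6), (6, 5), (5, 3)],
     [(0, 5), (5, 1), (1, 8), (8, 4), (4, 7), (7, 2), (2, 3), (3, 6)],
     [(0, 7), (7, 4), (4, 8), (8, 6), (6, 5), (5, 2), (2, 1), (1, 3)],
     [(0, 8), (8, 6), (1, 4), (4, 3), (3, 5), (5, 7)],
     [(0, 5), (5, 7), (7, 1), (1, 8), (8, 6), (3, 4)],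
     [(0, 7), (7, 8), (8, 6), (6, 4), (4, 1), (1, 3)],
     [(0, 3), (1, 2), (2, 7), (7, 8), (8, 6), (6, 4)],
     [(0, 7), (7, 8), (8, 6), (6, 1), (1, 3), (4, 5)],
     [(0, 5), (5, 7), (7, 8), (8, 6), (6, 3), (1, 4)],
     [(1, 4), (4, 3), (3, 5), (5, 7), (7, 8), (8, 6)],
     [(0, 5), (5, 1), (3, 4), (6, 8)],
     [(0, 6), (1, 3), (3, 5), (7, 8)],
     [(0, 3), (3, 5), (5, 1), (1, 2), (2, 6), (7, 8)],
     [(0, 6), (1, 2), (2, 5), (7, 8)],
     [(0, 3), (2, 4), (4, 7), (7, 5), (5, 8), (8, 6)],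
     [(0, 3), (3, 1), (2, 4), (4, 8), (8, 6), (5, 7)],
     [(0, 3), (2, 4), (4, 7), (6, 8)],
     [(0, 8), (8, 7), (7, 5), (5, 4), (4, 1), (1, 6), (6, 3), (3, 2)],
     [(0, 6), (6, 4), (4, 1), (1, 8), (8, 7), (7, 3)],
     [(0, 6), (6, 3), (3, 2), (2, 8), (8, 7), (7, 5), (5, 4), (4, 1)],
     [(0, 6), (6, 3), (1, 5), (5, 7), (7, 8), (8, 4)],
     [(0, 1), (1, 3), (3, 8), (8, 4), (2, 7), (5, 6)],
     [(0, 5), (5, 7), (7, 8), (8, 4), (4, 1), (1, 2), (2, 6), (6, 3)],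
     [(0, 4), (4, 1), (2, 6), (6, 5), (5, 7), (7, 8)],
     [(1, 6), (6, 5), (5, 7), (7, 8), (8, 2), (2, 4)]]

/-- a chunk of the certificate -/
def reps15 : List Word :=
  [[(0, 4), (4, 1), (1, 6), (6, 5), (5, 7), (7, 8), (8, 2), (2, 3)],
     [(0, 8), (8, 2), (2, 6), (6, 4), (4, 7), (7, 5), (5, 3), (3, 1)],
     [(0, 1), (1, 8), (8, 2), (2, 6), (6, 4), (4, 7), (7, 5), (5, 3)],
     [(0, 8), (8, 2), (2, 1), (1, 6), (6, 4), (4, 7), (7, 5), (5, 3)],
     [(0, 5), (5, 6), (6, 8), (8, 4), (1, 7), (7, 2)],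
     [(0, 8), (8, 4), (4, 7), (7, 5), (5, 3), (3, 6), (6, 1), (1, 2)],
     [(0, 7), (7, 2), (2, 5), (5, 6), (6, 8), (8, 4)],
     [(1, 7), (7, 4), (4, 6), (6, 8), (8, 5), (5, 3)],
     [(0, 8), (8, 5), (5, 1), (1, 4), (4, 7), (7, 2), (2, 3), (3, 6)],
     [(0, 7), (7, 4), (4, 6), (6, 8), (8, 5), (5, 3), (3, 1), (1, 2)],
     [(0, 7), (7, 8), (8, 6), (6, 3), (1, 4), (2, 5)],
     [(0, 4), (4, 1), (1, 5), (5, 2), (2, 7), (7, 8), (8, 6), (6, 3)],
     [(0, 7), (7, 8), (8, 6), (6, 3), (3, 4), (4, 1), (1, 5), (5, 2)],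
     [(0, 7), (1, 2), (2, 4), (4, 5), (5, 3), (6, 8)],
     [(0, 4), (1, 7), (7, 3), (3, 2), (5, 8), (8, 6)],
     [(0, 5), (5, 1), (1, 8), (8, 6), (6, 7), (7, 2)],
     [(0, 6), (6, 5), (5, 2), (1, 3), (4, 8), (8, 7)],
     [(0, 8), (8, 7), (7, 6), (6, 1), (1, 5), (5, 3), (3, 2), (2, 4)],
     [(0, 3), (3, 1), (2, 6), (6, 5), (4, 8), (8, 7)],
     [(0, 6), (6, 5), (5, 4), (4, 1), (1, 3), (7, 8)],
     [(0, 6), (6, 5), (5, 1), (1, 2), (2, 3), (7, 8)],
     [(0, 2), (2, 6), (6, 5), (5, 1), (1, 3), (7, 8)],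
     [(0, 8), (8, 4), (4, 5), (5, 6), (6, 3), (3, 1), (1, 2), (2, 7)],
     [(0, 2), (2, 1), (1, 8), (8, 4), (4, 5), (3, 7)],
     [(0, 1), (1, 8), (8, 4), (4, 5), (5, 6), (6, 3), (3, 2), (2, 7)],
     [(0, 4), (4, 2), (2, 6), (1, 7), (7, 8), (8, 5)],
     [(0, 7), (7, 8), (8, 5), (5, 2), (2, 4), (1, 6)],
     [(0, 6), (6, 1), (1, 4), (4, 8), (8, 5), (5, 2), (2, 3), (3, 7)],
     [(0, 2), (2, 5), (1, 6), (6, 3), (3, 4), (7, 8)],
     [(0, 6), (6, 3), (3, 4), (4, 1), (1, 5), (7, 8)],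
     [(0, 6), (6, 1), (1, 2), (2, 5), (3, 4), (7, 8)],
     [(0, 5), (1, 6), (6, 2), (2, 4), (4, 3), (7, 8)]]

/-- a chunk of the certificate -/
def reps16 : List Word :=
  [[(0, 2), (2, 8), (8, 7), (7, 1)],
     [(0, 5), (1, 4), (4, 3), (3, 6), (6, 2), (7, 8)],
     [(0, 3), (3, 1), (2, 4), (4, 6), (5, 8), (8, 7)],
     [(0, 3), (2, 4), (4, 8), (8, 7), (7, 5), (5, 6)],
     [(0, 3), (2, 4), (4, 8), (8, 7)],
     [(0, 2), (2, 4), (4, 1), (1, 3), (3, 8), (8, 7)],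
     [(0, 6), (6, 2), (3, 5), (7, 8)],
     [(0, 3), (3, 8), (8, 7), (1, 4)],
     [(0, 5), (1, 8), (2, 7), (4, 6)],
     [(0, 8), (8, 1), (1, 7), (7, 2), (2, 5), (4, 6)],
     [(1, 2), (2, 6), (6, 7), (7, 8), (3, 4), (4, 5)],
     [(0, 1), (1, 2), (2, 7), (3, 5), (5, 6), (4, 8)],
     [(1, 8), (8, 4), (4, 7), (7, 2), (2, 6), (6, 5)],
     [(1, 8), (8, 4), (4, 7), (7, 2), (2, 3), (3, 6)],
     [(1, 8), (2, 5), (3, 6), (4, 7)],
     [(0, 8), (8, 1), (1, 5), (5, 2), (3, 6), (4, 7)],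
     [(1, 5), (5, 2), (2, 6), (6, 3), (3, 8), (4, 7)],
     [(0, 8), (8, 3), (3, 6), (6, 2), (2, 5), (4, 7)],
     [(0, 1), (1, 8), (8, 3), (3, 5), (5, 2), (2, 6), (6, 4), (4, 7)],
     [(0, 1), (1, 8), (8, 3), (3, 6), (6, 2), (2, 5), (5, 4), (4, 7)],
     [(0, 8), (8, 5), (1, 4), (4, 7), (7, 3), (3, 6)],
     [(0, 2), (2, 6), (6, 1), (1, 8), (8, 5), (5, 3), (3, 4), (4, 7)],
     [(0, 6), (1, 2), (2, 8), (8, 5), (5, 7), (3, 4)],
     [(0, 8), (8, 6), (6, 2), (1, 3), (3, 4), (5, 7)],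
     [(0, 8), (8, 6), (6, 7), (7, 5), (5, 2), (2, 4), (4, 1), (1, 3)],
     [(0, 5), (5, 4), (3, 7), (6, 8)],
     [(0, 8), (8, 1), (2, 4), (4, 7), (7, 5), (3, 6)],
     [(1, 4), (4, 7), (7, 5), (5, 2), (2, 8), (3, 6)],
     [(0, 3), (3, 5), (5, 4), (4, 6), (6, 8), (8, 1), (1, 2), (2, 7)],
     [(0, 7), (7, 3), (3, 2), (1, 4), (5, 8), (8, 6)],
     [(0, 1), (1, 8), (8, 6), (6, 2), (2, 5), (4, 7)],
     [(0, 4), (4, 1), (2, 7), (7, 3), (5, 8), (8, 6)]]

/-- a chunk of the certificate -/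
def reps17 : List Word :=
  [[(1, 4), (4, 5), (5, 2), (2, 3), (3, 6), (7, 8)],
     [(0, 1), (1, 2), (2, 8), (8, 7), (3, 5), (4, 6)],
     [(0, 4), (4, 5), (5, 2), (1, 3), (3, 6), (7, 8)],
     [(0, 8), (8, 1), (1, 2), (2, 5), (3, 6), (4, 7)],
     [(0, 8), (8, 1), (1, 2), (2, 5), (5, 3), (3, 6), (6, 4), (4, 7)],
     [(0, 2), (2, 8), (8, 1), (1, 5), (5, 3), (3, 6), (6, 4), (4, 7)],
     [(0, 7), (7, 1), (1, 8), (8, 6), (2, 3), (4, 5)],
     [(0, 8), (8, 6), (1, 3), (3, 2), (2, 7), (4, 5)],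
     [(0, 7), (1, 3), (3, 2), (2, 8), (8, 6), (4, 5)],
     [(0, 8), (8, 6), (1, 4), (2, 7), (7, 5), (5, 3)],
     [(0, 4), (4, 1), (1, 7), (7, 5), (5, 3), (3, 2), (2, 8), (8, 6)],
     [(0, 4), (1, 8), (8, 6), (2, 7), (7, 5), (5, 3)],
     [(0, 1), (1, 4), (4, 5), (2, 3), (3, 6), (7, 8)],
     [(0, 8), (8, 7), (7, 6), (6, 3), (3, 2), (2, 5), (5, 4), (4, 1)],
     [(0, 8), (8, 7), (7, 3), (3, 2), (1, 5), (5, 4)],
     [(0, 8), (8, 7), (7, 5), (5, 3), (3, 2), (2, 6), (6, 1), (1, 4)],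
     [(0, 4), (1, 6), (2, 8), (8, 7), (7, 5), (5, 3)],
     [(0, 4), (4, 1), (1, 8), (8, 7), (7, 5), (5, 3), (3, 2), (2, 6)],
     [(0, 8), (8, 7), (7, 5), (5, 3), (3, 1), (1, 6), (6, 2), (2, 4)],
     [(0, 6), (6, 2), (2, 8), (8, 7), (7, 5), (5, 3), (3, 1), (1, 4)],
     [(0, 6), (1, 8), (8, 7), (7, 5), (5, 3), (2, 4)],
     [(0, 4), (4, 8), (8, 2), (2, 1), (1, 5), (3, 7)],
     [(1, 6), (6, 5), (2, 8), (4, 7)],
     [(0, 6), (6, 5), (5, 1), (1, 8), (8, 2), (4, 7)],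
     [(0, 3), (3, 7), (7, 8), (8, 2), (4, 5), (5, 6)],
     [(0, 1), (2, 3), (3, 7), (7, 8), (4, 5), (5, 6)],
     [(2, 3), (3, 7), (7, 5), (5, 6), (6, 4), (4, 8)],
     [(0, 6), (6, 3), (1, 4), (2, 7), (7, 8), (8, 5)],
     [(0, 4), (4, 1), (1, 7), (7, 8), (8, 5), (5, 2), (2, 6), (6, 3)],
     [(0, 6), (6, 3), (3, 4), (4, 1), (1, 7), (7, 8), (8, 5), (5, 2)],
     [(0, 6), (6, 1), (1, 3), (3, 5), (5, 2), (7, 8)],
     [(0, 3), (3, 5), (5, 1), (1, 6), (6, 2), (7, 8)]]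

/-- a chunk of the certificate -/
def reps18 : List Word :=
  [[(0, 8), (8, 7), (7, 3), (3, 2), (2, 4), (5, 6)],
     [(0, 8), (8, 7), (7, 5), (5, 6), (6, 2), (2, 1), (1, 3), (3, 4)],
     [(0, 8), (8, 7), (7, 5), (5, 6), (1, 3), (2, 4)],
     [(0, 8), (8, 7), (7, 5), (5, 2), (2, 4), (1, 3)],
     [(0, 3), (3, 5), (5, 2), (2, 1), (1, 6), (7, 8)],
     [(0, 5), (5, 2), (2, 1), (1, 3), (3, 6), (7, 8)],
     [(0, 3), (3, 6), (2, 5), (7, 8)],
     [(0, 1), (3, 5), (5, 4), (6, 7)],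
     [(3, 5), (5, 6)],
     [(0, 7), (7, 1), (1, 6), (6, 2), (2, 4), (4, 5)],
     [(0, 1), (1, 4), (4, 3), (3, 5), (5, 6), (7, 8)],
     [(0, 5), (1, 2), (3, 4), (7, 8)],
     [(0, 5), (3, 4), (6, 8), (8, 7)],
     [(0, 4), (1, 6), (6, 7), (7, 3), (3, 2), (2, 5)],
     [(0, 6), (6, 7), (7, 3), (3, 2), (2, 4), (1, 5)],
     [(0, 5), (5, 1), (1, 4), (2, 6), (6, 7), (7, 3)],
     [(0, 5), (5, 2), (2, 1), (3, 6), (4, 7), (7, 8)],
     [(0, 5), (5, 2), (1, 6), (6, 3), (4, 7), (7, 8)],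
     [(0, 6), (6, 3), (3, 1), (2, 5), (4, 7), (7, 8)],
     [(0, 7), (7, 8), (8, 5), (1, 3), (3, 6), (6, 2)],
     [(0, 1), (1, 7), (2, 3), (3, 6), (4, 8), (8, 5)],
     [(0, 7), (1, 3), (3, 6), (6, 2), (4, 8), (8, 5)],
     [(0, 1), (1, 3), (3, 6), (6, 5), (5, 2), (2, 4), (4, 7), (7, 8)],
     [(0, 3), (3, 1), (1, 4), (4, 2), (2, 6), (6, 5), (5, 7), (7, 8)],
     [(0, 1), (1, 4), (4, 2), (2, 3), (3, 6), (6, 5), (5, 7), (7, 8)],
     [(0, 2), (2, 6), (6, 4), (4, 7), (7, 5), (5, 3), (3, 1), (1, 8)],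
     [(0, 8), (1, 6), (6, 4), (4, 7), (7, 5), (5, 3)],
     [(0, 3), (3, 4), (4, 1), (1, 5), (5, 2), (2, 7), (7, 6), (6, 8)],
     [(0, 8), (8, 3), (3, 6), (6, 1), (1, 4), (4, 7), (7, 2), (2, 5)],
     [(0, 8), (8, 3), (3, 6), (6, 2), (2, 5), (5, 1), (1, 4), (4, 7)],
     [(2, 7), (7, 6), (6, 5), (5, 4), (4, 8), (8, 3)],
     [(0, 2), (2, 4), (4, 8), (8, 7), (7, 1), (1, 3)]]

/-- a chunk of the certificate -/
def reps19 : List Word :=
  [[(0, 8), (8, 7), (7, 4), (1, 6), (6, 3), (2, 5)],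
     [(0, 3), (1, 4), (4, 8), (8, 7)],
     [(0, 6), (6, 2), (2, 1), (1, 4), (4, 8), (8, 7), (7, 5), (5, 3)],
     [(0, 6), (6, 8), (8, 7), (7, 5), (5, 2), (2, 1), (1, 4), (4, 3)],
     [(0, 8), (8, 7), (1, 5), (5, 6), (6, 4), (2, 3)],
     [(0, 2), (2, 1), (1, 4), (4, 3), (3, 7), (7, 5)],
     [(0, 4), (4, 3), (3, 7), (7, 5)],
     [(0, 6), (6, 1), (1, 3), (2, 5), (5, 7), (7, 4)],
     [(0, 7), (7, 2), (2, 4), (4, 6)],
     [(0, 2), (2, 5), (5, 1), (3, 6), (6, 7), (7, 4)],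
     [(0, 1), (1, 4), (4, 6), (2, 7)],
     [(1, 2), (2, 3), (4, 7), (6, 8)],
     [(0, 2), (2, 3), (4, 7), (6, 8)],
     [(1, 3), (3, 2), (5, 7), (6, 8)],
     [(0, 1), (1, 2), (2, 4), (4, 3), (3, 5), (5, 6)],
     [(0, 1), (1, 4), (4, 3), (3, 2), (2, 5), (5, 6)],
     [(0, 7), (7, 1), (1, 6), (6, 2), (2, 3), (4, 5)],
     [(0, 8), (8, 7), (7, 5), (5, 6), (6, 2), (2, 4), (4, 1), (1, 3)],
     [(0, 8), (8, 7), (7, 6), (6, 5), (5, 2), (2, 4), (4, 1), (1, 3)],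
     [(0, 3), (1, 8), (8, 7), (7, 5), (5, 6), (2, 4)],
     [(1, 3), (3, 5), (5, 6), (2, 4)],
     [(0, 5), (5, 1), (1, 4), (4, 2)],
     [(0, 5), (5, 1), (2, 3), (3, 4)],
     [(0, 1), (1, 5), (5, 6), (6, 4), (2, 7), (7, 8)],
     [(0, 1), (1, 5), (2, 3), (3, 7), (7, 4), (4, 8)],
     [(0, 1), (1, 7), (7, 4), (4, 8), (8, 2), (2, 5)],
     [(0, 1), (1, 8), (8, 4), (4, 7), (7, 2), (2, 3), (3, 6), (6, 5)],
     [(0, 1), (1, 8), (8, 4), (4, 7), (2, 3), (3, 6)],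
     [(1, 7), (3, 5), (5, 6), (4, 8)],
     [(0, 1), (1, 8), (8, 2), (2, 5), (3, 6), (4, 7)],
     [(0, 1), (1, 8), (8, 2), (2, 5), (5, 3), (3, 6), (6, 4), (4, 7)],
     [(0, 8), (8, 2), (2, 1), (1, 5), (5, 3), (3, 6), (6, 4), (4, 7)]]

/-- a chunk of the certificate -/
def reps20 : List Word :=
  [[(0, 2), (2, 5), (1, 8), (8, 3), (3, 6), (4, 7)],
     [(0, 8), (8, 3), (3, 6), (6, 1), (1, 5), (4, 7)],
     [(0, 1), (1, 4), (4, 8), (8, 3), (2, 7), (5, 6)],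
     [(0, 6), (6, 1), (1, 8), (8, 7), (2, 3), (4, 5)],
     [(0, 8), (8, 7), (1, 3), (3, 2), (2, 6), (4, 5)],
     [(0, 6), (1, 3), (3, 2), (2, 8), (8, 7), (4, 5)],
     [(1, 7), (7, 4), (2, 5), (5, 8)],
     [(0, 6), (1, 8), (8, 2), (3, 4), (4, 7), (7, 5)],
     [(0, 1), (1, 8), (8, 2), (2, 4), (4, 7), (7, 5), (5, 3), (3, 6)],
     [(0, 1), (2, 7), (7, 8), (3, 5)],
     [(0, 1), (2, 7), (7, 3), (3, 5), (5, 4), (4, 8)],
     [(0, 1), (2, 7), (7, 3), (3, 5), (5, 6), (6, 8)],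
     [(0, 6), (6, 8), (8, 7), (7, 1), (1, 2), (2, 4), (4, 5), (5, 3)],
     [(0, 4), (4, 1), (1, 6), (6, 5), (5, 8), (8, 7), (7, 3), (3, 2)],
     [(0, 5), (5, 6), (6, 4), (4, 2), (2, 3), (3, 1), (1, 8), (8, 7)],
     [(0, 3), (1, 6), (6, 5), (5, 4), (2, 7), (7, 8)],
     [(1, 3), (3, 7), (7, 8), (8, 2), (2, 6), (6, 5)],
     [(0, 5), (5, 3), (3, 4), (4, 7), (1, 8), (8, 2)],
     [(0, 6), (6, 5), (5, 8), (8, 7), (7, 3), (3, 2), (2, 1), (1, 4)],
     [(0, 4), (2, 6), (6, 5), (5, 8), (8, 7), (7, 3)],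
     [(0, 8), (8, 7), (7, 1), (2, 3), (3, 5), (5, 4)],
     [(2, 3), (3, 6), (6, 4), (5, 7)],
     [(0, 1), (1, 3), (3, 6), (6, 2)],
     [(0, 3), (3, 6), (6, 2), (2, 1)],
     [(0, 6), (6, 2), (2, 4), (4, 1), (1, 8), (8, 7), (7, 5), (5, 3)],
     [(0, 8), (8, 7), (7, 5), (5, 3), (1, 4), (2, 6)],
     [(0, 3), (3, 2), (2, 1), (1, 5), (4, 6), (7, 8)],
     [(0, 1), (1, 4), (4, 2), (2, 6), (6, 7), (7, 5)],
     [(0, 6), (6, 5), (1, 4), (4, 2)],
     [(0, 1), (1, 4), (2, 6), (5, 7)],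
     [(0, 8), (2, 3), (3, 6), (6, 5), (5, 4), (4, 7)],
     [(0, 1), (1, 3), (3, 6), (6, 5), (5, 4), (4, 7), (7, 2), (2, 8)]]

/-- a chunk of the certificate -/
def reps21 : List Word :=
  [[(0, 8), (2, 6), (6, 7), (4, 5)],
     [(2, 3), (3, 5), (5, 4), (6, 7)],
     [(0, 1), (1, 3), (2, 5), (6, 7)],
     [(0, 3), (3, 1), (2, 5), (6, 7)],
     [(1, 8), (2, 3), (3, 6), (6, 5), (5, 4), (4, 7)],
     [(0, 8), (8, 1), (1, 3), (3, 6), (6, 5), (5, 4), (4, 7), (7, 2)],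
     [(1, 8), (2, 6), (6, 7), (4, 5)],
     [(1, 3), (3, 7), (7, 8), (4, 6)],
     [(0, 2), (1, 7), (7, 4), (4, 8)],
     [(1, 2), (2, 3), (3, 7), (7, 8), (4, 5), (5, 6)],
     [(1, 3), (3, 6), (6, 7), (7, 5), (5, 2), (2, 4)],
     [(0, 3), (3, 6), (6, 7), (7, 5), (5, 2), (1, 4)],
     [(1, 6), (6, 2), (2, 4), (5, 7)],
     [(1, 4), (4, 3), (3, 7), (7, 5)],
     [(0, 4), (4, 3), (3, 7), (7, 5), (5, 1), (1, 2)],
     [(1, 2), (2, 4), (4, 3), (3, 7), (7, 6), (6, 5)],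
     [(0, 1), (1, 3), (3, 7), (7, 2), (2, 6), (6, 5), (5, 4), (4, 8)],
     [(0, 1), (1, 7), (7, 2), (2, 3), (3, 6), (6, 4), (4, 5), (5, 8)],
     [(0, 3), (3, 1), (1, 7), (7, 5), (5, 2), (2, 6), (6, 4), (4, 8)],
     [(0, 7), (1, 6), (2, 3), (4, 5)],
     [(0, 6), (6, 1), (1, 3), (3, 2), (2, 7), (4, 5)],
     [(0, 7), (7, 1), (1, 3), (3, 2), (2, 6), (4, 5)],
     [(0, 3), (3, 7), (7, 6), (6, 8), (1, 2), (2, 5)],
     [(0, 1), (1, 8), (2, 4), (4, 7), (7, 5), (3, 6)],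
     [(0, 2), (2, 7), (7, 8), (1, 5), (5, 6), (6, 4)],
     [(0, 8), (1, 2), (2, 6), (6, 3), (3, 5), (4, 7)],
     [(0, 8), (1, 2), (2, 5), (5, 3), (3, 6), (4, 7)],
     [(0, 8), (1, 6), (6, 4), (2, 5), (5, 7), (7, 3)],
     [(0, 2), (2, 7), (7, 8), (3, 5)],
     [(0, 1), (1, 5), (5, 3), (3, 2), (2, 7), (7, 4), (4, 6), (6, 8)],
     [(0, 2), (2, 7), (7, 8), (3, 5), (5, 6), (6, 4)],
     [(0, 1), (2, 6), (6, 3), (3, 4)]]

/-- a chunk of the certificate -/
def reps22 : List Word :=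
  [[(0, 1), (2, 6), (3, 4), (4, 5)],
     [(0, 3), (3, 5), (5, 1), (1, 7)],
     [(0, 8), (1, 5), (5, 7), (2, 6)],
     [(0, 1), (1, 2), (2, 4), (4, 3), (3, 7), (7, 6), (6, 5), (5, 8)],
     [(0, 2), (2, 1), (1, 4), (4, 5), (5, 6), (6, 3), (3, 7), (7, 8)],
     [(0, 2), (2, 6), (6, 7), (7, 5), (5, 1), (1, 4)],
     [(0, 6), (6, 7), (7, 5), (1, 4)],
     [(0, 2), (2, 6), (1, 4), (5, 7)],
     [(0, 4), (4, 8), (8, 1), (1, 5), (5, 2), (3, 7)],
     [(1, 7), (7, 2), (2, 5), (5, 8), (3, 4), (4, 6)],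
     [(1, 5), (5, 8), (2, 7), (7, 3), (3, 4), (4, 6)],
     [(0, 4), (4, 1), (1, 5), (5, 8), (8, 2), (3, 7)],
     [(1, 4), (4, 8), (8, 2), (2, 7), (3, 5), (5, 6)],
     [(0, 8), (8, 2), (2, 6), (1, 3), (4, 7), (7, 5)],
     [(0, 8), (8, 2), (2, 5), (1, 3), (3, 6), (4, 7)],
     [(0, 3), (3, 6), (6, 1), (1, 5), (2, 8), (4, 7)],
     [(0, 8), (8, 2), (2, 3), (3, 6), (6, 4), (4, 7), (7, 1), (1, 5)],
     [(0, 8), (1, 7), (2, 4), (4, 6)],
     [(0, 7), (7, 1), (1, 4), (4, 6), (6, 2), (2, 8)],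
     [(0, 8), (1, 4), (4, 6), (2, 7)],
     [(1, 5), (5, 8), (2, 7), (4, 6)],
     [(0, 5), (5, 8), (8, 1), (1, 7), (7, 2), (4, 6)],
     [(1, 5), (5, 6), (6, 8), (2, 3), (3, 7), (7, 4)],
     [(0, 5), (5, 3), (3, 2), (2, 7), (7, 4), (4, 6), (6, 8), (8, 1)],
     [(0, 4), (4, 2), (2, 3), (3, 8), (8, 1), (1, 6), (6, 5), (5, 7)],
     [(1, 2), (2, 7), (7, 3), (3, 5), (5, 6), (6, 8)],
     [(0, 5), (1, 4)],
     [(0, 1), (1, 2)],
     [(0, 1), (1, 2), (2, 3), (3, 4), (4, 5), (5, 6), (6, 7), (7, 8)],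
     [(1, 2), (2, 3)],
     [(0, 5), (1, 4), (4, 2), (2, 3)],
     [(0, 4), (4, 3), (3, 2), (2, 5), (5, 6), (6, 1)]]

/-- a chunk of the certificate -/
def reps23 : List Word :=
  [[(0, 2), (2, 1), (1, 3), (3, 4), (4, 5), (5, 6), (6, 7), (7, 8)],
     [(0, 2), (2, 6), (6, 7), (7, 8), (8, 1), (3, 5)],
     [(0, 2), (2, 6), (6, 8), (8, 1), (1, 3), (3, 7)],
     [(0, 1), (1, 3), (3, 2), (2, 4), (4, 5), (5, 6), (6, 7), (7, 8)],
     [(2, 6), (6, 7), (7, 8), (3, 5)],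
     [(0, 3), (3, 1), (1, 7), (7, 8), (8, 2), (2, 6), (6, 5), (5, 4)],
     [(0, 2), (2, 6), (6, 4), (1, 7), (7, 8), (8, 3)],
     [(0, 1), (1, 5), (5, 2), (2, 6), (6, 3), (3, 7), (7, 4), (4, 8)],
     [(0, 2), (2, 6), (6, 4), (4, 8), (8, 3), (3, 7), (7, 5), (5, 1)],
     [(0, 8), (8, 4), (4, 1), (1, 5), (5, 6), (6, 7), (7, 2), (2, 3)],
     [(0, 1), (1, 3), (3, 6), (2, 7), (7, 8), (8, 4)],
     [(0, 1), (1, 8), (2, 3), (3, 4)],
     [(0, 5), (1, 8), (8, 3), (4, 7)],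
     [(0, 8), (8, 1), (1, 5), (4, 7)],
     [(0, 8), (8, 4), (4, 5), (5, 6), (6, 3), (3, 2), (2, 7), (7, 1)],
     [(0, 6), (6, 5), (5, 3), (3, 1), (1, 7), (7, 8), (8, 4), (4, 2)],
     [(0, 8), (8, 4), (4, 5), (5, 6), (6, 3), (1, 7)],
     [(1, 2), (2, 6), (3, 7), (7, 8), (8, 4), (4, 5)],
     [(0, 5), (5, 2), (2, 7), (7, 8), (8, 4), (4, 1), (1, 6), (6, 3)],
     [(1, 6), (6, 8), (2, 5), (5, 3), (3, 7), (7, 4)],
     [(1, 7), (7, 8), (8, 3), (3, 2), (2, 5), (5, 4)],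
     [(0, 7), (7, 8), (8, 4), (4, 2), (1, 5), (5, 3)],
     [(0, 2), (2, 7), (7, 1), (1, 8), (8, 4), (4, 5), (5, 6), (6, 3)],
     [(0, 4), (4, 6), (6, 2), (3, 7), (7, 8), (8, 5)],
     [(0, 5), (5, 3), (1, 6), (2, 7), (7, 8), (8, 4)],
     [(1, 8), (8, 5), (5, 6), (6, 7), (7, 2), (2, 3)],
     [(0, 6), (6, 1), (3, 7), (7, 8), (8, 4), (4, 5)],
     [(0, 3), (3, 6), (1, 7), (7, 8), (8, 4), (4, 2)],
     [(0, 5), (5, 2), (2, 8), (8, 4), (4, 7), (7, 1)],
     [(0, 8), (8, 4), (4, 3), (3, 5), (5, 6), (6, 7)],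
     [(0, 8), (8, 5), (5, 6), (6, 7), (7, 2), (2, 3)],
     [(0, 4), (1, 6), (6, 3), (2, 7), (7, 8), (8, 5)]]

/-- a chunk of the certificate -/
def reps24 : List Word :=
  [[(2, 8), (8, 5), (5, 7), (7, 6), (6, 3), (3, 4)],
     [(0, 2), (1, 7), (3, 6), (5, 8)],
     [(0, 5), (5, 6), (6, 7), (2, 8), (8, 4), (4, 3)],
     [(0, 7), (7, 8), (8, 6), (6, 2), (2, 3), (3, 5), (5, 1), (1, 4)],
     [(0, 7), (7, 8), (8, 6), (6, 1), (1, 5), (2, 4)],
     [(0, 7), (7, 8), (8, 5), (5, 1), (1, 3), (3, 6)],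
     [(0, 6), (6, 3), (1, 7), (7, 8), (8, 4), (2, 5)],
     [(0, 2), (2, 6), (6, 7), (1, 8), (8, 4), (4, 3)],
     [(0, 1), (2, 3), (3, 8), (8, 5), (5, 6), (6, 7)],
     [(1, 8), (8, 5), (5, 6), (6, 7)],
     [(0, 8), (8, 3), (3, 6), (6, 5), (5, 4), (4, 7), (7, 1), (1, 2)],
     [(2, 7), (7, 8), (8, 3), (3, 5)],
     [(0, 5), (5, 1), (1, 3), (2, 7), (7, 8), (8, 4)],
     [(0, 5), (5, 3), (3, 1), (1, 7), (7, 8), (8, 4), (4, 6), (6, 2)],
     [(0, 5), (1, 4), (2, 8), (8, 6)],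
     [(0, 3), (2, 7), (4, 8), (5, 6)],
     [(0, 1), (1, 2), (3, 4), (4, 5), (6, 7), (7, 8)],
     [(0, 8), (8, 3), (3, 4), (4, 7), (7, 2), (2, 5)],
     [(0, 8), (8, 5), (5, 7), (7, 6), (6, 3), (3, 4), (4, 2), (2, 1)],
     [(3, 4), (4, 5), (6, 7), (7, 8)],
     [(0, 1), (1, 2), (3, 5), (5, 7), (7, 8), (8, 6)],
     [(0, 6), (6, 1), (1, 4), (2, 3), (3, 5), (7, 8)],
     [(0, 5), (5, 4), (4, 3), (1, 6), (2, 8), (8, 7)],
     [(0, 8), (8, 4), (4, 1), (1, 2), (3, 5), (6, 7)],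
     [(0, 7), (7, 8), (8, 6), (6, 1), (1, 4), (4, 2), (2, 3), (3, 5)],
     [(1, 2), (2, 5), (5, 3), (3, 7), (7, 8), (8, 6)],
     [(0, 3), (3, 4), (1, 2), (2, 5), (6, 8), (8, 7)],
     [(0, 8), (8, 4), (4, 7), (1, 2), (2, 6), (3, 5)],
     [(0, 7), (7, 5), (5, 1), (1, 8), (8, 6), (2, 4)],
     [(0, 5), (5, 8), (8, 4), (4, 6), (6, 1), (2, 7)],
     [(0, 5), (5, 8), (2, 7), (4, 6)],
     [(0, 8), (8, 3), (3, 2), (2, 6), (4, 7), (7, 5)]]

/-- a chunk of the certificate -/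
def reps25 : List Word :=
  [[(0, 4), (4, 6), (6, 3), (3, 1), (1, 7), (7, 8), (8, 5), (5, 2)],
     [(0, 2), (2, 1), (3, 4), (4, 5), (6, 7), (7, 8)],
     [(0, 5), (5, 3), (3, 7), (7, 8), (8, 6), (6, 1)],
     [(0, 8), (8, 7), (7, 1), (1, 6), (6, 2), (3, 5)],
     [(0, 8), (8, 7), (7, 3), (3, 1), (1, 6), (6, 4)],
     [(0, 6), (1, 8), (8, 4), (4, 3), (3, 5), (5, 7)],
     [(0, 4), (4, 1), (1, 8), (8, 6), (6, 2), (2, 5)],
     [(0, 3), (3, 4), (1, 2), (2, 5), (5, 6), (7, 8)],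
     [(0, 6), (6, 3), (1, 5), (5, 2), (2, 4), (7, 8)],
     [(0, 2), (1, 6), (6, 4), (4, 8), (3, 7), (7, 5)],
     [(0, 2), (2, 6), (3, 7), (7, 5), (5, 4), (4, 8)],
     [(0, 1), (1, 8), (8, 5), (5, 6), (6, 7), (7, 2), (2, 3), (3, 4)],
     [(0, 6), (6, 3), (3, 1), (1, 7), (7, 8), (8, 5), (5, 2), (2, 4)],
     [(0, 5), (5, 3), (3, 4), (4, 7), (1, 2), (2, 8)],
     [(0, 6), (1, 4), (4, 2), (2, 3), (3, 5), (7, 8)],
     [(0, 8), (8, 6), (1, 4), (4, 2), (2, 7), (7, 5)],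
     [(0, 6), (1, 3), (3, 4), (4, 2), (2, 5), (7, 8)],
     [(0, 5), (5, 3), (1, 8), (8, 7), (7, 6), (2, 4)],
     [(0, 8), (8, 7), (7, 4), (4, 1), (1, 6), (6, 2), (2, 5), (5, 3)],
     [(0, 4), (4, 3), (5, 6), (7, 8)],
     [(0, 8), (8, 7), (7, 5), (5, 3), (1, 6), (6, 2)],
     [(0, 2), (2, 5), (5, 1), (3, 4), (6, 8), (8, 7)],
     [(0, 6), (6, 3), (3, 1), (1, 2), (2, 8), (8, 7), (7, 5), (5, 4)],
     [(0, 6), (1, 5), (2, 3), (3, 4)],
     [(0, 7), (7, 1), (2, 4), (4, 6)],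
     [(0, 5), (5, 1), (1, 3), (3, 8), (8, 7), (2, 6)],
     [(0, 1), (3, 6)],
     [(0, 8), (8, 4), (4, 1), (1, 5), (5, 6), (6, 7)],
     [(0, 6), (6, 4), (1, 3), (7, 8)],
     [(0, 2), (2, 1), (1, 8), (8, 3), (3, 6), (6, 4), (4, 7), (7, 5)],
     [(0, 7), (7, 6), (6, 5), (5, 8), (8, 1), (1, 2), (2, 4), (4, 3)],
     [(0, 3), (3, 6), (6, 5), (5, 2), (2, 1), (1, 8), (8, 7), (7, 4)]]

/-- a chunk of the certificate -/
def reps26 : List Word :=
  [[(0, 4), (4, 1), (1, 2), (2, 5)],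
     [(0, 4), (4, 6), (6, 2), (2, 7), (7, 3), (1, 5)],
     [(0, 4), (4, 2), (2, 5), (3, 6)],
     [(0, 5), (5, 2), (2, 4), (4, 3), (1, 6), (7, 8)],
     [(0, 8), (8, 7), (7, 5), (5, 4), (1, 6), (6, 3)],
     [(0, 6), (6, 1), (1, 5), (5, 2), (2, 3), (3, 4)],
     [(1, 6), (6, 4), (4, 8), (8, 2), (3, 7), (7, 5)],
     [(1, 2), (3, 6)],
     [(0, 3), (3, 1), (1, 6), (6, 8), (8, 2), (2, 7)],
     [(0, 3), (3, 6), (6, 2), (2, 5), (5, 4), (4, 1), (1, 8), (8, 7)],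
     [(0, 5), (5, 1), (1, 2), (3, 4), (6, 8), (8, 7)],
     [(0, 1), (3, 4)],
     [(0, 5), (1, 2), (2, 3), (3, 4)],
     [(0, 2), (2, 6), (3, 4), (4, 5)],
     [(0, 2), (2, 3), (3, 5), (5, 6)],
     [(0, 1), (1, 2), (2, 3), (3, 6), (6, 4), (5, 7)],
     [(1, 2), (3, 7), (7, 5), (5, 6)],
     [(0, 1), (1, 2), (2, 4), (4, 3)],
     [(0, 1), (1, 2), (2, 3), (3, 5), (5, 4), (6, 7)],
     [(0, 2), (3, 6)],
     [(0, 5), (5, 2), (1, 4), (3, 6)],
     [(0, 2), (1, 4), (4, 3), (3, 6), (6, 7), (7, 5)],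
     [(0, 2), (2, 3), (3, 6), (6, 1)],
     [(0, 2), (2, 3), (3, 7), (7, 8), (4, 5), (5, 6)],
     [(0, 1), (1, 7), (7, 6), (6, 8), (2, 4), (3, 5)],
     [(0, 2), (2, 3), (3, 6), (6, 1), (4, 7), (7, 5)],
     [(0, 5), (5, 1), (1, 4), (4, 7), (7, 3), (2, 6)],
     [(0, 4), (4, 6), (6, 5), (1, 2), (2, 3), (3, 7)],
     [(1, 2), (2, 3), (3, 5), (5, 4)],
     [(0, 4), (4, 1), (2, 5), (3, 6)],
     [(0, 1), (1, 4), (4, 3), (3, 6), (6, 7), (7, 5)],
     [(0, 1), (1, 2), (2, 3), (3, 6), (4, 7), (7, 5)]]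

/-- a chunk of the certificate -/
def reps27 : List Word :=
  [[(0, 4), (4, 2), (2, 5), (1, 3)],
     [(0, 2), (2, 5), (5, 8), (1, 7), (7, 4), (3, 6)],
     [(0, 7), (7, 4), (4, 1), (1, 5), (5, 8), (3, 6)],
     [(0, 1), (1, 3), (3, 7), (7, 6), (6, 8), (2, 5)],
     [(0, 2), (2, 4), (4, 3), (3, 5), (5, 6), (6, 1)],
     [(0, 5), (1, 4), (4, 2), (3, 6)],
     [(0, 6), (6, 5), (5, 8), (2, 7), (7, 4), (4, 3)],
     [(1, 2), (3, 4)],
     [(0, 8), (2, 4), (4, 7), (7, 6), (6, 3), (3, 5)],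
     [(0, 1), (1, 2), (2, 5), (3, 6), (6, 7), (7, 4)],
     [(0, 1), (1, 2), (2, 3), (3, 5), (5, 7), (7, 6)],
     [(0, 7), (1, 3), (2, 6), (4, 5)],
     [(1, 2), (2, 4), (4, 3), (3, 6), (6, 7), (7, 5)],
     [(0, 3), (3, 5), (2, 4), (4, 6)],
     [(0, 3), (3, 7), (7, 8), (1, 2), (4, 5), (5, 6)],
     [(0, 3), (3, 7), (7, 6), (6, 8), (1, 5), (5, 2)],
     [(0, 5), (5, 3), (3, 7), (7, 4), (4, 2), (2, 6), (6, 8), (8, 1)],
     [(0, 1), (1, 4), (4, 2), (2, 5), (5, 3), (3, 7), (7, 6), (6, 8)],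
     [(1, 2), (2, 6), (6, 4), (4, 8), (3, 7), (7, 5)],
     [(0, 8), (8, 1), (1, 5), (5, 4), (2, 6), (6, 7)],
     [(1, 6), (6, 4), (4, 8), (2, 5), (5, 7), (7, 3)],
     [(0, 2), (2, 3), (3, 5), (5, 7), (7, 6), (6, 1)],
     [(0, 5), (5, 2), (2, 1), (1, 6), (6, 3), (3, 7), (7, 4), (4, 8)],
     [(0, 2), (2, 6), (6, 1), (1, 3), (3, 7), (7, 8)],
     [(1, 6), (6, 4), (4, 8), (2, 7)],
     [(0, 8), (8, 1), (1, 5), (5, 7), (7, 2), (2, 6)],
     [(0, 2), (2, 8), (8, 3), (3, 1), (1, 5), (4, 7)],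
     [(0, 8), (8, 3), (3, 2), (2, 6), (6, 4), (4, 7), (7, 5), (5, 1)],
     [(0, 4), (4, 3), (3, 8), (8, 5), (5, 6), (6, 7)],
     [(0, 1), (1, 7), (7, 8), (8, 3), (2, 5), (5, 4)],
     [(0, 6), (6, 5), (5, 2), (2, 4), (1, 8), (8, 3)],
     [(0, 1), (1, 3), (3, 7), (7, 8), (4, 5), (5, 6)]]

/-- a chunk of the certificate -/
def reps28 : List Word :=
  [[(0, 8), (8, 4), (4, 3), (3, 2), (2, 1), (1, 5), (5, 6), (6, 7)],
     [(0, 4), (4, 3), (3, 2), (2, 1), (1, 8), (8, 5), (5, 6), (6, 7)],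
     [(1, 5), (5, 3), (3, 7), (7, 4), (4, 8), (2, 6)],
     [(0, 2), (2, 6), (6, 5), (5, 4), (4, 8), (8, 3), (3, 7), (7, 1)],
     [(0, 8), (8, 5), (1, 6), (6, 7)],
     [(0, 5), (5, 6), (6, 7), (1, 2), (2, 8), (8, 4)],
     [(0, 5), (5, 3), (3, 1), (2, 7), (7, 8), (8, 4)],
     [(1, 8), (8, 4), (4, 7), (2, 5)],
     [(0, 8), (8, 5), (5, 6), (6, 7), (2, 4), (4, 3)],
     [(0, 3), (1, 7), (7, 5), (5, 8), (2, 6), (6, 4)],
     [(0, 8), (8, 3), (3, 4), (4, 7), (7, 5), (5, 1), (1, 2), (2, 6)],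
     [(0, 1), (1, 5), (5, 3), (3, 7), (7, 4), (4, 2), (2, 6), (6, 8)],
     [(0, 7), (7, 8), (8, 3), (3, 2), (1, 5), (4, 6)],
     [(0, 8), (8, 6), (6, 5), (5, 2), (2, 4), (1, 3)],
     [(1, 2), (2, 6), (3, 4), (4, 5)],
     [(0, 2), (1, 7), (3, 6), (4, 8)],
     [(1, 6), (6, 4), (4, 3), (3, 2), (2, 7), (5, 8)],
     [(0, 3), (3, 1), (1, 7), (7, 5), (5, 8), (8, 2), (2, 6), (6, 4)],
     [(0, 6), (6, 7), (1, 3), (3, 5)],
     [(0, 3), (3, 5), (1, 6), (6, 7)],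
     [(1, 3), (3, 5), (5, 4), (6, 7)],
     [(0, 1), (1, 6), (6, 5), (5, 4), (4, 3), (3, 2), (2, 7), (7, 8)],
     [(0, 1), (2, 6), (6, 4), (4, 8), (3, 7), (7, 5)],
     [(1, 2), (2, 7), (7, 4), (4, 5)],
     [(0, 8), (8, 6), (6, 2), (2, 4), (4, 1), (1, 5)],
     [(1, 2), (2, 6), (6, 7), (7, 5)],
     [(0, 8), (8, 2), (2, 7), (7, 6), (6, 1), (1, 3), (3, 4), (4, 5)],
     [(0, 4), (4, 6), (6, 5), (5, 1), (1, 3), (3, 7)],
     [(0, 2), (2, 3), (3, 7), (1, 4), (4, 6), (6, 5)],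
     [(1, 4), (4, 6), (6, 2), (2, 7)],
     [(1, 5), (5, 7), (7, 4), (4, 8), (2, 6), (6, 3)],
     [(1, 8), (2, 4), (4, 7), (7, 6), (6, 3), (3, 5)]]

/-- a chunk of the certificate -/
def reps29 : List Word :=
  [[(0, 3), (3, 7), (7, 4), (4, 5), (5, 1), (1, 2), (2, 6), (6, 8)]]

/-- a chunk of the certificate -/
def steps0 : List (Vec × How) :=
  [([(1, 1), (2, 1), (3, 1)], .kill 2 [([], [(3, 143), (1, 0), (2, 143)]), ([], [(2, 8), (3, 104), (1, 83)])]),
     ([(4, 1), (5, 1), (6, 1)], .tr 0 1 [(4, 124), (5, 20), (6, 188)]),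
     ([(7, 1), (8, 1), (9, 1)], .tr 1 0 [(8, 29), (7, 0), (9, 7)]),
     ([(10, 1), (11, 1), (12, 1)], .tr 1 1 [(10, 183), (11, 0), (12, 106)]),
     ([(13, 1), (14, 1), (15, 1)], .tr 2 0 [(15, 31), (13, 31), (14, 7)]),
     ([(16, 1), (17, 1), (18, 1)], .tr 2 1 [(16, 0), (17, 0), (18, 0)]),
     ([(19, 1), (20, 1), (21, 1)], .tr 3 0 [(19, 191), (20, 59), (21, 100)]),
     ([(22, 1), (23, 1), (24, 1)], .tr 3 1 [(22, 179), (23, 177), (24, 44)]),
     ([(25, 1), (26, 1), (27, 1)], .tr 4 1 [(26, 0), (27, 0), (25, 1)]),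
     ([(28, 1), (29, 1), (30, 1)], .tr 5 0 [(28, 20), (29, 7), (30, 184)]),
     ([(31, 1), (32, 1), (33, 1)], .tr 5 1 [(32, 33), (33, 8), (31, 108)]),
     ([(34, 1), (35, 1), (36, 1)], .tr 6 0 [(35, 5), (34, 155), (36, 99)]),
     ([(37, 1), (38, 1), (39, 1)], .tr 6 1 [(38, 91), (39, 68), (37, 7)]),
     ([(40, 1), (41, 1), (42, 1)], .tr 7 0 [(42, 162), (41, 0), (40, 85)]),
     ([(43, 1), (44, 1), (45, 1)], .tr 7 1 [(43, 0), (45, 42), (44, 28)]),
     ([(46, 1), (47, 1), (48, 1)], .tr 8 0 [(47, 8), (48, 2), (46, 1)]),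
     ([(49, 1), (50, 1), (51, 1)], .tr 8 1 [(49, 53), (51, 109), (50, 110)]),
     ([(52, 1), (53, 1), (54, 1)], .tr 9 0 [(53, 64), (52, 0), (54, 133)]),
     ([(55, 1), (56, 1), (57, 1)], .tr 10 0 [(55, 0), (56, 18), (57, 47)]),
     ([(58, 1), (59, 1), (60, 1)], .tr 10 1 [(60, 185), (58, 72), (59, 152)]),
     ([(61, 1), (62, 1), (63, 1)], .tr 11 1 [(61, 23), (63, 163), (62, 62)]),
     ([(64, 1), (65, 1), (66, 1)], .tr 12 0 [(65, 66), (64, 0), (66, 112)]),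
     ([(67, 1), (68, 1), (69, 1)], .tr 12 1 [(69, 97), (67, 37), (68, 97)]),
     ([(70, 1), (71, 1), (72, 1)], .tr 13 0 [(71, 181), (70, 112), (72, 188)]),
     ([(73, 1), (74, 1), (75, 1)], .tr 13 1 [(73, 55), (74, 55), (75, 72)]),
     ([(76, 1), (77, 1), (78, 1)], .tr 14 0 [(78, 70), (77, 166), (76, 43)]),
     ([(79, 1), (80, 1), (81, 1)], .tr 14 1 [(80, 88), (79, 166), (81, 43)]),
     ([(82, 1), (83, 1), (84, 1)], .tr 15 0 [(82, 5), (84, 159), (83, 16)]),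
     ([(85, 1), (86, 1), (87, 1)], .tr 15 1 [(86, 118), (85, 79), (87, 127)]),
     ([(88, 1), (89, 1), (90, 1)], .tr 16 0 [(90, 177), (89, 108), (88, 0)]),
     ([(91, 1), (92, 1), (93, 1)], .tr 16 1 [(91, 77), (92, 62), (93, 140)]),
     ([(94, 1), (95, 1), (96, 1)], .tr 17 1 [(94, 0), (95, 66), (96, 59)])]

/-- a chunk of the certificate -/
def steps1 : List (Vec × How) :=
  [([(97, 1), (98, 1), (99, 1)], .tr 18 0 [(97, 145), (99, 13), (98, 37)]),
     ([(100, 1), (101, 1), (102, 1)], .tr 18 1 [(101, 79), (100, 97), (102, 116)]),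
     ([(103, 1), (104, 1), (105, 1)], .tr 19 0 [(105, 39), (104, 130), (103, 130)]),
     ([(106, 1), (107, 1), (108, 1)], .tr 19 1 [(108, 6), (107, 108), (106, 167)]),
     ([(109, 1), (110, 1), (111, 1)], .tr 20 0 [(111, 6), (110, 191), (109, 133)]),
     ([(112, 1), (113, 1), (114, 1)], .tr 20 1 [(113, 32), (112, 19), (114, 81)]),
     ([(115, 1), (116, 1), (117, 1)], .tr 21 0 [(116, 0), (115, 76), (117, 92)]),
     ([(118, 1), (119, 1), (120, 1)], .tr 21 1 [(119, 19), (118, 61), (120, 57)]),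
     ([(121, 1), (122, 1), (123, 1)], .tr 22 0 [(123, 89), (121, 83), (122, 65)]),
     ([(124, 1), (125, 1), (126, 1)], .tr 22 1 [(124, 187), (125, 40), (126, 17)]),
     ([(127, 1), (128, 1), (129, 1)], .tr 23 1 [(127, 133), (128, 88), (129, 37)]),
     ([(130, 1), (131, 1), (132, 1)], .tr 24 1 [(132, 44), (131, 134), (130, 15)]),
     ([(133, 1), (134, 1), (135, 1)], .tr 25 1 [(133, 0), (134, 0), (135, 25)]),
     ([(136, 1), (137, 1), (138, 1)], .tr 26 1 [(138, 124), (137, 149), (136, 160)]),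
     ([(139, 1), (140, 1), (141, 1)], .tr 27 1 [(139, 122), (140, 172), (141, 2)]),
     ([(142, 1), (143, 1), (144, 1)], .tr 28 0 [(142, 99), (143, 163), (144, 50)]),
     ([(145, 1), (146, 1), (147, 1)], .tr 28 1 [(146, 78), (145, 22), (147, 180)]),
     ([(148, 1), (149, 1), (150, 1)], .tr 29 0 [(149, 101), (148, 156), (150, 113)]),
     ([(151, 1), (152, 1), (153, 1)], .tr 29 1 [(151, 140), (153, 14), (152, 162)]),
     ([(154, 1), (155, 1), (156, 1)], .tr 30 0 [(155, 0), (156, 171), (154, 169)]),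
     ([(157, 1), (158, 1), (159, 1)], .tr 30 1 [(157, 98), (159, 105), (158, 144)]),
     ([(160, 1), (161, 1), (162, 1)], .tr 31 1 [(160, 178), (162, 170), (161, 52)]),
     ([(163, 1), (164, 1), (165, 1)], .tr 32 1 [(163, 91), (164, 103), (165, 133)]),
     ([(166, 1), (167, 1), (168, 1)], .tr 33 1 [(168, 53), (167, 121), (166, 22)]),
     ([(169, 1), (170, 1), (171, 1)], .tr 34 1 [(171, 53), (170, 108), (169, 112)]),
     ([(172, 1), (173, 1), (174, 1)], .tr 35 1 [(174, 47), (173, 57), (172, 93)]),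
     ([(175, 1), (176, 1), (177, 1)], .tr 36 1 [(177, 15), (176, 125), (175, 185)]),
     ([(178, 1), (179, 1), (180, 1)], .tr 37 1 [(180, 149), (178, 160), (179, 12)]),
     ([(181, 1), (182, 1), (183, 1)], .tr 38 1 [(183, 66), (181, 136), (182, 161)]),
     ([(184, 1), (185, 1), (186, 1)], .tr 39 1 [(186, 108), (184, 167), (185, 161)]),
     ([(187, 1), (188, 1), (189, 1)], .tr 40 1 [(189, 163), (187, 51), (188, 190)]),
     ([(190, 1), (191, 1), (192, 1)], .tr 41 1 [(192, 164), (190, 20), (191, 59)])]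

/-- a chunk of the certificate -/
def steps2 : List (Vec × How) :=
  [([(193, 1), (194, 1), (195, 1)], .tr 42 1 [(194, 0), (195, 1), (193, 165)]),
     ([(196, 1), (197, 1), (198, 1)], .tr 43 1 [(198, 10), (197, 66), (196, 75)]),
     ([(199, 1), (200, 1), (201, 1)], .tr 45 1 [(199, 14), (200, 32), (201, 91)]),
     ([(202, 1), (203, 1), (204, 1)], .tr 46 0 [(202, 159), (204, 62), (203, 93)]),
     ([(205, 1), (206, 1), (207, 1)], .tr 46 1 [(205, 48), (206, 150), (207, 83)]),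
     ([(208, 1), (209, 1), (210, 1)], .tr 47 0 [(209, 150), (210, 106), (208, 22)]),
     ([(211, 1), (212, 1), (213, 1)], .tr 47 1 [(212, 111), (213, 109), (211, 97)]),
     ([(214, 1), (215, 1), (216, 1)], .tr 48 1 [(216, 153), (214, 81), (215, 186)]),
     ([(217, 1), (218, 1), (219, 1)], .tr 49 1 [(218, 105), (219, 145), (217, 79)]),
     ([(220, 1), (221, 1), (222, 1)], .tr 50 1 [(221, 184), (220, 134), (222, 83)]),
     ([(223, 1), (224, 1), (225, 1)], .tr 51 1 [(224, 143), (225, 102), (223, 106)]),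
     ([(226, 1), (227, 1), (228, 1)], .tr 52 1 [(228, 108), (226, 180), (227, 75)]),
     ([(229, 1), (230, 1), (231, 1)], .tr 53 1 [(229, 128), (230, 106), (231, 156)]),
     ([(232, 1), (233, 1), (234, 1)], .tr 54 0 [(234, 0), (233, 31), (232, 191)]),
     ([(235, 1), (236, 1), (237, 1)], .tr 55 1 [(235, 149), (237, 41), (236, 160)]),
     ([(238, 1), (239, 1), (240, 1)], .tr 56 1 [(238, 109), (239, 126), (240, 130)]),
     ([(241, 1), (242, 1), (243, 1)], .tr 57 0 [(241, 0), (243, 21), (242, 107)]),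
     ([(244, 1), (245, 1), (246, 1)], .tr 57 1 [(244, 86), (246, 32), (245, 134)]),
     ([(247, 1), (248, 1), (249, 1)], .tr 58 1 [(248, 31), (249, 0), (247, 144)]),
     ([(250, 1), (251, 1), (252, 1)], .tr 59 1 [(252, 62), (251, 69), (250, 79)]),
     ([(253, 1), (254, 1), (255, 1)], .tr 60 1 [(253, 123), (254, 24), (255, 76)]),
     ([(256, 1), (257, 1), (258, 1)], .tr 61 0 [(258, 0), (257, 7), (256, 7)]),
     ([(259, 1), (260, 1), (261, 1)], .tr 61 1 [(261, 67), (260, 109), (259, 109)]),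
     ([(262, 1), (263, 1), (264, 1)], .tr 62 1 [(263, 14), (262, 81), (264, 131)]),
     ([(265, 1), (266, 1), (267, 1)], .tr 63 0 [(266, 85), (267, 34), (265, 25)]),
     ([(268, 1), (269, 1), (270, 1)], .tr 63 1 [(268, 71), (269, 154), (270, 65)]),
     ([(271, 1), (272, 1), (273, 1)], .tr 64 1 [(271, 0), (273, 170), (272, 91)]),
     ([(274, 1), (275, 1), (276, 1)], .tr 65 0 [(276, 0), (274, 145), (275, 7)]),
     ([(277, 1), (278, 1), (279, 1)], .tr 65 1 [(278, 0), (277, 163), (279, 91)]),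
     ([(280, 1), (281, 1), (282, 1)], .tr 66 0 [(281, 155), (282, 0), (280, 0)]),
     ([(283, 1), (284, 1), (285, 1)], .tr 67 0 [(284, 1), (283, 1), (285, 0)]),
     ([(286, 1), (287, 1), (288, 1)], .tr 68 1 [(287, 129), (286, 10), (288, 163)])]

/-- a chunk of the certificate -/
def steps3 : List (Vec × How) :=
  [([(289, 1), (290, 1), (291, 1)], .tr 69 1 [(291, 11), (290, 175), (289, 139)]),
     ([(292, 1), (293, 1), (294, 1)], .tr 70 1 [(293, 85), (292, 152), (294, 164)]),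
     ([(295, 1), (296, 1), (297, 1)], .tr 71 1 [(295, 112), (296, 190), (297, 23)]),
     ([(298, 1), (299, 1), (300, 1)], .tr 72 0 [(299, 0), (300, 1), (298, 0)]),
     ([(301, 1), (302, 1), (303, 1)], .tr 72 1 [(301, 61), (303, 105), (302, 61)]),
     ([(304, 1), (305, 1), (306, 1)], .tr 73 1 [(304, 131), (305, 20), (306, 41)]),
     ([(307, 1), (308, 1), (309, 1)], .tr 74 1 [(308, 183), (307, 162), (309, 144)]),
     ([(310, 1), (311, 1), (312, 1)], .tr 75 0 [(312, 0), (310, 172), (311, 152)]),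
     ([(313, 1), (314, 1), (315, 1)], .tr 75 1 [(315, 112), (314, 105), (313, 109)]),
     ([(316, 1), (317, 1), (318, 1)], .tr 76 1 [(316, 132), (317, 73), (318, 70)]),
     ([(319, 1), (320, 1), (321, 1)], .tr 77 1 [(321, 153), (319, 58), (320, 58)]),
     ([(322, 1), (323, 1), (324, 1)], .tr 78 0 [(322, 123), (323, 143), (324, 23)]),
     ([(325, 1), (326, 1), (327, 1)], .tr 78 1 [(326, 84), (325, 51), (327, 140)]),
     ([(328, 1), (329, 1), (330, 1)], .tr 79 0 [(328, 0), (329, 0), (330, 0)]),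
     ([(331, 1), (332, 1), (333, 1)], .tr 79 1 [(331, 71), (333, 181), (332, 156)]),
     ([(334, 1), (335, 1), (336, 1)], .tr 80 1 [(336, 145), (334, 14), (335, 8)]),
     ([(337, 1), (338, 1), (339, 1)], .tr 81 0 [(339, 76), (338, 172), (337, 71)]),
     ([(340, 1), (341, 1), (342, 1)], .tr 82 1 [(342, 130), (340, 165), (341, 144)]),
     ([(343, 1), (344, 1), (345, 1)], .tr 83 0 [(343, 143), (344, 161), (345, 162)]),
     ([(346, 1), (347, 1), (348, 1)], .tr 84 1 [(348, 42), (347, 110), (346, 77)]),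
     ([(349, 1), (350, 1), (351, 1)], .tr 85 1 [(351, 0), (350, 31), (349, 40)]),
     ([(352, 1), (353, 1), (354, 1)], .tr 86 0 [(354, 0), (353, 0), (352, 31)]),
     ([(355, 1), (356, 1), (357, 1)], .tr 86 1 [(357, 17), (356, 10), (355, 152)]),
     ([(358, 1), (359, 1), (360, 1)], .tr 87 1 [(358, 136), (360, 138), (359, 109)]),
     ([(361, 1), (362, 1), (363, 1)], .tr 88 0 [(363, 113), (362, 186), (361, 182)]),
     ([(364, 1), (365, 1), (366, 1)], .tr 88 1 [(365, 28), (364, 26), (366, 92)]),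
     ([(367, 1), (368, 1), (369, 1)], .tr 89 0 [(367, 127), (368, 0), (369, 187)]),
     ([(370, 1), (371, 1), (372, 1)], .tr 89 1 [(370, 0), (372, 115), (371, 9)]),
     ([(373, 1), (374, 1), (375, 1)], .tr 90 1 [(375, 2), (374, 2), (373, 9)]),
     ([(376, 1), (377, 1), (378, 1)], .tr 91 1 [(378, 109), (377, 116), (376, 179)]),
     ([(379, 1), (380, 1), (381, 1)], .tr 92 0 [(381, 96), (380, 137), (379, 0)]),
     ([(382, 1), (383, 1), (384, 1)], .tr 93 1 [(382, 142), (384, 45), (383, 144)])]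

/-- a chunk of the certificate -/
def steps4 : List (Vec × How) :=
  [([(385, 1), (386, 1), (387, 1)], .tr 95 1 [(387, 184), (386, 136), (385, 110)]),
     ([(388, 1), (389, 1), (390, 1)], .tr 96 0 [(390, 0), (388, 0), (389, 79)]),
     ([(391, 1), (392, 1), (393, 1)], .tr 96 1 [(392, 0), (391, 61), (393, 44)]),
     ([(394, 1), (395, 1), (396, 1)], .tr 97 0 [(396, 29), (394, 1), (395, 176)]),
     ([(397, 1), (398, 1), (399, 1)], .tr 97 1 [(399, 183), (398, 169), (397, 9)]),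
     ([(400, 1), (401, 1), (402, 1)], .tr 98 0 [(400, 0), (401, 71), (402, 166)]),
     ([(403, 1), (404, 1), (405, 1)], .tr 98 1 [(403, 55), (404, 73), (405, 27)]),
     ([(406, 1), (407, 1), (408, 1)], .tr 99 0 [(406, 0), (407, 0), (408, 126)]),
     ([(409, 1), (410, 1), (411, 1)], .tr 100 0 [(409, 0), (410, 0), (411, 176)]),
     ([(412, 1), (413, 1), (414, 1)], .tr 100 1 [(412, 0), (414, 30), (413, 7)]),
     ([(415, 1), (416, 1), (417, 1)], .tr 101 0 [(416, 18), (415, 182), (417, 184)]),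
     ([(418, 1), (419, 1), (420, 1)], .tr 101 1 [(419, 89), (420, 55), (418, 111)]),
     ([(421, 1), (422, 1), (423, 1)], .tr 102 0 [(421, 1), (422, 7), (423, 158)]),
     ([(424, 1), (425, 1), (426, 1)], .tr 102 1 [(425, 1), (426, 0), (424, 31)]),
     ([(427, 1), (428, 1), (429, 1)], .tr 104 0 [(428, 96), (427, 0), (429, 31)]),
     ([(430, 1), (431, 1), (432, 1)], .tr 105 0 [(432, 181), (431, 78), (430, 155)]),
     ([(433, 1), (434, 1), (435, 1)], .tr 105 1 [(434, 0), (435, 176), (433, 63)]),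
     ([(436, 1), (437, 1), (438, 1)], .tr 107 0 [(437, 118), (438, 0), (436, 56)]),
     ([(439, 1), (440, 1), (441, 1)], .tr 107 1 [(441, 171), (439, 108), (440, 72)]),
     ([(442, 1), (443, 1), (444, 1)], .tr 108 0 [(443, 0), (442, 7), (444, 159)]),
     ([(445, 1), (446, 1), (447, 1)], .tr 108 1 [(445, 0), (446, 0), (447, 177)]),
     ([(448, 1), (449, 1), (450, 1)], .tr 109 0 [(448, 178), (449, 11), (450, 1)]),
     ([(451, 1), (452, 1), (453, 1)], .tr 109 1 [(452, 58), (453, 148), (451, 156)]),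
     ([(454, 1), (455, 1), (456, 1)], .tr 110 1 [(456, 155), (455, 61), (454, 144)]),
     ([(457, 1), (458, 1), (459, 1)], .tr 111 1 [(459, 91), (457, 122), (458, 104)]),
     ([(460, 1), (461, 1), (462, 1)], .tr 112 1 [(460, 125), (461, 33), (462, 125)]),
     ([(463, 1), (464, 1), (465, 1)], .tr 113 0 [(465, 0), (463, 53), (464, 91)]),
     ([(466, 1), (467, 1), (468, 1)], .tr 113 1 [(466, 0), (468, 70), (467, 0)]),
     ([(469, 1), (470, 1), (471, 1)], .tr 114 0 [(469, 38), (471, 92), (470, 93)]),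
     ([(472, 1), (473, 1), (474, 1)], .tr 114 1 [(473, 122), (472, 89), (474, 133)]),
     ([(475, 1), (476, 1), (477, 1)], .tr 115 0 [(475, 2), (476, 160), (477, 8)]),
     ([(478, 1), (479, 1), (480, 1)], .tr 116 0 [(478, 0), (479, 160), (480, 67)])]

/-- a chunk of the certificate -/
def steps5 : List (Vec × How) :=
  [([(481, 1), (482, 1), (483, 1)], .tr 116 1 [(483, 135), (482, 183), (481, 156)]),
     ([(484, 1), (485, 1), (486, 1)], .tr 117 1 [(486, 128), (485, 50), (484, 82)]),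
     ([(487, 1), (488, 1), (489, 1)], .tr 118 1 [(488, 134), (489, 164), (487, 29)]),
     ([(490, 1), (491, 1), (492, 1)], .tr 119 0 [(491, 8), (492, 0), (490, 117)]),
     ([(493, 1), (494, 1), (495, 1)], .tr 120 1 [(495, 180), (493, 31), (494, 123)]),
     ([(496, 1), (497, 1), (498, 1)], .tr 121 1 [(496, 91), (498, 148), (497, 89)]),
     ([(499, 1), (500, 1), (501, 1)], .tr 122 1 [(501, 80), (500, 142), (499, 160)]),
     ([(502, 1), (503, 1), (504, 1)], .tr 124 0 [(503, 168), (502, 139), (504, 139)]),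
     ([(505, 1), (506, 1), (507, 1)], .tr 124 1 [(507, 0), (506, 76), (505, 19)]),
     ([(508, 1), (509, 1), (510, 1)], .tr 125 1 [(508, 159), (509, 116), (510, 189)]),
     ([(511, 1), (512, 1), (513, 1)], .tr 126 1 [(513, 122), (511, 116), (512, 115)]),
     ([(514, 1), (515, 1), (516, 1)], .tr 127 1 [(514, 131), (515, 118), (516, 6)]),
     ([(517, 1), (518, 1), (519, 1)], .tr 128 1 [(518, 177), (519, 11), (517, 16)]),
     ([(520, 1), (521, 1), (522, 1)], .tr 129 1 [(522, 61), (521, 164), (520, 173)]),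
     ([(523, 1), (524, 1), (525, 1)], .tr 130 1 [(525, 104), (523, 27), (524, 158)]),
     ([(526, 1), (527, 1), (528, 1)], .tr 131 1 [(526, 183), (527, 106), (528, 183)]),
     ([(529, 1), (530, 1), (531, 1)], .tr 132 0 [(529, 0), (530, 1), (531, 0)]),
     ([(532, 1), (533, 1), (534, 1)], .tr 133 0 [(533, 18), (534, 16), (532, 40)]),
     ([(535, 1), (536, 1), (537, 1)], .tr 134 0 [(537, 32), (535, 1), (536, 68)]),
     ([(538, 1), (539, 1), (540, 1)], .tr 136 1 [(540, 0), (538, 75), (539, 62)]),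
     ([(541, 1), (542, 1), (543, 1)], .tr 138 1 [(543, 164), (542, 150), (541, 50)]),
     ([(544, 1), (545, 1), (546, 1)], .tr 139 1 [(545, 26), (544, 141), (546, 100)]),
     ([(547, 1), (548, 1), (549, 1)], .tr 140 0 [(547, 0), (548, 71), (549, 97)]),
     ([(550, 1), (551, 1), (552, 1)], .tr 142 1 [(552, 117), (551, 17), (550, 141)]),
     ([(553, 1), (554, 1), (555, 1)], .tr 143 0 [(555, 78), (553, 0), (554, 112)]),
     ([(556, 1), (557, 1), (558, 1)], .tr 143 1 [(557, 0), (556, 12), (558, 131)]),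
     ([(559, 1), (560, 1), (561, 1)], .tr 146 1 [(560, 48), (559, 181), (561, 178)]),
     ([(562, 1), (563, 1), (564, 1)], .tr 147 1 [(562, 89), (564, 155), (563, 141)]),
     ([(565, 1), (566, 1), (567, 1)], .tr 149 1 [(565, 18), (567, 96), (566, 173)]),
     ([(568, 1), (569, 1), (570, 1)], .tr 150 1 [(570, 91), (569, 55), (568, 3)]),
     ([(571, 1), (572, 1), (573, 1)], .tr 151 1 [(572, 102), (571, 167), (573, 99)]),
     ([(574, 1), (575, 1), (576, 1)], .tr 152 1 [(574, 179), (576, 100), (575, 71)])]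

/-- a chunk of the certificate -/
def steps6 : List (Vec × How) :=
  [([(577, 1), (578, 1), (579, 1)], .tr 153 1 [(577, 109), (579, 124), (578, 25)]),
     ([(580, 1), (581, 1), (582, 1)], .tr 154 1 [(580, 54), (582, 71), (581, 8)]),
     ([(583, 1), (584, 1), (585, 1)], .tr 155 1 [(585, 91), (583, 75), (584, 143)]),
     ([(586, 1), (587, 1), (588, 1)], .tr 156 1 [(587, 134), (586, 10), (588, 67)]),
     ([(589, 1), (590, 1), (591, 1)], .tr 157 1 [(590, 120), (589, 147), (591, 180)]),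
     ([(592, 1), (593, 1), (594, 1)], .tr 158 0 [(593, 5), (594, 140), (592, 11)]),
     ([(595, 1), (596, 1), (597, 1)], .tr 158 1 [(596, 57), (595, 92), (597, 74)]),
     ([(598, 1), (599, 1), (600, 1)], .tr 159 0 [(600, 1), (599, 8), (598, 16)]),
     ([(601, 1), (602, 1), (603, 1)], .tr 160 0 [(603, 92), (601, 0), (602, 0)]),
     ([(604, 1), (605, 1), (606, 1)], .tr 160 1 [(606, 0), (605, 17), (604, 12)]),
     ([(607, 1), (608, 1), (609, 1)], .tr 163 1 [(607, 6), (608, 124), (609, 100)]),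
     ([(610, 1), (611, 1), (612, 1)], .tr 164 1 [(610, 90), (611, 85), (612, 112)]),
     ([(613, 1), (614, 1), (615, 1)], .tr 165 1 [(615, 165), (613, 156), (614, 11)]),
     ([(616, 1), (617, 1), (618, 1)], .tr 166 1 [(616, 99), (617, 92), (618, 86)]),
     ([(619, 1), (620, 1), (621, 1)], .tr 168 1 [(619, 125), (621, 150), (620, 98)]),
     ([(622, 1), (623, 1), (624, 1)], .tr 171 1 [(623, 27), (624, 140), (622, 93)]),
     ([(625, 1), (626, 1), (627, 1)], .tr 172 0 [(627, 132), (625, 125), (626, 149)]),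
     ([(628, 1), (629, 1), (630, 1)], .tr 172 1 [(629, 122), (630, 190), (628, 49)]),
     ([(631, 1), (632, 1), (633, 1)], .tr 173 1 [(632, 180), (633, 28), (631, 160)]),
     ([(634, 1), (635, 1), (636, 1)], .tr 174 0 [(634, 173), (636, 189), (635, 0)]),
     ([(637, 1), (638, 1), (639, 1)], .tr 175 0 [(637, 0), (638, 71), (639, 97)]),
     ([(640, 1), (641, 1), (642, 1)], .tr 176 0 [(641, 7), (640, 37), (642, 172)]),
     ([(643, 1), (644, 1), (645, 1)], .tr 178 1 [(643, 182), (644, 177), (645, 119)]),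
     ([(646, 1), (647, 1), (648, 1)], .tr 179 0 [(646, 38), (648, 7), (647, 131)]),
     ([(649, 1), (650, 1), (651, 1)], .tr 179 1 [(651, 10), (650, 113), (649, 94)]),
     ([(652, 1), (653, 1), (654, 1)], .tr 180 1 [(652, 96), (653, 32), (654, 113)]),
     ([(655, 1), (656, 1), (657, 1)], .tr 182 1 [(655, 178), (657, 146), (656, 81)]),
     ([(658, 1), (659, 1), (660, 1)], .tr 184 1 [(658, 120), (659, 180), (660, 134)]),
     ([(661, 1), (662, 1), (663, 1)], .tr 185 1 [(662, 180), (663, 101), (661, 113)]),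
     ([(664, 1), (665, 1), (666, 1)], .tr 186 0 [(665, 0), (666, 92), (664, 78)]),
     ([(667, 1), (668, 1), (669, 1)], .tr 187 1 [(669, 90), (667, 106), (668, 182)]),
     ([(670, 1), (671, 1), (672, 1)], .tr 188 0 [(672, 12), (671, 163), (670, 174)])]

/-- a chunk of the certificate -/
def steps7 : List (Vec × How) :=
  [([(673, 1), (674, 1), (675, 1)], .tr 193 1 [(675, 65), (674, 179), (673, 88)]),
     ([(676, 1), (677, 1), (678, 1)], .tr 199 1 [(678, 173), (676, 125), (677, 83)]),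
     ([(679, 1), (680, 1), (681, 1)], .tr 200 1 [(679, 36), (680, 97), (681, 102)]),
     ([(682, 1), (683, 1), (684, 1)], .tr 203 1 [(684, 159), (683, 56), (682, 160)]),
     ([(685, 1), (686, 1), (687, 1)], .tr 204 0 [(685, 0), (686, 0), (687, 176)]),
     ([(688, 1), (689, 1), (690, 1)], .tr 205 1 [(689, 112), (690, 117), (688, 133)]),
     ([(691, 1), (692, 1), (693, 1)], .tr 208 1 [(693, 180), (692, 177), (691, 108)]),
     ([(694, 1), (695, 1), (696, 1)], .tr 210 0 [(696, 0), (694, 66), (695, 38)]),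
     ([(697, 1), (698, 1), (699, 1)], .tr 212 0 [(697, 1), (698, 20), (699, 95)]),
     ([(700, 1), (701, 1), (702, 1)], .tr 216 0 [(700, 0), (702, 19), (701, 142)]),
     ([(703, 1), (704, 1), (705, 1)], .tr 219 1 [(705, 111), (703, 12), (704, 9)]),
     ([(706, 1), (707, 1), (708, 1)], .tr 220 1 [(707, 0), (708, 0), (706, 186)]),
     ([(709, 1), (710, 1), (711, 1)], .tr 221 1 [(710, 150), (711, 106), (709, 66)]),
     ([(712, 1), (713, 1), (714, 1)], .tr 223 0 [(713, 162), (714, 110), (712, 21)]),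
     ([(715, 1), (716, 1), (717, 1)], .tr 225 0 [(716, 172), (717, 37), (715, 21)]),
     ([(718, 1), (719, 1), (720, 1)], .tr 225 1 [(719, 150), (718, 159), (720, 177)]),
     ([(721, 1), (722, 1), (723, 1)], .tr 230 1 [(721, 0), (722, 0), (723, 0)]),
     ([(724, 1), (725, 1), (726, 1)], .tr 231 0 [(725, 67), (724, 145), (726, 37)]),
     ([(727, 1), (728, 1), (729, 1)], .tr 231 1 [(728, 22), (729, 10), (727, 75)]),
     ([(0, 1), (730, 1), (691, 1)], .kill 3 [([], [(0, 1), (730, 11), (691, 37)]), ([], [(0, 2), (691, 94), (730, 121)]), ([], [(0, 3), (730, 20), (691, 5)]), ([], [(0, 4), (691, 40), (730, 43)]), ([], [(0, 5), (730, 5), (691, 3)]), ([], [(0, 6), (730, 6), (691, 15)]), ([], [(691, 143), (730, 8), (0, 143)])]),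
     ([(731, 1), (629, 1), (624, 1)], .tr 243 0 [(731, 0), (629, 0), (624, 0)]),
     ([(732, 1), (70, 1), (721, 1)], .tr 243 1 [(732, 0), (70, 0), (721, 0)]),
     ([(733, 1), (734, 1), (735, 1)], .tr 244 0 [(733, 1), (734, 11), (735, 135)]),
     ([(736, 1), (142, 1), (99, 1)], .tr 244 1 [(736, 0), (99, 0), (142, 163)]),
     ([(133, 1), (23, 1), (737, 1)], .tr 245 0 [(133, 0), (23, 92), (737, 127)]),
     ([(28, 1), (127, 1), (738, 1)], .tr 245 1 [(28, 0), (127, 133), (738, 143)]),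
     ([(739, 1), (66, 1), (150, 1)], .tr 246 1 [(739, 0), (66, 0), (150, 20)]),
     ([(134, 1), (32, 1), (209, 1)], .tr 247 0 [(134, 0), (209, 150), (32, 0)]),
     ([(30, 1), (212, 1), (165, 1)], .tr 247 1 [(30, 110), (212, 111), (165, 133)]),
     ([(41, 1), (194, 1), (740, 1)], .tr 248 0 [(194, 0), (41, 0), (740, 0)]),
     ([(34, 1), (741, 1), (45, 1)], .tr 248 1 [(34, 0), (45, 42), (741, 109)]),
     ([(53, 1), (655, 1), (44, 1)], .tr 249 0 [(53, 64), (44, 160), (655, 170)])]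

/-- a chunk of the certificate -/
def steps8 : List (Vec × How) :=
  [([(135, 1), (49, 1), (117, 1)], .tr 250 0 [(135, 0), (117, 92), (49, 53)]),
     ([(29, 1), (217, 1), (120, 1)], .tr 250 1 [(29, 91), (120, 57), (217, 79)]),
     ([(195, 1), (56, 1), (85, 1)], .tr 251 0 [(195, 1), (56, 18), (85, 24)]),
     ([(290, 1), (36, 1), (58, 1)], .tr 251 1 [(36, 0), (58, 72), (290, 175)]),
     ([(54, 1), (232, 1), (92, 1)], .tr 252 0 [(54, 133), (92, 51), (232, 191)]),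
     ([(42, 1), (292, 1), (83, 1)], .tr 252 1 [(42, 40), (292, 152), (83, 5)]),
     ([(273, 1), (742, 1), (74, 1)], .tr 253 1 [(74, 55), (273, 170), (742, 170)]),
     ([(81, 1), (61, 1), (283, 1)], .tr 254 1 [(61, 23), (283, 42), (81, 43)]),
     ([(79, 1), (95, 1), (203, 1)], .tr 255 1 [(95, 66), (203, 33), (79, 166)]),
     ([(193, 1), (90, 1), (39, 1)], .tr 256 0 [(193, 1), (90, 177), (39, 0)]),
     ([(35, 1), (91, 1), (182, 1)], .tr 256 1 [(35, 91), (91, 77), (182, 161)]),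
     ([(52, 1), (299, 1), (60, 1)], .tr 257 0 [(52, 0), (299, 0), (60, 3)]),
     ([(301, 1), (40, 1), (185, 1)], .tr 257 1 [(40, 177), (301, 61), (185, 161)]),
     ([(272, 1), (100, 1), (146, 1)], .tr 258 1 [(272, 91), (100, 97), (146, 78)]),
     ([(388, 1), (12, 1), (105, 1)], .tr 259 0 [(388, 0), (12, 162), (105, 39)]),
     ([(391, 1), (62, 1), (108, 1)], .tr 259 1 [(391, 61), (62, 62), (108, 6)]),
     ([(743, 1), (18, 1), (156, 1)], .tr 260 0 [(18, 66), (743, 149), (156, 171)]),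
     ([(321, 1), (96, 1), (159, 1)], .tr 260 1 [(96, 59), (321, 153), (159, 105)]),
     ([(26, 1), (72, 1), (396, 1)], .tr 261 0 [(72, 188), (396, 29), (26, 5)]),
     ([(140, 1), (75, 1), (399, 1)], .tr 261 1 [(75, 72), (399, 183), (140, 172)]),
     ([(320, 1), (744, 1), (75, 1)], .tr 262 0 [(320, 11), (744, 111), (75, 1)]),
     ([(373, 1), (131, 1), (592, 1)], .tr 262 1 [(373, 9), (592, 53), (131, 134)]),
     ([(80, 1), (111, 1), (141, 1)], .tr 263 0 [(80, 0), (111, 6), (141, 115)]),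
     ([(136, 1), (113, 1), (745, 1)], .tr 263 1 [(136, 160), (113, 32), (745, 33)]),
     ([(138, 1), (746, 1), (162, 1)], .tr 264 1 [(138, 124), (162, 170), (746, 100)]),
     ([(271, 1), (68, 1), (152, 1)], .tr 265 1 [(271, 0), (152, 162), (68, 97)]),
     ([(10, 1), (155, 1), (747, 1)], .tr 266 0 [(10, 150), (155, 0), (747, 68)]),
     ([(254, 1), (157, 1), (63, 1)], .tr 266 1 [(63, 163), (157, 98), (254, 24)]),
     ([(17, 1), (407, 1), (103, 1)], .tr 267 0 [(17, 7), (407, 0), (103, 130)]),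
     ([(106, 1), (94, 1), (352, 1)], .tr 267 1 [(94, 0), (352, 61), (106, 167)]),
     ([(409, 1), (71, 1), (257, 1)], .tr 268 0 [(409, 0), (71, 181), (257, 7)]),
     ([(412, 1), (260, 1), (73, 1)], .tr 268 1 [(412, 0), (73, 55), (260, 109)])]

/-- a chunk of the certificate -/
def steps9 : List (Vec × How) :=
  [([(319, 1), (748, 1), (69, 1)], .tr 269 0 [(319, 0), (69, 0), (748, 1)]),
     ([(214, 1), (374, 1), (168, 1)], .tr 269 1 [(374, 2), (168, 53), (214, 81)]),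
     ([(749, 1), (21, 1), (118, 1)], .tr 270 0 [(749, 0), (21, 100), (118, 19)]),
     ([(169, 1), (24, 1), (522, 1)], .tr 270 1 [(522, 61), (24, 44), (169, 112)]),
     ([(107, 1), (110, 1), (261, 1)], .tr 271 0 [(261, 29), (110, 191), (107, 5)]),
     ([(172, 1), (112, 1), (525, 1)], .tr 271 1 [(525, 104), (112, 19), (172, 93)]),
     ([(223, 1), (19, 1), (31, 1)], .tr 272 1 [(19, 6), (31, 108), (223, 106)]),
     ([(227, 1), (750, 1), (161, 1)], .tr 273 1 [(750, 157), (161, 52), (227, 75)]),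
     ([(22, 1), (225, 1), (48, 1)], .tr 274 0 [(48, 2), (22, 61), (225, 59)]),
     ([(528, 1), (51, 1), (129, 1)], .tr 274 1 [(51, 109), (129, 37), (528, 183)]),
     ([(73, 1), (531, 1), (204, 1)], .tr 275 0 [(204, 62), (73, 1), (531, 0)]),
     ([(130, 1), (751, 1), (206, 1)], .tr 275 1 [(206, 150), (130, 15), (751, 72)]),
     ([(253, 1), (73, 1), (425, 1)], .tr 276 0 [(253, 71), (425, 0), (73, 1)]),
     ([(130, 1), (477, 1), (752, 1)], .tr 276 1 [(752, 141), (477, 137), (130, 15)]),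
     ([(132, 1), (503, 1), (348, 1)], .tr 277 0 [(503, 168), (132, 65), (348, 26)]),
     ([(197, 1), (429, 1), (507, 1)], .tr 277 1 [(507, 0), (197, 66), (429, 110)]),
     ([(137, 1), (175, 1), (207, 1)], .tr 278 1 [(137, 149), (175, 185), (207, 83)]),
     ([(188, 1), (112, 1), (753, 1)], .tr 279 0 [(188, 11), (112, 31), (753, 189)]),
     ([(199, 1), (436, 1), (178, 1)], .tr 279 1 [(199, 14), (178, 160), (436, 51)]),
     ([(754, 1), (187, 1), (205, 1)], .tr 280 0 [(187, 8), (205, 0), (754, 0)]),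
     ([(231, 1), (363, 1), (201, 1)], .tr 280 1 [(201, 91), (363, 174), (231, 156)]),
     ([(121, 1), (321, 1), (145, 1)], .tr 281 0 [(321, 126), (121, 83), (145, 8)]),
     ([(220, 1), (375, 1), (125, 1)], .tr 281 1 [(375, 2), (125, 40), (220, 134)]),
     ([(755, 1), (19, 1), (213, 1)], .tr 282 0 [(19, 191), (213, 169), (755, 30)]),
     ([(271, 1), (158, 1), (109, 1)], .tr 283 0 [(271, 71), (158, 0), (109, 133)]),
     ([(347, 1), (228, 1), (114, 1)], .tr 283 1 [(347, 110), (228, 108), (114, 81)]),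
     ([(171, 1), (450, 1), (33, 1)], .tr 284 1 [(33, 8), (450, 61), (171, 53)]),
     ([(160, 1), (486, 1), (174, 1)], .tr 285 1 [(174, 47), (160, 178), (486, 128)]),
     ([(128, 1), (350, 1), (540, 1)], .tr 286 1 [(540, 0), (128, 88), (350, 31)]),
     ([(756, 1), (353, 1), (74, 1)], .tr 287 0 [(756, 109), (353, 0), (74, 0)]),
     ([(356, 1), (132, 1), (757, 1)], .tr 287 1 [(757, 12), (356, 10), (132, 44)]),
     ([(255, 1), (122, 1), (153, 1)], .tr 288 0 [(255, 145), (153, 159), (122, 65)])]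

/-- a chunk of the certificate -/
def steps10 : List (Vec × How) :=
  [([(242, 1), (758, 1), (126, 1)], .tr 288 1 [(758, 100), (242, 115), (126, 17)]),
     ([(137, 1), (502, 1), (215, 1)], .tr 289 0 [(215, 8), (502, 139), (137, 2)]),
     ([(295, 1), (236, 1), (506, 1)], .tr 289 1 [(295, 112), (506, 76), (236, 160)]),
     ([(478, 1), (37, 1), (186, 1)], .tr 290 1 [(478, 155), (37, 7), (186, 108)]),
     ([(238, 1), (631, 1), (44, 1)], .tr 291 1 [(238, 109), (44, 28), (631, 160)]),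
     ([(176, 1), (355, 1), (173, 1)], .tr 292 1 [(173, 57), (176, 125), (355, 152)]),
     ([(241, 1), (635, 1), (114, 1)], .tr 293 0 [(241, 0), (114, 31), (635, 0)]),
     ([(759, 1), (244, 1), (180, 1)], .tr 293 1 [(244, 86), (180, 149), (759, 81)]),
     ([(35, 1), (293, 1), (55, 1)], .tr 294 0 [(293, 1), (35, 5), (55, 0)]),
     ([(308, 1), (38, 1), (60, 1)], .tr 294 1 [(308, 183), (38, 91), (60, 185)]),
     ([(760, 1), (310, 1), (374, 1)], .tr 295 0 [(310, 172), (374, 139), (760, 31)]),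
     ([(314, 1), (230, 1), (761, 1)], .tr 295 1 [(314, 105), (761, 59), (230, 106)]),
     ([(309, 1), (43, 1), (87, 1)], .tr 296 1 [(43, 0), (309, 144), (87, 127)]),
     ([(639, 1), (88, 1), (45, 1)], .tr 297 0 [(639, 97), (88, 0), (45, 179)]),
     ([(74, 1), (642, 1), (285, 1)], .tr 298 0 [(74, 0), (642, 172), (285, 0)]),
     ([(762, 1), (132, 1), (763, 1)], .tr 298 1 [(132, 44), (762, 138), (763, 34)]),
     ([(131, 1), (764, 1), (765, 1)], .tr 299 0 [(131, 122), (764, 96), (765, 151)]),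
     ([(198, 1), (286, 1), (282, 1)], .tr 299 1 [(198, 10), (282, 186), (286, 10)]),
     ([(198, 1), (766, 1), (597, 1)], .tr 301 1 [(198, 10), (597, 74), (766, 80)]),
     ([(196, 1), (767, 1), (768, 1)], .tr 302 1 [(196, 75), (767, 129), (768, 171)]),
     ([(274, 1), (769, 1), (506, 1)], .tr 303 0 [(274, 145), (769, 189), (506, 155)]),
     ([(277, 1), (550, 1), (620, 1)], .tr 303 1 [(277, 163), (550, 141), (620, 98)]),
     ([(770, 1), (189, 1), (161, 1)], .tr 304 0 [(189, 161), (161, 29), (770, 188)]),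
     ([(248, 1), (200, 1), (288, 1)], .tr 304 1 [(200, 32), (248, 31), (288, 163)]),
     ([(324, 1), (180, 1), (262, 1)], .tr 305 1 [(262, 81), (180, 149), (324, 99)]),
     ([(237, 1), (179, 1), (281, 1)], .tr 306 0 [(281, 155), (237, 104), (179, 127)]),
     ([(771, 1), (535, 1), (252, 1)], .tr 306 1 [(771, 82), (535, 176), (252, 62)]),
     ([(275, 1), (287, 1), (263, 1)], .tr 307 1 [(275, 102), (263, 14), (287, 129)]),
     ([(229, 1), (192, 1), (280, 1)], .tr 308 0 [(229, 68), (192, 40), (280, 0)]),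
     ([(772, 1), (318, 1), (494, 1)], .tr 308 1 [(318, 70), (494, 123), (772, 64)]),
     ([(189, 1), (750, 1), (216, 1)], .tr 309 1 [(189, 163), (750, 157), (216, 153)]),
     ([(190, 1), (304, 1), (505, 1)], .tr 310 1 [(304, 131), (505, 19), (190, 20)])]

/-- a chunk of the certificate -/
def steps11 : List (Vec × How) :=
  [([(52, 1), (38, 1), (294, 1)], .tr 311 1 [(52, 79), (38, 91), (294, 164)]),
     ([(113, 1), (311, 1), (476, 1)], .tr 313 0 [(476, 160), (311, 152), (113, 31)]),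
     ([(313, 1), (773, 1), (179, 1)], .tr 313 1 [(773, 184), (313, 109), (179, 12)]),
     ([(184, 1), (240, 1), (57, 1)], .tr 314 0 [(184, 0), (240, 1), (57, 47)]),
     ([(240, 1), (59, 1), (566, 1)], .tr 314 1 [(240, 130), (566, 173), (59, 152)]),
     ([(774, 1), (242, 1), (357, 1)], .tr 315 0 [(774, 29), (357, 30), (242, 107)]),
     ([(229, 1), (245, 1), (532, 1)], .tr 315 1 [(229, 128), (532, 45), (245, 134)]),
     ([(479, 1), (647, 1), (43, 1)], .tr 316 0 [(43, 83), (479, 160), (647, 131)]),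
     ([(482, 1), (195, 1), (649, 1)], .tr 316 1 [(195, 1), (482, 183), (649, 94)]),
     ([(131, 1), (485, 1), (634, 1)], .tr 317 1 [(634, 43), (485, 50), (131, 134)]),
     ([(130, 1), (523, 1), (775, 1)], .tr 318 0 [(775, 41), (130, 127), (523, 48)]),
     ([(196, 1), (337, 1), (489, 1)], .tr 318 1 [(489, 164), (196, 75), (337, 50)]),
     ([(187, 1), (346, 1), (222, 1)], .tr 319 1 [(346, 77), (187, 51), (222, 83)]),
     ([(191, 1), (334, 1), (776, 1)], .tr 320 1 [(334, 14), (776, 47), (191, 59)]),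
     ([(296, 1), (777, 1), (200, 1)], .tr 321 1 [(200, 32), (777, 59), (296, 190)]),
     ([(400, 1), (323, 1), (505, 1)], .tr 322 0 [(400, 0), (323, 143), (505, 31)]),
     ([(325, 1), (403, 1), (621, 1)], .tr 322 1 [(403, 55), (325, 51), (621, 150)]),
     ([(256, 1), (600, 1), (65, 1)], .tr 323 0 [(600, 1), (65, 66), (256, 7)]),
     ([(259, 1), (778, 1), (69, 1)], .tr 323 1 [(778, 50), (69, 97), (259, 109)]),
     ([(328, 1), (77, 1), (696, 1)], .tr 324 0 [(328, 0), (696, 0), (77, 166)]),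
     ([(79, 1), (331, 1), (779, 1)], .tr 324 1 [(331, 71), (779, 183), (79, 166)]),
     ([(780, 1), (243, 1), (162, 1)], .tr 325 0 [(162, 0), (780, 0), (243, 21)]),
     ([(246, 1), (488, 1), (249, 1)], .tr 325 1 [(249, 0), (488, 134), (246, 32)]),
     ([(113, 1), (221, 1), (781, 1)], .tr 326 0 [(221, 143), (781, 56), (113, 31)]),
     ([(179, 1), (336, 1), (415, 1)], .tr 326 1 [(336, 145), (415, 10), (179, 12)]),
     ([(178, 1), (339, 1), (305, 1)], .tr 327 0 [(305, 164), (339, 76), (178, 81)]),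
     ([(250, 1), (369, 1), (782, 1)], .tr 327 1 [(369, 117), (782, 43), (250, 79)]),
     ([(394, 1), (10, 1), (97, 1)], .tr 328 0 [(10, 150), (394, 1), (97, 145)]),
     ([(422, 1), (64, 1), (103, 1)], .tr 329 0 [(422, 7), (64, 0), (103, 130)]),
     ([(67, 1), (106, 1), (426, 1)], .tr 329 1 [(426, 0), (67, 37), (106, 167)]),
     ([(175, 1), (502, 1), (783, 1)], .tr 330 0 [(175, 0), (783, 144), (502, 139)]),
     ([(427, 1), (573, 1), (231, 1)], .tr 331 0 [(427, 0), (231, 0), (573, 188)])]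

/-- a chunk of the certificate -/
def steps12 : List (Vec × How) :=
  [([(317, 1), (379, 1), (784, 1)], .tr 331 1 [(379, 102), (317, 73), (784, 91)]),
     ([(423, 1), (144, 1), (78, 1)], .tr 332 0 [(423, 158), (78, 70), (144, 50)]),
     ([(80, 1), (424, 1), (147, 1)], .tr 332 1 [(424, 31), (80, 88), (147, 180)]),
     ([(76, 1), (149, 1), (699, 1)], .tr 333 0 [(699, 95), (149, 101), (76, 43)]),
     ([(81, 1), (151, 1), (785, 1)], .tr 333 1 [(785, 184), (151, 140), (81, 43)]),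
     ([(196, 1), (322, 1), (361, 1)], .tr 335 1 [(322, 80), (196, 75), (361, 108)]),
     ([(197, 1), (266, 1), (438, 1)], .tr 336 1 [(197, 66), (438, 58), (266, 127)]),
     ([(279, 1), (387, 1), (383, 1)], .tr 337 1 [(279, 91), (387, 184), (383, 144)]),
     ([(572, 1), (275, 1), (786, 1)], .tr 338 0 [(275, 7), (572, 87), (786, 131)]),
     ([(279, 1), (553, 1), (787, 1)], .tr 338 1 [(279, 91), (787, 91), (553, 40)]),
     ([(278, 1), (471, 1), (788, 1)], .tr 339 1 [(278, 0), (471, 28), (788, 4)]),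
     ([(464, 1), (378, 1), (621, 1)], .tr 340 1 [(378, 109), (464, 188), (621, 150)]),
     ([(342, 1), (381, 1), (619, 1)], .tr 341 0 [(381, 96), (342, 127), (619, 0)]),
     ([(789, 1), (627, 1), (790, 1)], .tr 341 1 [(789, 31), (627, 111), (790, 161)]),
     ([(760, 1), (791, 1), (168, 1)], .tr 342 0 [(791, 128), (168, 135), (760, 31)]),
     ([(230, 1), (265, 1), (264, 1)], .tr 342 1 [(265, 184), (264, 131), (230, 106)]),
     ([(792, 1), (385, 1), (340, 1)], .tr 343 1 [(340, 165), (792, 103), (385, 110)]),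
     ([(250, 1), (358, 1), (440, 1)], .tr 344 1 [(440, 72), (250, 79), (358, 136)]),
     ([(327, 1), (251, 1), (384, 1)], .tr 345 1 [(327, 140), (251, 69), (384, 45)]),
     ([(772, 1), (793, 1), (345, 1)], .tr 346 0 [(772, 45), (793, 146), (345, 162)]),
     ([(794, 1), (643, 1), (2, 1)], .tr 346 1 [(2, 169), (643, 182), (794, 96)]),
     ([(386, 1), (377, 1), (360, 1)], .tr 347 1 [(377, 116), (386, 136), (360, 138)]),
     ([(316, 1), (270, 1), (382, 1)], .tr 348 1 [(316, 132), (270, 65), (382, 142)]),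
     ([(430, 1), (792, 1), (541, 1)], .tr 349 0 [(792, 59), (430, 155), (541, 1)]),
     ([(433, 1), (611, 1), (3, 1)], .tr 349 1 [(3, 0), (433, 63), (611, 85)]),
     ([(761, 1), (297, 1), (264, 1)], .tr 350 1 [(264, 131), (761, 59), (297, 23)]),
     ([(268, 1), (419, 1), (619, 1)], .tr 351 1 [(268, 71), (419, 89), (619, 125)]),
     ([(395, 1), (17, 1), (64, 1)], .tr 352 0 [(17, 7), (64, 0), (395, 176)]),
     ([(67, 1), (94, 1), (397, 1)], .tr 352 1 [(94, 0), (67, 37), (397, 9)]),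
     ([(112, 1), (795, 1), (594, 1)], .tr 353 0 [(112, 31), (795, 113), (594, 140)]),
     ([(251, 1), (380, 1), (796, 1)], .tr 354 1 [(380, 20), (796, 155), (251, 69)]),
     ([(258, 1), (330, 1), (98, 1)], .tr 355 0 [(258, 0), (330, 0), (98, 37)])]

/-- a chunk of the certificate -/
def steps13 : List (Vec × How) :=
  [([(332, 1), (102, 1), (261, 1)], .tr 355 1 [(261, 67), (332, 156), (102, 116)]),
     ([(671, 1), (330, 1), (104, 1)], .tr 356 0 [(330, 0), (104, 130), (671, 163)]),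
     ([(220, 1), (797, 1), (177, 1)], .tr 357 0 [(177, 123), (220, 0), (797, 135)]),
     ([(276, 1), (487, 1), (334, 1)], .tr 357 1 [(276, 114), (334, 14), (487, 29)]),
     ([(798, 1), (599, 1), (78, 1)], .tr 359 0 [(599, 8), (798, 94), (78, 70)]),
     ([(272, 1), (605, 1), (799, 1)], .tr 360 1 [(605, 17), (272, 91), (799, 134)]),
     ([(197, 1), (533, 1), (416, 1)], .tr 361 1 [(197, 66), (533, 146), (416, 50)]),
     ([(198, 1), (401, 1), (800, 1)], .tr 362 1 [(198, 10), (800, 156), (401, 112)]),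
     ([(571, 1), (246, 1), (267, 1)], .tr 365 0 [(267, 34), (246, 130), (571, 28)]),
     ([(269, 1), (459, 1), (801, 1)], .tr 365 1 [(269, 154), (459, 91), (801, 91)]),
     ([(439, 1), (802, 1), (619, 1)], .tr 367 1 [(802, 27), (439, 108), (619, 125)]),
     ([(443, 1), (620, 1), (537, 1)], .tr 368 0 [(443, 0), (537, 32), (620, 81)]),
     ([(445, 1), (803, 1), (804, 1)], .tr 368 1 [(445, 0), (804, 95), (803, 181)]),
     ([(170, 1), (349, 1), (115, 1)], .tr 369 0 [(170, 7), (349, 1), (115, 76)]),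
     ([(677, 1), (351, 1), (118, 1)], .tr 369 1 [(351, 0), (677, 83), (118, 61)]),
     ([(357, 1), (805, 1), (126, 1)], .tr 370 1 [(357, 17), (805, 96), (126, 17)]),
     ([(127, 1), (448, 1), (726, 1)], .tr 371 0 [(448, 178), (127, 0), (726, 37)]),
     ([(134, 1), (452, 1), (727, 1)], .tr 371 1 [(452, 58), (134, 0), (727, 75)]),
     ([(754, 1), (484, 1), (222, 1)], .tr 373 0 [(484, 113), (222, 34), (754, 0)]),
     ([(231, 1), (335, 1), (402, 1)], .tr 373 1 [(402, 124), (335, 8), (231, 156)]),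
     ([(341, 1), (806, 1), (491, 1)], .tr 374 1 [(806, 163), (491, 134), (341, 144)]),
     ([(251, 1), (458, 1), (543, 1)], .tr 376 1 [(251, 69), (458, 104), (543, 164)]),
     ([(252, 1), (420, 1), (462, 1)], .tr 377 1 [(252, 62), (462, 125), (420, 55)]),
     ([(343, 1), (806, 1), (366, 1)], .tr 378 0 [(343, 143), (366, 164), (806, 29)]),
     ([(807, 1), (499, 1), (808, 1)], .tr 378 1 [(807, 93), (499, 160), (808, 11)]),
     ([(548, 1), (116, 1), (120, 1)], .tr 380 0 [(548, 71), (116, 0), (120, 124)]),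
     ([(171, 1), (809, 1), (119, 1)], .tr 380 1 [(809, 0), (119, 19), (171, 53)]),
     ([(810, 1), (108, 1), (123, 1)], .tr 381 0 [(123, 89), (108, 7), (810, 0)]),
     ([(229, 1), (811, 1), (812, 1)], .tr 383 0 [(811, 159), (812, 11), (229, 68)]),
     ([(318, 1), (552, 1), (345, 1)], .tr 383 1 [(552, 117), (345, 112), (318, 70)]),
     ([(431, 1), (376, 1), (801, 1)], .tr 384 0 [(431, 78), (376, 143), (801, 0)]),
     ([(665, 1), (435, 1), (513, 1)], .tr 384 1 [(435, 176), (513, 122), (665, 139)])]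

/-- a chunk of the certificate -/
def steps14 : List (Vec × How) :=
  [([(549, 1), (128, 1), (208, 1)], .tr 385 0 [(549, 97), (208, 22), (128, 54)]),
     ([(133, 1), (219, 1), (813, 1)], .tr 387 1 [(133, 0), (219, 145), (813, 141)]),
     ([(136, 1), (476, 1), (221, 1)], .tr 388 1 [(136, 160), (221, 184), (476, 168)]),
     ([(278, 1), (495, 1), (441, 1)], .tr 389 1 [(278, 0), (441, 171), (495, 180)]),
     ([(274, 1), (236, 1), (362, 1)], .tr 390 0 [(274, 145), (362, 186), (236, 143)]),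
     ([(277, 1), (537, 1), (364, 1)], .tr 390 1 [(277, 163), (364, 26), (537, 70)]),
     ([(379, 1), (461, 1), (359, 1)], .tr 391 0 [(379, 0), (461, 45), (359, 59)]),
     ([(517, 1), (814, 1), (515, 1)], .tr 391 1 [(814, 37), (517, 16), (515, 118)]),
     ([(344, 1), (377, 1), (815, 1)], .tr 392 1 [(344, 136), (377, 116), (815, 180)]),
     ([(664, 1), (814, 1), (658, 1)], .tr 393 1 [(814, 37), (658, 120), (664, 30)]),
     ([(816, 1), (817, 1), (588, 1)], .tr 394 1 [(816, 163), (588, 67), (817, 6)]),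
     ([(803, 1), (582, 1), (510, 1)], .tr 395 1 [(582, 71), (510, 189), (803, 181)]),
     ([(467, 1), (818, 1), (512, 1)], .tr 396 1 [(467, 0), (512, 115), (818, 90)]),
     ([(317, 1), (359, 1), (365, 1)], .tr 399 1 [(317, 73), (365, 28), (359, 109)]),
     ([(771, 1), (465, 1), (462, 1)], .tr 400 0 [(771, 0), (462, 59), (465, 0)]),
     ([(466, 1), (518, 1), (1, 1)], .tr 400 1 [(1, 177), (518, 177), (466, 0)]),
     ([(807, 1), (559, 1), (819, 1)], .tr 401 1 [(807, 93), (819, 118), (559, 181)]),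
     ([(344, 1), (444, 1), (360, 1)], .tr 402 0 [(444, 159), (344, 161), (360, 117)]),
     ([(820, 1), (447, 1), (516, 1)], .tr 402 1 [(447, 177), (820, 135), (516, 6)]),
     ([(821, 1), (474, 1), (3, 1)], .tr 403 1 [(3, 0), (821, 41), (474, 133)]),
     ([(586, 1), (1, 1), (822, 1)], .tr 404 0 [(822, 147), (586, 158), (1, 0)]),
     ([(5, 1), (823, 1), (824, 1)], .tr 404 1 [(823, 26), (824, 0), (5, 20)]),
     ([(519, 1), (509, 1), (825, 1)], .tr 405 1 [(519, 11), (509, 116), (825, 35)]),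
     ([(432, 1), (358, 1), (369, 1)], .tr 406 0 [(432, 181), (369, 187), (358, 20)]),
     ([(514, 1), (434, 1), (371, 1)], .tr 406 1 [(434, 0), (371, 9), (514, 131)]),
     ([(557, 1), (652, 1), (1, 1)], .tr 407 1 [(557, 0), (1, 177), (652, 96)]),
     ([(546, 1), (2, 1), (660, 1)], .tr 408 0 [(546, 35), (660, 139), (2, 143)]),
     ([(6, 1), (826, 1), (683, 1)], .tr 408 1 [(826, 181), (683, 56), (6, 188)]),
     ([(405, 1), (359, 1), (784, 1)], .tr 409 1 [(784, 91), (405, 27), (359, 109)]),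
     ([(367, 1), (493, 1), (621, 1)], .tr 410 0 [(367, 127), (493, 95), (621, 69)]),
     ([(544, 1), (818, 1), (370, 1)], .tr 410 1 [(370, 0), (544, 141), (818, 90)]),
     ([(527, 1), (119, 1), (33, 1)], .tr 411 1 [(527, 106), (33, 8), (119, 19)])]

/-- a chunk of the certificate -/
def steps15 : List (Vec × How) :=
  [([(62, 1), (529, 1), (123, 1)], .tr 412 0 [(123, 89), (62, 132), (529, 0)]),
     ([(124, 1), (160, 1), (827, 1)], .tr 412 1 [(124, 187), (160, 178), (827, 190)]),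
     ([(828, 1), (511, 1), (820, 1)], .tr 414 1 [(820, 135), (511, 116), (828, 189)]),
     ([(451, 1), (164, 1), (349, 1)], .tr 415 1 [(349, 40), (451, 156), (164, 103)]),
     ([(67, 1), (352, 1), (829, 1)], .tr 416 0 [(829, 1), (67, 135), (352, 31)]),
     ([(451, 1), (170, 1), (830, 1)], .tr 417 1 [(830, 149), (451, 156), (170, 108)]),
     ([(376, 1), (459, 1), (492, 1)], .tr 419 1 [(376, 179), (492, 187), (459, 91)]),
     ([(135, 1), (676, 1), (725, 1)], .tr 420 1 [(725, 118), (676, 125), (135, 25)]),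
     ([(319, 1), (778, 1), (606, 1)], .tr 421 0 [(319, 0), (606, 24), (778, 37)]),
     ([(368, 1), (387, 1), (787, 1)], .tr 425 0 [(368, 0), (387, 106), (787, 0)]),
     ([(575, 1), (666, 1), (372, 1)], .tr 425 1 [(372, 115), (575, 71), (666, 91)]),
     ([(560, 1), (818, 1), (831, 1)], .tr 426 1 [(560, 48), (831, 67), (818, 90)]),
     ([(564, 1), (645, 1), (790, 1)], .tr 427 1 [(564, 155), (790, 161), (645, 119)]),
     ([(608, 1), (473, 1), (446, 1)], .tr 428 0 [(446, 64), (608, 43), (473, 1)]),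
     ([(832, 1), (833, 1), (834, 1)], .tr 428 1 [(833, 122), (832, 108), (834, 162)]),
     ([(239, 1), (483, 1), (183, 1)], .tr 429 1 [(239, 126), (483, 135), (183, 66)]),
     ([(480, 1), (58, 1), (717, 1)], .tr 430 0 [(717, 37), (480, 67), (58, 51)]),
     ([(718, 1), (481, 1), (186, 1)], .tr 430 1 [(718, 159), (481, 156), (186, 108)]),
     ([(194, 1), (646, 1), (565, 1)], .tr 432 1 [(194, 0), (565, 18), (646, 154)]),
     ([(468, 1), (835, 1), (608, 1)], .tr 436 1 [(468, 70), (835, 59), (608, 124)]),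
     ([(820, 1), (654, 1), (576, 1)], .tr 437 1 [(820, 135), (576, 100), (654, 113)]),
     ([(794, 1), (578, 1), (546, 1)], .tr 438 1 [(794, 96), (546, 100), (578, 25)]),
     ([(835, 1), (497, 1), (473, 1)], .tr 439 1 [(473, 122), (835, 59), (497, 89)]),
     ([(836, 1), (498, 1), (513, 1)], .tr 440 0 [(836, 147), (498, 69), (513, 136)]),
     ([(7, 1), (837, 1), (616, 1)], .tr 440 1 [(837, 67), (616, 99), (7, 169)]),
     ([(838, 1), (184, 1), (59, 1)], .tr 442 0 [(184, 0), (838, 0), (59, 3)]),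
     ([(433, 1), (625, 1), (474, 1)], .tr 445 1 [(433, 63), (625, 95), (474, 133)]),
     ([(556, 1), (666, 1), (508, 1)], .tr 446 1 [(556, 12), (508, 159), (666, 91)]),
     ([(839, 1), (14, 1), (711, 1)], .tr 447 1 [(711, 106), (839, 147), (14, 180)]),
     ([(195, 1), (656, 1), (291, 1)], .tr 448 1 [(656, 81), (195, 1), (291, 11)]),
     ([(298, 1), (194, 1), (840, 1)], .tr 449 0 [(194, 0), (298, 0), (840, 116)]),
     ([(302, 1), (34, 1), (88, 1)], .tr 449 1 [(34, 0), (302, 61), (88, 48)])]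

/-- a chunk of the certificate -/
def steps16 : List (Vec × How) :=
  [([(816, 1), (561, 1), (612, 1)], .tr 451 1 [(816, 163), (612, 112), (561, 178)]),
     ([(789, 1), (496, 1), (645, 1)], .tr 453 1 [(789, 31), (645, 119), (496, 91)]),
     ([(579, 1), (841, 1), (513, 1)], .tr 454 1 [(513, 122), (579, 124), (841, 18)]),
     ([(789, 1), (653, 1), (564, 1)], .tr 457 0 [(564, 0), (789, 0), (653, 1)]),
     ([(731, 1), (710, 1), (705, 1)], .tr 457 1 [(710, 150), (731, 177), (705, 111)]),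
     ([(814, 1), (500, 1), (842, 1)], .tr 458 0 [(814, 45), (500, 104), (842, 0)]),
     ([(832, 1), (843, 1), (673, 1)], .tr 459 1 [(832, 108), (673, 88), (843, 181)]),
     ([(575, 1), (508, 1), (609, 1)], .tr 460 0 [(575, 7), (609, 65), (508, 88)]),
     ([(13, 1), (583, 1), (844, 1)], .tr 460 1 [(583, 75), (844, 162), (13, 124)]),
     ([(435, 1), (498, 1), (841, 1)], .tr 461 1 [(435, 176), (841, 18), (498, 148)]),
     ([(581, 1), (578, 1), (2, 1)], .tr 462 1 [(2, 169), (581, 8), (578, 25)]),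
     ([(574, 1), (625, 1), (3, 1)], .tr 463 0 [(574, 0), (625, 125), (3, 143)]),
     ([(837, 1), (845, 1), (846, 1)], .tr 464 1 [(837, 67), (845, 96), (846, 132)]),
     ([(622, 1), (847, 1), (848, 1)], .tr 466 1 [(848, 119), (847, 124), (622, 93)]),
     ([(6, 1), (686, 1), (591, 1)], .tr 467 1 [(686, 6), (591, 180), (6, 188)]),
     ([(849, 1), (850, 1), (628, 1)], .tr 470 1 [(628, 49), (849, 73), (850, 182)]),
     ([(499, 1), (558, 1), (819, 1)], .tr 471 1 [(558, 131), (819, 118), (499, 160)]),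
     ([(851, 1), (852, 1), (623, 1)], .tr 472 1 [(623, 27), (851, 101), (852, 10)]),
     ([(4, 1), (853, 1), (663, 1)], .tr 473 1 [(663, 101), (853, 147), (4, 124)]),
     ([(5, 1), (704, 1), (854, 1)], .tr 474 1 [(854, 75), (5, 20), (704, 9)]),
     ([(851, 1), (9, 1), (669, 1)], .tr 475 0 [(9, 7), (851, 0), (669, 74)]),
     ([(12, 1), (855, 1), (856, 1)], .tr 475 1 [(12, 106), (855, 0), (856, 2)]),
     ([(844, 1), (857, 1), (858, 1)], .tr 478 1 [(857, 114), (844, 162), (858, 174)]),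
     ([(501, 1), (804, 1), (510, 1)], .tr 482 0 [(501, 47), (510, 13), (804, 4)]),
     ([(15, 1), (848, 1), (859, 1)], .tr 482 1 [(859, 142), (15, 114), (848, 119)]),
     ([(481, 1), (478, 1), (233, 1)], .tr 483 0 [(481, 0), (233, 31), (478, 0)]),
     ([(483, 1), (82, 1), (570, 1)], .tr 483 1 [(570, 91), (82, 191), (483, 135)]),
     ([(193, 1), (632, 1), (716, 1)], .tr 487 0 [(193, 1), (716, 172), (632, 51)]),
     ([(255, 1), (604, 1), (333, 1)], .tr 488 0 [(255, 145), (333, 37), (604, 17)]),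
     ([(860, 1), (709, 1), (861, 1)], .tr 490 1 [(860, 158), (709, 66), (861, 75)]),
     ([(862, 1), (844, 1), (685, 1)], .tr 491 1 [(862, 34), (844, 162), (685, 5)]),
     ([(863, 1), (589, 1), (864, 1)], .tr 493 1 [(864, 165), (589, 147), (863, 182)])]

/-- a chunk of the certificate -/
def steps17 : List (Vec × How) :=
  [([(421, 1), (865, 1), (71, 1)], .tr 494 1 [(71, 35), (421, 2), (865, 39)]),
     ([(329, 1), (866, 1), (602, 1)], .tr 495 0 [(329, 0), (602, 0), (866, 66)]),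
     ([(598, 1), (105, 1), (856, 1)], .tr 496 0 [(598, 16), (105, 39), (856, 102)]),
     ([(256, 1), (603, 1), (708, 1)], .tr 497 0 [(708, 133), (603, 92), (256, 7)]),
     ([(732, 1), (867, 1), (672, 1)], .tr 498 0 [(732, 0), (867, 160), (672, 12)]),
     ([(756, 1), (273, 1), (642, 1)], .tr 498 1 [(273, 170), (756, 188), (642, 157)]),
     ([(868, 1), (823, 1), (854, 1)], .tr 501 1 [(823, 26), (868, 152), (854, 75)]),
     ([(14, 1), (869, 1), (614, 1)], .tr 503 1 [(869, 116), (614, 11), (14, 180)]),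
     ([(258, 1), (104, 1), (870, 1)], .tr 505 0 [(870, 9), (258, 0), (104, 130)]),
     ([(826, 1), (693, 1), (591, 1)], .tr 506 1 [(826, 181), (693, 180), (591, 180)]),
     ([(871, 1), (709, 1), (662, 1)], .tr 507 1 [(662, 180), (709, 66), (871, 186)]),
     ([(732, 1), (406, 1), (872, 1)], .tr 510 0 [(406, 0), (732, 0), (872, 53)]),
     ([(11, 1), (410, 1), (149, 1)], .tr 511 0 [(410, 0), (11, 20), (149, 101)]),
     ([(0, 1), (873, 1), (615, 1)], .tr 513 1 [(0, 173), (615, 165), (873, 114)]),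
     ([(14, 1), (874, 1), (875, 1)], .tr 514 1 [(875, 177), (874, 151), (14, 180)]),
     ([(0, 1), (876, 1), (668, 1)], .tr 515 1 [(0, 173), (876, 83), (668, 182)]),
     ([(731, 1), (687, 1), (617, 1)], .tr 517 1 [(731, 177), (617, 92), (687, 179)]),
     ([(871, 1), (860, 1), (877, 1)], .tr 519 1 [(860, 158), (871, 186), (877, 14)]),
     ([(839, 1), (874, 1), (614, 1)], .tr 521 1 [(839, 147), (614, 11), (874, 151)]),
     ([(661, 1), (846, 1), (616, 1)], .tr 528 1 [(616, 99), (661, 113), (846, 132)]),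
     ([(743, 1), (878, 1), (143, 1)], .tr 529 1 [(878, 0), (743, 124), (143, 88)]),
     ([(10, 1), (879, 1), (706, 1)], .tr 530 1 [(10, 183), (879, 0), (706, 186)]),
     ([(11, 1), (701, 1), (699, 1)], .tr 531 1 [(11, 0), (701, 132), (699, 172)]),
     ([(880, 1), (547, 1), (24, 1)], .tr 533 1 [(24, 44), (880, 41), (547, 23)]),
     ([(843, 1), (834, 1), (618, 1)], .tr 535 1 [(618, 86), (834, 162), (843, 181)]),
     ([(739, 1), (694, 1), (881, 1)], .tr 539 0 [(739, 1), (694, 66), (881, 40)]),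
     ([(695, 1), (390, 1), (72, 1)], .tr 542 1 [(695, 116), (72, 71), (390, 99)]),
     ([(882, 1), (128, 1), (47, 1)], .tr 544 1 [(882, 0), (47, 168), (128, 88)]),
     ([(46, 1), (680, 1), (453, 1)], .tr 545 1 [(453, 148), (46, 177), (680, 97)]),
     ([(169, 1), (547, 1), (678, 1)], .tr 546 1 [(678, 173), (169, 112), (547, 23)]),
     ([(28, 1), (883, 1), (726, 1)], .tr 548 1 [(28, 0), (726, 118), (883, 167)]),
     ([(855, 1), (723, 1), (105, 1)], .tr 553 1 [(855, 0), (723, 0), (105, 174)])]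

/-- a chunk of the certificate -/
def steps18 : List (Vec × How) :=
  [([(28, 1), (448, 1), (884, 1)], .tr 555 1 [(28, 0), (448, 33), (884, 163)]),
     ([(538, 1), (23, 1), (219, 1)], .tr 556 1 [(23, 177), (538, 75), (219, 145)]),
     ([(328, 1), (707, 1), (689, 1)], .tr 563 1 [(707, 0), (328, 136), (689, 112)]),
     ([(528, 1), (20, 1), (729, 1)], .tr 566 0 [(20, 59), (729, 111), (528, 32)]),
     ([(307, 1), (185, 1), (715, 1)], .tr 573 0 [(185, 0), (307, 1), (715, 21)]),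
     ([(849, 1), (710, 1), (885, 1), (663, 1), (824, 1), (864, 1), (858, 1)], .kill 0 [([], [(885, 152), (864, 32), (710, 82), (849, 47), (663, 85), (858, 19), (824, 90)]), ([], [(849, 189), (885, 111), (710, 142), (864, 100), (824, 189), (663, 131), (858, 9)])]),
     ([(601, 1), (886, 1), (258, 1), (598, 1), (706, 1), (64, 1), (887, 1)], .tr 581 1 [(258, 13), (601, 164), (598, 23), (706, 186), (887, 143), (64, 8), (886, 1)]),
     ([(163, 1), (171, 1), (452, 1), (351, 1), (116, 1), (888, 1), (889, 1)], .tr 582 0 [(452, 8), (163, 2), (171, 0), (351, 4), (889, 0), (116, 0), (888, 109)]),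
     ([(482, 1), (719, 1), (184, 1), (480, 1), (38, 1), (741, 1), (234, 1)], .tr 583 0 [(234, 0), (184, 0), (482, 8), (480, 67), (38, 0), (741, 82), (719, 103)]),
     ([(67, 1), (320, 1), (890, 1), (605, 1), (283, 1), (891, 1), (261, 1)], .tr 584 1 [(605, 17), (890, 85), (261, 67), (891, 181), (67, 37), (283, 42), (320, 58)]),
     ([(241, 1), (124, 1), (355, 1), (760, 1), (745, 1), (795, 1), (752, 1)], .tr 585 1 [(124, 187), (752, 141), (241, 178), (760, 178), (745, 33), (795, 121), (355, 152)]),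
     ([(274, 1), (436, 1), (488, 1), (192, 1), (766, 1), (336, 1), (892, 1)], .tr 586 1 [(336, 145), (192, 164), (488, 134), (274, 59), (436, 51), (892, 181), (766, 80)]),
     ([(432, 1), (535, 1), (458, 1), (491, 1), (270, 1), (378, 1), (787, 1)], .tr 587 1 [(378, 109), (535, 176), (491, 134), (270, 65), (787, 91), (458, 104), (432, 51)]),
     ([(664, 1), (608, 1), (643, 1), (558, 1), (576, 1), (510, 1), (371, 1)], .tr 588 1 [(558, 131), (643, 182), (576, 100), (608, 124), (371, 9), (510, 189), (664, 30)]),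
     ([(409, 1), (301, 1), (522, 1), (478, 1), (349, 1), (240, 1), (330, 1), (450, 1), (391, 1), (352, 1), (600, 1), (261, 1)], .kill 2 [([], [(522, 0), (409, 0), (301, 0), (600, 1), (478, 0), (330, 0), (450, 1), (240, 1), (261, 29), (391, 0), (349, 1), (352, 31)]), ([], [(330, 1), (352, 0), (478, 57), (391, 80), (240, 47), (261, 45), (600, 29), (301, 0), (522, 0), (450, 0), (409, 59), (349, 8)])]),
     ([(451, 1), (483, 1), (677, 1), (355, 1), (540, 1), (412, 1), (631, 1), (566, 1), (778, 1), (332, 1), (525, 1), (486, 1)], .tr 590 1 [(540, 0), (412, 0), (631, 160), (778, 50), (483, 135), (332, 156), (451, 156), (566, 173), (525, 104), (486, 128), (677, 83), (355, 152)]),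
     ([(481, 1), (671, 1), (602, 1), (780, 1), (756, 1), (696, 1), (647, 1), (717, 1), (333, 1), (829, 1), (635, 1), (357, 1)], .tr 591 0 [(481, 0), (602, 0), (717, 37), (780, 0), (647, 131), (756, 109), (696, 0), (671, 163), (333, 37), (829, 1), (635, 0), (357, 30)]),
     ([(718, 1), (641, 1), (759, 1), (649, 1), (779, 1), (757, 1), (455, 1), (570, 1), (604, 1), (532, 1), (488, 1), (805, 1)], .tr 591 1 [(570, 91), (604, 12), (718, 159), (488, 134), (649, 94), (757, 12), (779, 183), (641, 123), (805, 96), (455, 61), (759, 81), (532, 45)]),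
     ([(798, 1), (893, 1), (603, 1), (856, 1), (453, 1), (726, 1), (484, 1), (714, 1), (797, 1), (891, 1), (799, 1), (781, 1)], .tr 592 0 [(603, 92), (714, 110), (453, 52), (484, 113), (893, 0), (726, 37), (798, 94), (856, 102), (799, 0), (891, 1), (781, 56), (797, 135)]),
     ([(830, 1), (727, 1), (454, 1), (680, 1), (487, 1), (529, 1), (606, 1), (402, 1), (634, 1), (894, 1), (312, 1), (415, 1)], .tr 592 1 [(606, 0), (830, 149), (680, 97), (402, 124), (634, 43), (727, 75), (894, 189), (529, 58), (454, 144), (312, 102), (415, 10), (487, 29)]),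
     ([(895, 1), (226, 1), (700, 1), (708, 1), (397, 1), (605, 1), (523, 1), (414, 1), (456, 1), (297, 1), (489, 1), (305, 1)], .tr 593 0 [(708, 133), (397, 7), (305, 164), (700, 0), (414, 24), (523, 48), (456, 75), (895, 61), (605, 0), (297, 113), (489, 106), (226, 84)]),
     ([(754, 1), (896, 1), (897, 1), (571, 1), (780, 1), (442, 1), (748, 1), (337, 1), (799, 1), (369, 1), (122, 1), (491, 1)], .tr 593 1 [(748, 162), (896, 169), (369, 117), (799, 134), (780, 12), (337, 50), (571, 167), (122, 160), (754, 178), (442, 48), (491, 134), (897, 17)]),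
     ([(547, 1), (638, 1), (725, 1), (310, 1), (646, 1), (681, 1), (568, 1), (400, 1), (795, 1), (339, 1), (534, 1), (775, 1)], .tr 594 1 [(725, 118), (775, 0), (681, 102), (547, 23), (568, 3), (646, 154), (534, 61), (638, 113), (400, 62), (795, 121), (310, 27), (339, 133)]),
     ([(774, 1), (572, 1), (232, 1), (300, 1), (717, 1), (811, 1), (753, 1), (793, 1), (543, 1), (636, 1), (492, 1), (416, 1)], .tr 595 1 [(300, 61), (717, 2), (572, 102), (232, 158), (492, 187), (753, 19), (774, 98), (793, 45), (416, 50), (636, 36), (811, 38), (543, 164)]),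
     ([(749, 1), (490, 1), (760, 1), (573, 1), (898, 1), (827, 1), (315, 1), (713, 1), (405, 1), (420, 1), (781, 1), (800, 1)], .tr 596 1 [(898, 110), (315, 112), (713, 110), (749, 84), (827, 190), (760, 178), (800, 156), (781, 66), (573, 99), (405, 27), (490, 121), (420, 55)]),
     ([(767, 1), (176, 1), (100, 1), (596, 1), (746, 1), (484, 1), (334, 1), (778, 1), (440, 1), (382, 1), (153, 1), (366, 1)], .tr 597 0 [(176, 0), (746, 173), (596, 68), (767, 5), (484, 113), (440, 169), (153, 159), (334, 7), (778, 37), (366, 164), (100, 58), (382, 62)]),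
     ([(562, 1), (431, 1), (275, 1), (460, 1), (187, 1), (242, 1), (310, 1), (499, 1), (343, 1), (267, 1), (402, 1), (608, 1)], .tr 597 1 [(275, 102), (267, 118), (431, 141), (343, 66), (402, 124), (562, 89), (242, 115), (460, 125), (310, 27), (499, 160), (187, 51), (608, 124)]),
     ([(878, 1), (867, 1), (698, 1), (307, 1), (296, 1), (632, 1), (569, 1), (485, 1), (336, 1), (533, 1), (783, 1), (228, 1)], .tr 598 0 [(307, 1), (698, 20), (632, 51), (783, 144), (867, 160), (569, 0), (878, 0), (533, 18), (228, 35), (336, 139), (296, 84), (485, 42)]),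
     ([(756, 1), (655, 1), (121, 1), (802, 1), (233, 1), (769, 1), (401, 1), (444, 1), (899, 1), (648, 1), (892, 1), (462, 1)], .tr 598 1 [(655, 178), (899, 0), (648, 122), (769, 106), (756, 188), (233, 147), (121, 21), (802, 27), (892, 181), (462, 125), (444, 12), (401, 112)]),
     ([(743, 1), (314, 1), (418, 1), (856, 1), (408, 1), (900, 1), (777, 1), (177, 1), (404, 1), (901, 1), (902, 1), (383, 1)], .tr 599 0 [(177, 123), (777, 65), (743, 149), (408, 126), (856, 102), (314, 168), (901, 164), (404, 92), (418, 113), (902, 82), (383, 45), (900, 13)]),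
     ([(276, 1), (463, 1), (354, 1), (321, 1), (529, 1), (344, 1), (324, 1), (542, 1), (654, 1), (609, 1), (821, 1), (417, 1)], .tr 599 1 [(276, 114), (344, 136), (321, 153), (354, 155), (529, 58), (463, 49), (324, 99), (821, 41), (654, 113), (417, 53), (609, 100), (542, 150)]),
     ([(290, 1), (175, 1), (429, 1), (567, 1), (903, 1), (536, 1), (183, 1), (494, 1), (525, 1), (812, 1), (306, 1), (384, 1)], .tr 600 0 [(290, 0), (384, 0), (175, 0), (812, 11), (183, 9), (903, 31), (429, 31), (567, 63), (536, 68), (494, 25), (525, 75), (306, 90)])]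

/-- a chunk of the certificate -/
def steps19 : List (Vec × How) :=
  [([(637, 1), (478, 1), (54, 1), (274, 1), (607, 1), (368, 1), (836, 1), (546, 1), (339, 1), (381, 1), (280, 1), (345, 1)], .tr 600 1 [(478, 155), (607, 6), (274, 59), (345, 112), (54, 179), (280, 122), (381, 141), (637, 37), (836, 48), (546, 100), (339, 133), (368, 1)]),
     ([(514, 1), (559, 1), (554, 1), (497, 1), (459, 1), (805, 1), (363, 1), (222, 1), (249, 1), (534, 1), (471, 1), (168, 1)], .tr 601 1 [(471, 28), (249, 0), (168, 53), (554, 67), (363, 174), (534, 61), (459, 91), (805, 96), (559, 181), (514, 131), (222, 83), (497, 89)]),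
     ([(220, 1), (248, 1), (361, 1), (469, 1), (553, 1), (560, 1), (532, 1), (458, 1), (783, 1), (498, 1), (166, 1), (516, 1)], .tr 602 0 [(560, 78), (553, 0), (248, 104), (458, 68), (166, 1), (220, 0), (783, 144), (498, 69), (469, 38), (361, 182), (532, 40), (516, 70)]),
     ([(669, 1), (616, 1), (864, 1), (556, 1), (769, 1), (334, 1), (577, 1), (377, 1), (473, 1), (793, 1), (263, 1), (366, 1)], .tr 602 1 [(669, 90), (556, 12), (377, 116), (577, 109), (263, 14), (334, 14), (769, 106), (616, 99), (473, 122), (366, 92), (793, 45), (864, 165)]),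
     ([(421, 1), (527, 1), (538, 1), (295, 1), (694, 1), (855, 1), (227, 1), (679, 1), (356, 1), (244, 1), (311, 1), (401, 1)], .tr 603 0 [(679, 5), (538, 156), (527, 7), (421, 1), (401, 71), (694, 66), (855, 0), (356, 182), (244, 87), (295, 13), (227, 175), (311, 152)]),
     ([(755, 1), (904, 1), (313, 1), (443, 1), (905, 1), (726, 1), (458, 1), (906, 1), (425, 1), (533, 1), (404, 1), (123, 1)], .tr 603 1 [(755, 173), (726, 118), (905, 80), (425, 1), (404, 73), (906, 101), (123, 185), (533, 146), (458, 104), (443, 81), (904, 48), (313, 109)]),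
     ([(907, 1), (879, 1), (893, 1), (403, 1), (595, 1), (101, 1), (315, 1), (689, 1), (457, 1), (426, 1), (441, 1), (534, 1)], .tr 604 0 [(893, 0), (689, 55), (101, 0), (403, 35), (907, 59), (315, 121), (534, 16), (441, 186), (426, 20), (879, 140), (595, 70), (457, 40)]),
     ([(563, 1), (319, 1), (475, 1), (432, 1), (908, 1), (464, 1), (189, 1), (909, 1), (578, 1), (634, 1), (203, 1), (831, 1)], .tr 604 1 [(634, 43), (203, 33), (189, 163), (831, 67), (319, 58), (464, 188), (909, 30), (563, 141), (475, 137), (908, 82), (432, 51), (578, 25)]),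
     ([(218, 1), (677, 1), (160, 1), (427, 1), (165, 1), (745, 1), (304, 1), (535, 1), (495, 1), (524, 1), (766, 1), (359, 1)], .tr 605 0 [(165, 6), (427, 0), (495, 65), (677, 179), (218, 99), (304, 0), (766, 1), (160, 116), (535, 1), (745, 105), (524, 175), (359, 59)]),
     ([(547, 1), (19, 1), (247, 1), (379, 1), (449, 1), (470, 1), (515, 1), (367, 1), (545, 1), (338, 1), (822, 1), (281, 1)], .tr 605 1 [(19, 6), (379, 102), (545, 26), (547, 23), (449, 66), (367, 167), (470, 134), (247, 144), (822, 88), (281, 163), (338, 71), (515, 118)]),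
     ([(641, 1), (436, 1), (254, 1), (610, 1), (514, 1), (419, 1), (643, 1), (249, 1), (551, 1), (393, 1), (471, 1), (800, 1)], .tr 606 0 [(249, 180), (551, 60), (393, 0), (254, 59), (641, 7), (471, 92), (436, 56), (419, 184), (610, 191), (514, 25), (643, 127), (800, 45)]),
     ([(877, 1), (910, 1), (686, 1), (580, 1), (484, 1), (541, 1), (750, 1), (472, 1), (376, 1), (653, 1), (440, 1), (753, 1)], .tr 606 1 [(376, 179), (580, 54), (484, 82), (750, 157), (753, 19), (472, 89), (440, 72), (653, 32), (910, 42), (877, 14), (686, 6), (541, 50)]),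
     ([(388, 1), (670, 1), (866, 1), (769, 1), (911, 1), (541, 1), (909, 1), (761, 1), (635, 1), (161, 1), (360, 1), (417, 1)], .tr 607 0 [(388, 0), (161, 29), (769, 189), (670, 174), (911, 189), (909, 3), (866, 66), (541, 1), (635, 0), (761, 140), (417, 184), (360, 117)]),
     ([(640, 1), (759, 1), (437, 1), (418, 1), (248, 1), (391, 1), (255, 1), (469, 1), (611, 1), (550, 1), (644, 1), (516, 1)], .tr 607 1 [(391, 61), (248, 31), (550, 141), (640, 21), (437, 144), (644, 177), (255, 76), (611, 85), (759, 81), (469, 44), (418, 111), (516, 6)]),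
     ([(697, 1), (18, 1), (247, 1), (600, 1), (470, 1), (515, 1), (557, 1), (472, 1), (336, 1), (378, 1), (365, 1), (264, 1)], .tr 608 0 [(697, 1), (600, 1), (18, 66), (247, 112), (515, 132), (365, 87), (472, 0), (557, 125), (336, 139), (378, 2), (264, 5), (470, 93)]),
     ([(734, 1), (869, 1), (854, 1), (500, 1), (96, 1), (744, 1), (778, 1), (512, 1), (474, 1), (378, 1), (382, 1), (462, 1)], .tr 608 1 [(744, 0), (778, 50), (96, 59), (378, 109), (734, 124), (500, 142), (869, 116), (854, 75), (462, 125), (512, 115), (382, 142), (474, 133)]),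
     ([(845, 1), (623, 1), (613, 1), (897, 1), (236, 1), (575, 1), (494, 1), (444, 1), (341, 1), (588, 1), (659, 1), (306, 1)], .tr 609 1 [(623, 27), (845, 96), (659, 180), (613, 156), (575, 71), (897, 17), (494, 123), (306, 41), (341, 144), (444, 12), (588, 67), (236, 160)]),
     ([(862, 1), (622, 1), (614, 1), (904, 1), (235, 1), (442, 1), (587, 1), (340, 1), (658, 1), (304, 1), (495, 1), (576, 1)], .tr 610 1 [(304, 131), (340, 165), (495, 180), (587, 134), (658, 120), (862, 34), (442, 48), (576, 100), (904, 48), (614, 11), (235, 149), (622, 93)]),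
     ([(844, 1), (711, 1), (859, 1), (517, 1), (278, 1), (820, 1), (315, 1), (246, 1), (434, 1), (404, 1), (270, 1), (200, 1)], .tr 611 0 [(711, 0), (859, 122), (844, 26), (434, 24), (315, 121), (246, 130), (517, 122), (278, 157), (820, 10), (404, 92), (200, 13), (270, 7)]),
     ([(662, 1), (589, 1), (735, 1), (670, 1), (64, 1), (689, 1), (464, 1), (497, 1), (459, 1), (509, 1), (821, 1), (360, 1)], .tr 611 1 [(670, 73), (689, 112), (64, 8), (662, 180), (464, 188), (459, 91), (735, 10), (509, 116), (589, 147), (821, 41), (360, 138), (497, 89)]),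
     ([(880, 1), (882, 1), (838, 1), (314, 1), (912, 1), (403, 1), (234, 1), (651, 1), (728, 1), (909, 1), (489, 1), (782, 1)], .tr 612 1 [(882, 0), (838, 0), (651, 10), (403, 55), (728, 22), (880, 41), (314, 105), (234, 162), (489, 164), (782, 43), (912, 11), (909, 30)]),
     ([(295, 1), (742, 1), (439, 1), (631, 1), (913, 1), (428, 1), (182, 1), (386, 1), (413, 1), (535, 1), (102, 1), (597, 1)], .tr 613 0 [(182, 81), (597, 70), (428, 96), (439, 7), (913, 0), (631, 37), (386, 189), (413, 108), (742, 142), (295, 13), (535, 1), (102, 106)]),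
     ([(52, 1), (430, 1), (188, 1), (443, 1), (89, 1), (646, 1), (797, 1), (380, 1), (503, 1), (564, 1), (822, 1), (576, 1)], .tr 613 1 [(52, 79), (430, 100), (380, 20), (564, 155), (89, 188), (646, 154), (576, 100), (797, 111), (503, 42), (443, 81), (822, 88), (188, 190)]),
     ([(164, 1), (539, 1), (296, 1), (738, 1), (327, 1), (412, 1), (773, 1), (385, 1), (429, 1), (68, 1), (810, 1), (537, 1)], .tr 614 0 [(164, 47), (539, 56), (412, 99), (537, 32), (773, 0), (68, 88), (429, 31), (738, 59), (385, 61), (810, 0), (327, 18), (296, 84)]),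
     ([(724, 1), (574, 1), (21, 1), (209, 1), (555, 1), (561, 1), (804, 1), (444, 1), (504, 1), (381, 1), (167, 1), (775, 1)], .tr 614 1 [(21, 70), (724, 96), (775, 0), (804, 95), (555, 36), (167, 121), (381, 141), (209, 156), (574, 179), (504, 142), (561, 178), (444, 12)]),
     ([(518, 1), (593, 1), (255, 1), (559, 1), (757, 1), (554, 1), (283, 1), (906, 1), (550, 1), (405, 1), (644, 1), (168, 1)], .tr 615 0 [(559, 78), (255, 145), (593, 5), (554, 112), (906, 161), (550, 145), (168, 135), (405, 121), (518, 135), (757, 164), (283, 1), (644, 10)]),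
     ([(868, 1), (667, 1), (685, 1), (596, 1), (746, 1), (842, 1), (635, 1), (758, 1), (582, 1), (558, 1), (416, 1), (264, 1)], .tr 615 1 [(667, 106), (758, 100), (596, 57), (558, 131), (635, 18), (582, 71), (264, 131), (842, 14), (868, 152), (416, 50), (746, 100), (685, 5)]),
     ([(623, 1), (824, 1), (896, 1), (684, 1), (544, 1), (535, 1), (626, 1), (368, 1), (347, 1), (524, 1), (341, 1), (588, 1)], .tr 618 1 [(896, 169), (535, 176), (347, 110), (684, 159), (623, 27), (544, 141), (824, 0), (341, 144), (626, 72), (524, 158), (588, 67), (368, 1)]),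
     ([(832, 1), (704, 1), (914, 1), (467, 1), (326, 1), (355, 1), (279, 1), (807, 1), (374, 1), (612, 1), (901, 1), (420, 1)], .tr 619 0 [(832, 74), (704, 0), (914, 118), (467, 7), (355, 91), (420, 39), (374, 139), (807, 146), (279, 143), (612, 180), (326, 186), (901, 164)]),
     ([(876, 1), (388, 1), (590, 1), (675, 1), (798, 1), (65, 1), (559, 1), (508, 1), (652, 1), (761, 1), (324, 1), (534, 1)], .tr 619 1 [(65, 11), (798, 107), (388, 115), (675, 65), (534, 61), (652, 96), (761, 59), (590, 120), (508, 159), (876, 83), (559, 181), (324, 99)]),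
     ([(522, 1), (46, 1), (230, 1), (464, 1), (889, 1), (842, 1), (652, 1), (541, 1), (323, 1), (415, 1), (784, 1), (825, 1)], .tr 620 1 [(522, 61), (889, 17), (46, 177), (464, 188), (323, 89), (652, 96), (842, 14), (784, 91), (415, 10), (230, 106), (825, 35), (541, 50)]),
     ([(526, 1), (30, 1), (197, 1), (349, 1), (277, 1), (433, 1), (807, 1), (244, 1), (269, 1), (252, 1), (201, 1), (790, 1)], .tr 622 0 [(526, 1), (30, 184), (197, 2), (349, 1), (252, 38), (790, 161), (433, 127), (807, 146), (244, 87), (277, 146), (269, 120), (201, 5)])]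

/-- a chunk of the certificate -/
def steps20 : List (Vec × How) :=
  [([(663, 1), (590, 1), (624, 1), (677, 1), (31, 1), (586, 1), (888, 1), (458, 1), (359, 1), (342, 1), (498, 1), (510, 1)], .tr 622 1 [(888, 163), (31, 108), (342, 130), (677, 83), (586, 10), (624, 140), (663, 101), (590, 120), (458, 104), (510, 189), (498, 148), (359, 109)]),
     ([(13, 1), (617, 1), (866, 1), (591, 1), (66, 1), (699, 1), (514, 1), (578, 1), (805, 1), (161, 1), (477, 1), (510, 1)], .tr 623 1 [(66, 0), (866, 84), (699, 172), (617, 92), (161, 52), (477, 137), (805, 96), (13, 124), (591, 180), (510, 189), (514, 131), (578, 25)]),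
     ([(325, 1), (860, 1), (703, 1), (915, 1), (143, 1), (407, 1), (563, 1), (431, 1), (468, 1), (418, 1), (696, 1), (611, 1)], .tr 624 1 [(696, 80), (143, 88), (407, 134), (431, 141), (325, 51), (860, 158), (611, 85), (563, 141), (468, 70), (915, 71), (703, 12), (418, 111)]),
     ([(466, 1), (916, 1), (914, 1), (705, 1), (562, 1), (695, 1), (430, 1), (326, 1), (144, 1), (419, 1), (408, 1), (612, 1)], .tr 625 1 [(695, 116), (144, 0), (408, 0), (430, 100), (326, 84), (562, 89), (914, 0), (466, 0), (705, 111), (419, 89), (612, 112), (916, 91)]),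
     ([(851, 1), (629, 1), (848, 1), (72, 1), (602, 1), (792, 1), (917, 1), (816, 1), (806, 1), (822, 1), (381, 1), (371, 1)], .tr 626 1 [(72, 71), (602, 108), (917, 77), (629, 122), (816, 163), (848, 119), (381, 141), (806, 163), (851, 101), (822, 88), (371, 9), (792, 103)]),
     ([(691, 1), (833, 1), (738, 1), (490, 1), (828, 1), (116, 1), (858, 1), (713, 1), (643, 1), (550, 1), (387, 1), (808, 1)], .tr 627 0 [(833, 106), (858, 31), (691, 125), (713, 162), (116, 0), (738, 59), (550, 145), (828, 182), (387, 106), (808, 11), (643, 127), (490, 117)]),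
     ([(849, 1), (613, 1), (686, 1), (575, 1), (103, 1), (119, 1), (150, 1), (889, 1), (708, 1), (209, 1), (582, 1), (825, 1)], .tr 627 1 [(708, 0), (103, 43), (150, 20), (889, 17), (119, 19), (209, 156), (582, 71), (613, 156), (575, 71), (849, 73), (686, 6), (825, 35)]),
     ([(918, 1), (886, 1), (313, 1), (427, 1), (181, 1), (701, 1), (650, 1), (870, 1), (487, 1), (806, 1), (405, 1), (537, 1)], .tr 628 0 [(181, 115), (918, 0), (870, 9), (427, 0), (313, 170), (537, 32), (886, 2), (701, 142), (650, 183), (405, 121), (487, 1), (806, 29)]),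
     ([(254, 1), (779, 1), (403, 1), (592, 1), (553, 1), (560, 1), (284, 1), (643, 1), (519, 1), (902, 1), (551, 1), (166, 1)], .tr 629 1 [(403, 55), (592, 53), (560, 48), (779, 183), (284, 64), (551, 17), (254, 24), (519, 11), (902, 156), (643, 182), (166, 22), (553, 40)]),
     ([(867, 1), (17, 1), (439, 1), (148, 1), (555, 1), (561, 1), (377, 1), (582, 1), (486, 1), (474, 1), (752, 1), (167, 1)], .tr 630 0 [(17, 7), (555, 78), (167, 5), (439, 7), (148, 156), (867, 160), (486, 124), (377, 19), (752, 132), (561, 78), (474, 0), (582, 173)]),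
     ([(916, 1), (668, 1), (767, 1), (756, 1), (94, 1), (511, 1), (919, 1), (557, 1), (400, 1), (564, 1), (262, 1), (153, 1)], .tr 630 1 [(94, 0), (557, 0), (262, 81), (564, 155), (153, 14), (756, 188), (400, 62), (511, 116), (767, 129), (668, 182), (919, 14), (916, 91)]),
     ([(740, 1), (518, 1), (82, 1), (650, 1), (757, 1), (550, 1), (404, 1), (796, 1), (125, 1), (594, 1), (447, 1), (645, 1)], .tr 631 1 [(82, 191), (650, 113), (404, 73), (740, 75), (447, 177), (757, 12), (796, 155), (518, 177), (550, 141), (125, 40), (594, 171), (645, 119)]),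
     ([(673, 1), (661, 1), (687, 1), (390, 1), (671, 1), (149, 1), (554, 1), (776, 1), (542, 1), (363, 1), (359, 1), (415, 1)], .tr 634 1 [(149, 0), (671, 73), (390, 99), (554, 67), (363, 174), (687, 179), (415, 10), (776, 47), (673, 88), (661, 113), (542, 150), (359, 109)]),
     ([(853, 1), (871, 1), (845, 1), (867, 1), (411, 1), (725, 1), (522, 1), (104, 1), (118, 1), (440, 1), (444, 1), (784, 1)], .tr 637 1 [(867, 0), (522, 61), (104, 54), (411, 175), (725, 118), (118, 61), (845, 96), (871, 186), (853, 147), (784, 91), (440, 72), (444, 12)]),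
     ([(730, 1), (826, 1), (837, 1), (918, 1), (42, 1), (483, 1), (277, 1), (794, 1), (789, 1), (772, 1), (782, 1), (372, 1)], .tr 639 1 [(918, 0), (42, 40), (277, 163), (483, 135), (789, 31), (826, 181), (837, 67), (782, 43), (372, 115), (794, 96), (772, 64), (730, 56)]),
     ([(26, 1), (843, 1), (868, 1), (623, 1), (897, 1), (46, 1), (230, 1), (120, 1), (690, 1), (105, 1), (813, 1), (597, 1)], .tr 641 1 [(26, 0), (690, 117), (46, 177), (105, 174), (120, 57), (813, 141), (623, 27), (868, 152), (897, 17), (230, 106), (597, 74), (843, 181)]),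
     ([(862, 1), (673, 1), (217, 1), (615, 1), (443, 1), (559, 1), (553, 1), (210, 1), (726, 1), (495, 1), (576, 1), (660, 1)], .tr 642 0 [(443, 0), (673, 20), (862, 42), (615, 36), (210, 106), (217, 0), (559, 78), (553, 0), (576, 68), (495, 65), (726, 37), (660, 139)]),
     ([(667, 1), (584, 1), (683, 1), (450, 1), (556, 1), (445, 1), (154, 1), (600, 1), (727, 1), (702, 1), (213, 1), (545, 1)], .tr 642 1 [(445, 0), (600, 7), (702, 0), (154, 20), (213, 109), (450, 61), (667, 106), (556, 12), (584, 143), (545, 26), (727, 75), (683, 56)]),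
     ([(682, 1), (669, 1), (585, 1), (599, 1), (449, 1), (700, 1), (544, 1), (211, 1), (156, 1), (729, 1), (557, 1), (446, 1)], .tr 643 1 [(585, 91), (599, 122), (156, 23), (700, 168), (669, 90), (729, 10), (557, 0), (446, 0), (211, 97), (544, 141), (449, 66), (682, 160)]),
     ([(871, 1), (914, 1), (685, 1), (49, 1), (719, 1), (468, 1), (580, 1), (830, 1), (120, 1), (59, 1), (85, 1), (819, 1)], .tr 646 0 [(871, 1), (685, 0), (914, 118), (580, 0), (120, 124), (59, 3), (49, 53), (719, 103), (830, 33), (85, 24), (468, 35), (819, 123)]),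
     ([(865, 1), (163, 1), (809, 1), (802, 1), (917, 1), (702, 1), (428, 1), (729, 1), (920, 1), (536, 1), (488, 1), (811, 1)], .tr 647 0 [(917, 178), (163, 2), (428, 96), (811, 159), (865, 149), (729, 111), (702, 19), (809, 9), (488, 75), (920, 29), (536, 68), (802, 22)]),
     ([(317, 1), (271, 1), (138, 1), (666, 1), (139, 1), (586, 1), (626, 1), (524, 1), (341, 1), (414, 1), (348, 1), (537, 1)], .tr 648 0 [(271, 71), (414, 24), (537, 32), (348, 26), (317, 78), (666, 92), (139, 181), (586, 158), (626, 149), (524, 175), (341, 10), (138, 2)]),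
     ([(15, 1), (668, 1), (663, 1), (160, 1), (599, 1), (802, 1), (672, 1), (747, 1), (358, 1), (634, 1), (222, 1), (471, 1)], .tr 650 1 [(599, 122), (672, 147), (471, 28), (634, 43), (160, 178), (15, 114), (747, 22), (663, 101), (802, 27), (668, 182), (358, 136), (222, 83)]),
     ([(721, 1), (27, 1), (124, 1), (445, 1), (702, 1), (625, 1), (535, 1), (347, 1), (523, 1), (342, 1), (588, 1), (815, 1)], .tr 651 0 [(721, 127), (625, 125), (27, 11), (702, 19), (523, 48), (342, 127), (535, 1), (815, 29), (124, 2), (347, 65), (445, 143), (588, 176)]),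
     ([(409, 1), (301, 1), (916, 1), (845, 1), (704, 1), (406, 1), (695, 1), (289, 1), (646, 1), (658, 1), (612, 1), (564, 1)], .tr 656 1 [(695, 116), (409, 9), (301, 61), (406, 188), (564, 155), (845, 96), (658, 120), (289, 139), (646, 154), (612, 112), (916, 91), (704, 9)]),
     ([(583, 1), (709, 1), (669, 1), (349, 1), (240, 1), (649, 1), (211, 1), (91, 1), (728, 1), (434, 1), (446, 1), (558, 1)], .tr 657 0 [(709, 0), (583, 25), (669, 74), (240, 1), (434, 24), (446, 64), (211, 0), (349, 1), (649, 126), (728, 179), (91, 161), (558, 67)]),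
     ([(833, 1), (921, 1), (662, 1), (395, 1), (671, 1), (677, 1), (224, 1), (856, 1), (566, 1), (294, 1), (714, 1), (717, 1)], .tr 657 1 [(671, 73), (395, 29), (856, 2), (566, 173), (662, 180), (833, 122), (224, 143), (677, 83), (717, 2), (714, 143), (294, 164), (921, 51)]),
     ([(668, 1), (711, 1), (584, 1), (239, 1), (350, 1), (433, 1), (556, 1), (727, 1), (212, 1), (651, 1), (93, 1), (447, 1)], .tr 658 0 [(668, 49), (711, 0), (584, 177), (350, 155), (239, 11), (727, 115), (556, 0), (93, 161), (212, 157), (651, 0), (433, 127), (447, 157)]),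
     ([(731, 1), (730, 1), (692, 1), (862, 1), (527, 1), (739, 1), (682, 1), (163, 1), (686, 1), (142, 1), (295, 1), (640, 1), (170, 1), (774, 1), (53, 1), (618, 1), (24, 1), (879, 1), (521, 1), (199, 1), (240, 1), (356, 1), (273, 1), (158, 1), (403, 1), (792, 1), (101, 1), (917, 1), (231, 1), (672, 1), (98, 1), (454, 1), (361, 1), (469, 1), (156, 1), (888, 1), (565, 1), (712, 1), (60, 1), (611, 1), (568, 1), (300, 1), (922, 1), (338, 1), (243, 1), (318, 1), (472, 1), (110, 1), (791, 1), (347, 1), (811, 1), (777, 1), (495, 1), (894, 1), (817, 1), (461, 1), (609, 1), (446, 1), (465, 1), (576, 1), (146, 1), (166, 1), (510, 1)], .kill 1 [([], [(862, 0), (682, 0), (731, 85), (618, 113), (24, 104), (240, 59), (692, 136), (712, 0), (730, 84), (300, 163), (98, 172), (318, 20), (521, 147), (894, 133), (243, 60), (686, 88), (888, 101), (922, 146), (527, 0), (156, 39), (791, 161), (110, 147), (469, 39), (495, 24), (446,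 21), (576, 110), (403, 136), (565, 52), (739, 31), (53, 145), (568, 5), (273, 57), (917, 16), (817, 34), (60, 45), (163, 0), (166, 142), (170, 81), (774, 99), (295, 154), (347, 148), (356, 169), (454, 191), (142, 113), (146, 91), (611, 137), (361, 133), (461, 127), (101, 172), (640, 0), (672, 27), (879, 131), (472, 39), (465, 127), (777, 37), (510, 117), (199, 72), (231, 98), (609, 33), (811, 27), (792, 177), (158, 59), (338, 162)]), ([], [(731, 14), (730, 9), (692, 14), (862, 108), (142, 7), (170, 13), (682, 90), (156, 14), (686, 189), (527, 7), (243, 0), (922, 36), (739, 18), (777, 175), (273, 45), (618, 139), (672, 133), (521, 85), (879, 104), (356, 0), (894, 24), (199, 0), (53, 59), (568, 45), (611, 166), (510, 7), (300, 129), (888, 61), (166, 18), (24, 110), (712, 124), (361, 78), (454, 78), (446, 104), (163, 14), (917, 61), (110, 159), (98, 138), (146, 184), (403, 160), (158, 59), (101, 141), (640, 36),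 (347, 81), (295, 0), (609, 44), (465, 56), (565, 168), (811, 71), (338, 69), (791, 64), (774, 167), (576, 29), (240, 17), (461, 106), (817, 98), (318, 63), (469, 85), (472, 75), (495, 31), (60, 188), (231, 13), (792, 7)]), ([], [(527, 0), (163, 0), (24, 0), (521, 0), (731, 0), (739, 182), (888, 0), (730, 0), (712, 84), (142, 10), (568, 57), (318, 118), (618, 68), (609, 0), (811, 125), (170, 73), (692, 0), (879, 182), (862, 0), (60, 155), (231, 146), (510, 20), (469, 181), (495, 43), (101, 164), (146, 141), (403, 148), (917, 189), (240, 147), (672, 36), (98, 182), (817, 3), (565, 146), (273, 162), (156, 9), (682, 0), (361, 147), (686, 86), (199, 170), (347, 8), (295, 80), (338, 55), (777, 135), (300, 67), (576, 105), (640, 123), (166, 48), (461, 90), (446, 41), (611, 8), (53, 135), (922, 125), (158, 40), (465, 44), (454, 3), (110, 90), (774, 0), (791, 50), (894, 63), (243, 89), (792, 129), (472, 48), (356, 20)])]),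
     ([(733, 1), (853, 1), (135, 1), (622, 1), (629, 1), (668, 1), (914, 1), (16, 1), (878, 1), (882, 1), (40, 1), (638, 1), (430, 1), (723, 1), (923, 1), (539, 1), (330, 1), (186, 1), (314, 1), (303, 1), (138, 1), (250, 1), (807, 1), (94, 1), (320, 1), (779, 1), (741, 1), (771, 1), (835, 1), (103, 1), (229, 1), (672, 1), (212, 1), (514, 1), (234, 1), (191, 1), (565, 1), (712, 1), (500, 1), (209, 1), (33, 1), (408, 1), (748, 1), (455, 1), (68, 1), (335, 1), (398, 1), (400, 1), (476, 1), (459, 1), (766, 1), (177, 1), (222, 1), (159, 1), (582, 1), (543, 1), (447, 1), (552, 1), (207, 1), (281, 1), (537, 1), (775, 1), (660, 1)], .tr 668 0 [(733, 1), (629, 0), (622, 88), (853, 0), (638, 71), (135, 0), (668, 49), (234, 0), (914, 118), (209, 150), (400, 0), (398, 20), (186, 0), (177, 123), (16, 7), (923, 13), (40, 85), (539, 56), (303, 73), (281, 155), (330, 0), (775, 41), (320, 11), (159, 8), (537, 32), (771, 0),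 (68, 88), (882, 149), (229, 68), (712, 21), (33, 84), (455, 7), (191, 61), (250, 15), (212, 157), (741, 82), (672, 12), (565, 0), (103, 130), (660, 139), (878, 0), (408, 126), (723, 160), (335, 22), (222, 34), (430, 155), (807, 146), (94, 114), (207, 73), (476, 160), (314, 168), (766, 1), (543, 175), (779, 50), (500, 104), (459, 65), (514, 25), (447, 157), (552, 151), (582, 173), (748, 1), (138, 2), (835, 18)]),
     ([(736, 1), (29, 1), (843, 1), (916, 1), (70, 1), (863, 1), (388, 1), (877, 1), (590, 1), (924, 1), (724, 1), (695, 1), (226, 1), (239, 1), (683, 1), (164, 1), (722, 1), (770, 1), (838, 1), (639, 1), (223, 1), (572, 1), (106, 1), (433, 1), (176, 1), (276, 1), (235, 1), (373, 1), (95, 1), (463, 1), (121, 1), (214, 1), (581, 1), (773, 1), (403, 1), (771, 1), (354, 1), (90, 1), (212, 1), (117, 1), (883, 1), (688, 1), (881, 1), (84, 1), (633, 1), (470, 1), (362, 1), (587, 1), (335, 1), (318, 1), (44,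 1), (332, 1), (804, 1), (612, 1), (642, 1), (579, 1), (810, 1), (495, 1), (1, 1), (461, 1), (489, 1), (636, 1), (167, 1)], .tr 668 1 [(736, 0), (70, 0), (722, 0), (695, 116), (838, 0), (29, 91), (881, 0), (84, 0), (388, 115), (212, 111), (403, 55), (770, 161), (239, 126), (276, 114), (95, 66), (688, 133), (44, 28), (724, 96), (633, 28), (771, 82), (332, 156), (489, 164), (373, 9), (226, 180), (804, 95), (1, 177), (167, 121), (117, 119), (318, 70), (883, 167), (164, 103), (572, 102), (495, 180), (587, 134), (223, 106), (90, 184), (642, 157), (639, 115), (106, 167), (683, 56), (121, 21), (354, 155), (810, 139), (461, 33), (335, 8), (433, 63), (590, 120), (176, 125), (362, 122), (773, 184), (463, 49), (470, 134), (612, 112), (636, 36), (924, 167), (579, 124), (877, 14), (863, 182), (581, 8), (916, 91), (214, 81), (235, 149), (843, 181)]),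
     ([(0, 1), (28, 1), (193, 1), (256, 1), (734, 1), (868, 1), (703, 1), (710, 1), (614, 1), (218, 1), (71, 1), (698, 1), (918, 1), (886, 1), (925, 1), (411, 1), (770, 1), (253, 1), (572, 1), (160, 1), (679, 1), (187, 1), (427, 1), (468, 1), (450, 1), (418, 1), (157, 1), (121, 1), (445, 1), (511, 1), (62, 1), (772, 1), (802, 1), (230, 1), (672, 1), (926, 1), (173, 1), (120, 1), (565, 1), (712, 1), (887, 1), (245, 1), (555, 1), (92, 1), (57, 1), (340, 1), (652, 1), (496, 1), (818, 1), (343, 1), (267, 1), (85, 1), (485, 1), (836, 1), (530, 1), (533, 1), (648, 1), (414, 1), (456, 1), (594, 1), (387, 1), (262, 1), (153, 1)], .tr 669 0 [(0, 1), (703, 51), (193, 1), (868, 0), (734, 11), (710, 3), (614, 123), (28, 20), (679, 5), (918, 0), (71, 181), (698, 20), (555, 78), (926, 161), (925, 18), (648, 7), (450, 1), (256, 7), (427, 0), (411, 176), (187, 8), (343, 143), (836, 147), (62, 132), (253, 71), (414, 24), (887,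 57), (772, 45), (511, 0), (120, 124), (230, 73), (712, 21), (92, 51), (818, 38), (886, 2), (267, 34), (672, 12), (565, 0), (496, 61), (85, 24), (57, 47), (218, 99), (153, 159), (456, 75), (121, 83), (245, 191), (530, 1), (533, 18), (594, 140), (387, 106), (572, 87), (160, 116), (173, 4), (157, 8), (468, 35), (418, 113), (445, 143), (340, 176), (770, 188), (262, 16), (802, 22), (485, 42), (652, 114)])]

/-- a chunk of the certificate -/
def steps21 : List (Vec × How) :=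
  [([(8, 1), (739, 1), (673, 1), (847, 1), (837, 1), (704, 1), (623, 1), (451, 1), (316, 1), (617, 1), (171, 1), (755, 1), (879, 1), (639, 1), (227, 1), (290, 1), (571, 1), (35, 1), (292, 1), (160, 1), (780, 1), (247, 1), (379, 1), (807, 1), (449, 1), (320, 1), (242, 1), (575, 1), (595, 1), (802, 1), (259, 1), (672, 1), (144, 1), (927, 1), (883, 1), (650, 1), (99, 1), (32, 1), (156, 1), (59, 1), (56, 1), (870, 1), (557, 1), (413, 1), (625, 1), (457, 1), (283, 1), (401, 1), (269, 1), (73, 1), (642, 1), (899, 1), (654, 1), (125, 1), (901, 1), (288, 1), (2, 1), (752, 1), (645, 1), (787, 1), (201, 1), (306, 1), (384, 1)], .tr 669 1 [(739, 0), (879, 0), (35, 91), (144, 0), (99, 0), (672, 147), (156, 23), (32, 33), (755, 173), (56, 123), (73, 55), (899, 0), (557, 0), (927, 113), (870, 53), (650, 113), (451, 156), (259, 109), (379, 102), (413, 7), (201, 91), (807, 93), (837, 67), (160, 178), (752, 141), (780, 12),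 (283, 42), (2, 169), (8, 158), (171, 53), (316, 132), (883, 167), (292, 152), (623, 27), (320, 58), (269, 154), (642, 157), (639, 115), (617, 92), (290, 175), (59, 152), (449, 66), (242, 115), (571, 167), (125, 40), (457, 122), (901, 179), (802, 27), (595, 92), (575, 71), (787, 91), (247, 144), (306, 41), (227, 75), (673, 88), (654, 113), (847, 124), (625, 95), (288, 163), (384, 45), (645, 119), (401, 112), (704, 9)]),
     ([(832, 1), (134, 1), (52, 1), (466, 1), (25, 1), (849, 1), (669, 1), (857, 1), (873, 1), (674, 1), (724, 1), (695, 1), (430, 1), (23, 1), (676, 1), (329, 1), (861, 1), (77, 1), (749, 1), (136, 1), (293, 1), (61, 1), (322, 1), (101, 1), (772, 1), (190, 1), (927, 1), (39, 1), (699, 1), (884, 1), (233, 1), (633, 1), (150, 1), (245, 1), (870, 1), (92, 1), (720, 1), (487, 1), (658, 1), (791, 1), (503, 1), (252, 1), (777, 1), (829, 1), (899, 1), (312, 1), (459, 1), (831, 1), (473, 1), (399, 1),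 (892, 1), (108, 1), (519, 1), (249, 1), (215, 1), (546, 1), (902, 1), (543, 1), (551, 1), (393, 1), (537, 1), (162, 1), (3, 1)], .tr 670 0 [(134, 0), (52, 0), (849, 1), (674, 11), (23, 92), (857, 0), (749, 0), (832, 74), (861, 62), (873, 158), (633, 22), (724, 145), (312, 0), (329, 0), (669, 74), (233, 31), (884, 79), (791, 128), (870, 9), (699, 95), (293, 1), (777, 65), (108, 7), (546, 35), (162, 0), (249, 180), (322, 123), (503, 168), (61, 0), (551, 60), (101, 0), (215, 8), (466, 35), (892, 46), (537, 32), (772, 45), (393, 0), (150, 113), (92, 51), (39, 0), (720, 43), (927, 183), (676, 87), (25, 164), (695, 38), (252, 38), (190, 117), (831, 123), (245, 191), (430, 155), (77, 166), (829, 1), (473, 1), (658, 185), (399, 173), (519, 174), (899, 20), (543, 175), (3, 143), (459, 65), (487, 1), (902, 82), (136, 1)]),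
     ([(732, 1), (853, 1), (466, 1), (833, 1), (15, 1), (844, 1), (869, 1), (584, 1), (615, 1), (601, 1), (41, 1), (539, 1), (317, 1), (639, 1), (128, 1), (271, 1), (351, 1), (185, 1), (737, 1), (20, 1), (517, 1), (303, 1), (573, 1), (443, 1), (908, 1), (229, 1), (66, 1), (149, 1), (883, 1), (702, 1), (928, 1), (905, 1), (913, 1), (234, 1), (911, 1), (112, 1), (428, 1), (265, 1), (566, 1), (358, 1), (246, 1), (408, 1), (189, 1), (344, 1), (545, 1), (102, 1), (642, 1), (920, 1), (111, 1), (533, 1), (831, 1), (473, 1), (228, 1), (222, 1), (159, 1), (348, 1), (146, 1), (552, 1), (781, 1), (263, 1), (366, 1), (660, 1), (3, 1)], .tr 671 1 [(732, 0), (41, 177), (271, 0), (351, 0), (66, 0), (149, 0), (702, 0), (601, 164), (408, 0), (303, 105), (128, 88), (905, 80), (111, 0), (20, 131), (928, 75), (539, 62), (265, 184), (348, 42), (344, 136), (229, 128), (234, 162), (263, 14), (552, 117), (584, 143), (566, 173), (545,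 26), (228, 108), (189, 163), (833, 122), (15, 114), (112, 19), (3, 0), (831, 67), (317, 73), (883, 167), (913, 8), (246, 32), (185, 161), (642, 157), (639, 115), (737, 75), (920, 152), (660, 134), (159, 105), (102, 116), (466, 0), (853, 147), (615, 165), (844, 162), (473, 122), (366, 92), (146, 78), (533, 146), (869, 116), (911, 7), (443, 81), (908, 82), (781, 66), (573, 99), (428, 187), (517, 16), (358, 136), (222, 83)]),
     ([(13, 1), (135, 1), (10, 1), (850, 1), (845, 1), (854, 1), (875, 1), (388, 1), (848, 1), (924, 1), (481, 1), (774, 1), (197, 1), (239, 1), (809, 1), (539, 1), (253, 1), (184, 1), (124, 1), (433, 1), (396, 1), (767, 1), (373, 1), (580, 1), (220, 1), (310, 1), (773, 1), (403, 1), (432, 1), (354, 1), (908, 1), (208, 1), (212, 1), (702, 1), (104, 1), (699, 1), (610, 1), (99, 1), (32, 1), (712, 1), (56, 1), (385, 1), (182, 1), (657, 1), (720, 1), (484, 1), (745, 1), (286, 1), (368, 1), (74,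 1), (836, 1), (578, 1), (376, 1), (426, 1), (141, 1), (1, 1), (399, 1), (588, 1), (534, 1), (280, 1), (784, 1), (360, 1), (417, 1)], .tr 672 0 [(13, 31), (135, 0), (850, 0), (854, 4), (848, 116), (845, 0), (875, 171), (481, 0), (432, 181), (924, 145), (184, 0), (182, 81), (539, 56), (699, 95), (310, 172), (388, 0), (767, 5), (10, 150), (396, 29), (774, 29), (484, 113), (197, 2), (376, 143), (836, 147), (239, 11), (253, 71), (220, 0), (580, 0), (773, 0), (403, 35), (354, 0), (712, 21), (208, 22), (657, 97), (720, 43), (702, 19), (32, 0), (56, 18), (212, 157), (104, 130), (99, 13), (809, 9), (433, 127), (908, 130), (578, 0), (385, 61), (141, 115), (534, 16), (368, 0), (74, 0), (399, 173), (426, 20), (610, 191), (124, 2), (745, 105), (286, 31), (1, 0), (373, 176), (588, 176), (784, 0), (280, 0), (417, 184), (360, 117)]),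
     ([(5, 1), (133, 1), (921, 1), (583, 1), (703, 1), (70, 1), (630, 1), (218, 1), (687, 1), (295, 1), (257, 1), (886, 1), (591, 1), (411, 1), (452, 1), (671, 1), (431, 1), (34, 1), (67, 1), (740, 1), (480, 1), (95, 1), (912, 1), (157, 1), (574, 1), (439, 1), (51, 1), (321, 1), (230, 1), (827, 1), (820, 1), (117, 1), (699, 1), (928, 1), (173, 1), (905, 1), (913, 1), (728, 1), (748, 1), (720, 1), (43, 1), (340, 1), (337, 1), (652, 1), (311, 1), (906, 1), (627, 1), (648, 1), (399, 1), (525, 1), (363, 1), (491, 1), (270, 1), (200, 1), (812, 1), (477, 1), (114, 1), (558, 1), (782, 1), (644, 1), (2, 1), (471, 1), (168, 1)], .tr 674 0 [(133, 0), (703, 51), (574, 0), (921, 167), (5, 29), (630, 0), (591, 37), (583, 25), (687, 176), (452, 8), (70, 112), (648, 7), (431, 78), (699, 95), (43, 83), (321, 126), (480, 67), (257, 7), (740, 0), (34, 155), (627, 132), (411, 176), (812, 11), (439, 7), (906, 161), (230, 73),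 (117, 92), (51, 136), (720, 43), (728, 179), (905, 166), (913, 0), (928, 160), (886, 2), (827, 121), (114, 31), (912, 116), (363, 113), (671, 163), (491, 8), (337, 71), (218, 99), (168, 135), (471, 92), (558, 67), (67, 135), (399, 173), (782, 29), (95, 6), (295, 13), (644, 10), (820, 10), (311, 152), (173, 4), (157, 8), (477, 8), (748, 1), (340, 176), (525, 75), (200, 13), (270, 7), (652, 114), (2, 143)])]

/-- certificate data -/
def data : Data where
  n := 9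
  p := 2
  N := 929
  gens := [[(0, 1), (1, 2)],
    [(0, 1), (1, 2), (2, 3), (3, 4), (4, 5), (5, 6), (6, 7), (7, 8)],
    [(0, 1), (2, 3)],
    [(0, 2), (1, 3)],
    [(4, 5), (6, 7)],
    [(4, 6), (5, 7)],
    [(0, 1), (4, 5)],
    [(0, 4), (1, 5), (2, 6), (3, 7)],
    [(1, 2), (5, 6)],
    [(2, 3), (3, 4)],
    [(0, 1), (1, 2), (2, 3), (3, 4)],
    [(0, 5), (1, 4)],
    [(0, 1), (1, 2), (2, 3), (3, 4), (4, 5), (5, 6)],
    [(1, 2), (3, 6)],
    [(0, 2), (2, 3), (3, 4), (4, 5), (5, 6), (6, 1)],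
    [(0, 2), (3, 6)],
    [(0, 7), (1, 6), (2, 3), (4, 5)],
    [(0, 6), (1, 7), (2, 3), (4, 5)],
    [(1, 2), (2, 4), (4, 3), (3, 6), (6, 7), (7, 5)],
    [(0, 1), (2, 3), (4, 5), (6, 7)],
    [(0, 8), (2, 5), (3, 6), (4, 7)],
    [(0, 2), (2, 4), (4, 3), (3, 6), (6, 7), (7, 5)],
    [(1, 8), (2, 5), (3, 6), (4, 7)],
    [(1, 2), (2, 3)],
    [(5, 6), (6, 7)],
    [(2, 4), (3, 5)]]
  xgens := [(2, 1), (3, 1), (4, 1), (5, 1), (6, 1), (7, 1), (8, 1)]
  xs := [xs0, xs1, xs2, xs3, xs4, xs5]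
  nX := 192
  reps := [reps0, reps1, reps2, reps3, reps4, reps5, reps6, reps7, reps8, reps9, reps10, reps11, reps12, reps13, reps14, reps15, reps16, reps17, reps18, reps19, reps20, reps21, reps22, reps23, reps24, reps25, reps26, reps27, reps28, reps29]
  Ks := [[(14, 1), (17, 1)], [(21, 1), (19, 1), (22, 1)], [(0, 1), (23, 1)], [(2, 1), (3, 1), (4, 1), (5, 1), (6, 1), (7, 1), (25, 1)]]
  steps := [steps0, steps1, steps2, steps3, steps4, steps5, steps6, steps7, steps8, steps9, steps10, steps11, steps12, steps13, steps14, steps15, steps16, steps17, steps18, steps19, steps20, steps21]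
  nSteps := 677
  fin := [(0, 1), (2, 1), (4, 1), (7, 1), (8, 1), (9, 1), (10, 1), (12, 1), (15, 1), (17, 1), (18, 1), (24, 1), (25, 1), (26, 1), (27, 1), (29, 1), (30, 1), (32, 1), (33, 1), (34, 1), (35, 1), (36, 1), (38, 1), (39, 1), (41, 1), (42, 1), (44, 1), (46, 1), (47, 1), (48, 1), (49, 1), (51, 1), (52, 1), (55, 1), (58, 1), (60, 1), (62, 1), (63, 1), (64, 1), (65, 1), (66, 1), (71, 1), (74, 1), (75, 1), (76, 1), (78, 1), (82, 1), (86, 1), (87, 1), (88, 1), (90, 1), (91, 1), (94, 1), (95, 1), (96, 1), (100, 1), (101, 1), (103, 1), (104, 1), (106, 1), (107, 1), (108, 1), (109, 1), (110, 1), (112, 1), (115, 1), (116, 1), (117, 1), (119, 1), (121, 1), (123, 1), (125, 1), (126, 1), (131, 1), (133, 1), (134, 1), (135, 1), (137, 1), (138, 1), (139, 1), (141, 1), (144, 1), (145, 1), (146, 1), (147, 1), (148, 1), (149, 1), (150, 1), (152, 1), (156, 1), (157, 1), (159, 1), (160, 1), (161, 1), (162, 1), (163,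 1), (164, 1), (165, 1), (166, 1), (167, 1), (169, 1), (170, 1), (171, 1), (172, 1), (174, 1), (177, 1), (178, 1), (181, 1), (182, 1), (183, 1), (185, 1), (186, 1), (189, 1), (190, 1), (191, 1), (192, 1), (194, 1), (195, 1), (196, 1), (197, 1), (198, 1), (199, 1), (200, 1), (201, 1), (202, 1), (205, 1), (206, 1), (207, 1), (209, 1), (211, 1), (212, 1), (213, 1), (214, 1), (215, 1), (217, 1), (218, 1), (221, 1), (222, 1), (223, 1), (224, 1), (226, 1), (227, 1), (228, 1), (229, 1), (232, 1), (233, 1), (234, 1), (235, 1), (236, 1), (237, 1), (238, 1), (239, 1), (240, 1), (241, 1), (242, 1), (243, 1), (247, 1), (248, 1), (249, 1), (251, 1), (252, 1), (253, 1), (255, 1), (256, 1), (258, 1), (261, 1), (263, 1), (271, 1), (272, 1), (275, 1), (280, 1), (282, 1), (284, 1), (286, 1), (287, 1), (290, 1), (292, 1), (295, 1), (296, 1), (297, 1), (300, 1), (302, 1), (306, 1), (309, 1), (311, 1), (312, 1), (313, 1), (317,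 1), (318, 1), (319, 1), (323, 1), (325, 1), (327, 1), (328, 1), (330, 1), (334, 1), (342, 1), (344, 1), (345, 1), (346, 1), (347, 1), (349, 1), (350, 1), (352, 1), (353, 1), (355, 1), (357, 1), (358, 1), (359, 1), (360, 1), (363, 1), (364, 1), (365, 1), (366, 1), (368, 1), (369, 1), (372, 1), (374, 1), (375, 1), (376, 1), (377, 1), (378, 1), (379, 1), (382, 1), (386, 1), (387, 1), (390, 1), (393, 1), (395, 1), (397, 1), (398, 1), (400, 1), (401, 1), (402, 1), (403, 1), (404, 1), (406, 1), (408, 1), (413, 1), (415, 1), (418, 1), (419, 1), (420, 1), (421, 1), (422, 1), (423, 1), (424, 1), (425, 1), (426, 1), (427, 1), (428, 1), (429, 1), (430, 1), (431, 1), (433, 1), (434, 1), (435, 1), (437, 1), (440, 1), (441, 1), (443, 1), (444, 1), (446, 1), (447, 1), (448, 1), (449, 1), (450, 1), (451, 1), (452, 1), (453, 1), (454, 1), (455, 1), (456, 1), (459, 1), (460, 1), (464, 1), (465, 1), (467, 1), (468, 1), (469,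 1), (470, 1), (472, 1), (474, 1), (475, 1), (476, 1), (477, 1), (478, 1), (479, 1), (480, 1), (481, 1), (482, 1), (483, 1), (484, 1), (485, 1), (486, 1), (487, 1), (488, 1), (489, 1), (492, 1), (493, 1), (494, 1), (495, 1), (497, 1), (499, 1), (500, 1), (502, 1), (504, 1), (506, 1), (508, 1), (509, 1), (511, 1), (512, 1), (513, 1), (515, 1), (516, 1), (517, 1), (518, 1), (520, 1), (522, 1), (523, 1), (524, 1), (525, 1), (526, 1), (527, 1), (532, 1), (534, 1), (535, 1), (536, 1), (537, 1), (538, 1), (539, 1), (540, 1), (541, 1), (543, 1), (544, 1), (546, 1), (547, 1), (548, 1), (549, 1), (550, 1), (551, 1), (552, 1), (554, 1), (557, 1), (558, 1), (559, 1), (560, 1), (561, 1), (562, 1), (563, 1), (564, 1), (565, 1), (567, 1), (568, 1), (569, 1), (570, 1), (571, 1), (572, 1), (574, 1), (575, 1), (576, 1), (577, 1), (578, 1), (579, 1), (580, 1), (583, 1), (587, 1), (588, 1), (589, 1), (597, 1), (598, 1), (601,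 1), (603, 1), (606, 1), (608, 1), (611, 1), (612, 1), (616, 1), (617, 1), (618, 1), (620, 1), (621, 1), (622, 1), (626, 1), (628, 1), (630, 1), (632, 1), (633, 1), (635, 1), (636, 1), (637, 1), (638, 1), (640, 1), (641, 1), (644, 1), (645, 1), (647, 1), (648, 1), (649, 1), (652, 1), (653, 1), (654, 1), (655, 1), (657, 1), (658, 1), (659, 1), (660, 1), (661, 1), (662, 1), (663, 1), (664, 1), (665, 1), (666, 1), (667, 1), (670, 1), (672, 1), (673, 1), (674, 1), (675, 1), (676, 1)]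

theorem ks_eq : data.killed = [Words.l8odd, Words.l28odd, Words.qA4, Words.stabM] := by decide +kernel

theorem xgens_eq : data.fixedBy = Words.stabE := by decide +kernel

theorem checked : data.checked data.eqv2 = true := by decide +kernel

end H63.ModCert.P2E
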