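import Cfsg.Agent.H63.ModCert.Words

/-! Certificate P2F (computed offline). -/

set_option autoImplicit false

namespace H63.ModCert.P2F

/-- a chunk of the certificate -/
def xs0 : List (Word × ℕ × ℕ × ℕ) :=
  [([], 1, 0, 0),
     ([(0, 1), (2, 3)], 1, 0, 0),
     ([(0, 2), (1, 3)], 1, 1, 0),
     ([(4, 5), (6, 7)], 1, 2, 0),
     ([(4, 6), (5, 7)], 1, 3, 0),
     ([(0, 1), (4, 5)], 1, 4, 0),
     ([(0, 4), (1, 5), (2, 6), (3, 7)], 1, 5, 0),
     ([(1, 2), (5, 7)], 1, 6, 0),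
     ([(0, 3), (1, 2)], 1, 1, 1),
     ([(0, 1), (2, 3), (4, 5), (6, 7)], 1, 2, 1),
     ([(0, 1), (2, 3), (4, 6), (5, 7)], 1, 3, 1),
     ([(2, 3), (4, 5)], 1, 4, 1),
     ([(0, 5), (5, 1), (1, 4), (2, 7), (7, 3), (3, 6)], 1, 5, 1),
     ([(0, 2), (2, 3), (3, 1), (5, 7)], 1, 6, 1),
     ([(0, 2), (1, 3), (4, 5), (6, 7)], 1, 2, 2),
     ([(0, 2), (1, 3), (4, 6), (5, 7)], 1, 3, 2),
     ([(0, 2), (2, 1), (1, 3), (4, 5)], 1, 4, 2),
     ([(0, 6), (6, 2), (2, 4), (1, 7), (7, 3), (3, 5)], 1, 5, 2),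
     ([(0, 1), (1, 3), (3, 2), (5, 7)], 1, 6, 2),
     ([(4, 7), (5, 6)], 1, 3, 3),
     ([(0, 1), (6, 7)], 1, 4, 3),
     ([(0, 4), (4, 1), (1, 5), (2, 6), (6, 3), (3, 7)], 1, 5, 3),
     ([(1, 2), (4, 7), (7, 6), (6, 5)], 1, 6, 3),
     ([(0, 1), (4, 6), (6, 5), (5, 7)], 1, 4, 4),
     ([(0, 4), (4, 2), (2, 6), (1, 5), (5, 3), (3, 7)], 1, 5, 4),
     ([(1, 2), (4, 6)], 1, 6, 4),
     ([(0, 3), (3, 1), (1, 2), (4, 5)], 1, 1, 5),
     ([(0, 1), (4, 7), (7, 5), (5, 6)], 1, 3, 5),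
     ([(0, 5), (1, 4), (2, 6), (3, 7)], 1, 5, 5),
     ([(0, 2), (2, 1), (4, 7), (7, 5)], 1, 6, 5),
     ([(0, 4), (1, 7), (7, 3), (3, 5), (5, 2), (2, 6)], 1, 6, 6),
     ([(1, 2), (4, 5), (5, 6), (6, 7)], 1, 2, 7)]

/-- a chunk of the certificate -/
def xs1 : List (Word × ℕ × ℕ × ℕ) :=
  [([(0, 1), (1, 2), (4, 5), (5, 7)], 1, 4, 7),
     ([(0, 4), (1, 6), (6, 2), (2, 5), (5, 3), (3, 7)], 1, 5, 7),
     ([(0, 3), (1, 2), (4, 5), (6, 7)], 1, 2, 8),
     ([(0, 3), (1, 2), (4, 6), (5, 7)], 1, 3, 8),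
     ([(0, 7), (7, 3), (3, 4), (1, 6), (6, 2), (2, 5)], 1, 5, 8),
     ([(0, 3), (5, 7)], 1, 6, 8),
     ([(0, 1), (2, 3), (4, 7), (5, 6)], 1, 3, 9),
     ([(2, 3), (6, 7)], 1, 4, 9),
     ([(0, 5), (1, 4), (2, 7), (3, 6)], 1, 5, 9),
     ([(0, 2), (2, 3), (3, 1), (4, 7), (7, 6), (6, 5)], 1, 6, 9),
     ([(2, 3), (4, 6), (6, 5), (5, 7)], 1, 4, 10),
     ([(0, 5), (5, 3), (3, 6), (1, 4), (4, 2), (2, 7)], 1, 5, 10),
     ([(0, 2), (2, 3), (3, 1), (4, 6)], 1, 6, 10),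
     ([(2, 3), (4, 7), (7, 5), (5, 6)], 1, 3, 11),
     ([(0, 4), (4, 1), (1, 5), (2, 7), (7, 3), (3, 6)], 1, 5, 11),
     ([(1, 2), (2, 3), (4, 7), (7, 5)], 1, 6, 11),
     ([(0, 7), (7, 3), (3, 6), (6, 1), (1, 4), (2, 5)], 1, 6, 12),
     ([(0, 2), (2, 3), (3, 1), (4, 5), (5, 6), (6, 7)], 1, 2, 13),
     ([(0, 2), (2, 3), (4, 5), (5, 7)], 1, 4, 13),
     ([(0, 6), (6, 2), (2, 7), (7, 1), (1, 4), (3, 5)], 1, 5, 13),
     ([(0, 2), (1, 3), (4, 7), (5, 6)], 1, 3, 14),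
     ([(0, 2), (2, 1), (1, 3), (6, 7)], 1, 4, 14),
     ([(0, 6), (6, 3), (3, 5), (1, 7), (7, 2), (2, 4)], 1, 5, 14),
     ([(0, 1), (1, 3), (3, 2), (4, 7), (7, 6), (6, 5)], 1, 6, 14),
     ([(0, 2), (2, 1), (1, 3), (4, 6), (6, 5), (5, 7)], 1, 4, 15),
     ([(0, 6), (1, 7), (2, 4), (3, 5)], 1, 5, 15),
     ([(0, 1), (1, 3), (3, 2), (4, 6)], 1, 6, 15),
     ([(0, 2), (2, 1), (1, 3), (4, 7), (7, 5), (5, 6)], 1, 3, 16),
     ([(0, 6), (6, 2), (2, 5), (1, 7), (7, 3), (3, 4)], 1, 5, 16),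
     ([(0, 1), (1, 3), (4, 7), (7, 5)], 1, 6, 16),
     ([(0, 6), (6, 1), (1, 5), (5, 2), (2, 4), (3, 7)], 1, 6, 17),
     ([(0, 1), (1, 3), (3, 2), (4, 5), (5, 6), (6, 7)], 1, 2, 18)]

/-- a chunk of the certificate -/
def xs2 : List (Word × ℕ × ℕ × ℕ) :=
  [([(1, 3), (3, 2), (4, 5), (5, 7)], 1, 4, 18),
     ([(0, 5), (5, 3), (3, 6), (6, 2), (2, 4), (1, 7)], 1, 5, 18),
     ([(0, 4), (4, 3), (3, 7), (1, 5), (5, 2), (2, 6)], 1, 5, 19),
     ([(0, 3), (3, 1), (1, 2), (6, 7)], 1, 1, 20),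
     ([(0, 5), (5, 1), (1, 4), (2, 6), (6, 3), (3, 7)], 1, 5, 20),
     ([(0, 2), (2, 1), (5, 7), (7, 6)], 1, 6, 20),
     ([(0, 4), (4, 2), (2, 6), (6, 3), (3, 5), (1, 7)], 1, 6, 21),
     ([(0, 1), (1, 2), (4, 7), (7, 6)], 1, 4, 22),
     ([(0, 4), (4, 3), (3, 7), (7, 2), (2, 5), (1, 6)], 1, 5, 22),
     ([(0, 3), (3, 1), (1, 2), (4, 6), (6, 5), (5, 7)], 1, 1, 23),
     ([(0, 5), (5, 3), (3, 7), (1, 4), (4, 2), (2, 6)], 1, 5, 23),
     ([(0, 2), (2, 1), (4, 6), (6, 7)], 1, 6, 23),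
     ([(0, 4), (4, 1), (1, 7), (7, 2), (2, 6), (3, 5)], 1, 6, 24),
     ([(0, 1), (1, 2), (4, 6), (6, 5)], 1, 4, 25),
     ([(0, 4), (4, 2), (2, 5), (5, 1), (1, 6), (3, 7)], 1, 5, 25),
     ([(0, 3), (3, 1), (1, 2), (4, 7), (7, 5), (5, 6)], 1, 3, 26),
     ([(0, 7), (7, 3), (3, 5), (1, 6), (6, 2), (2, 4)], 1, 5, 26),
     ([(0, 3), (3, 2), (4, 7), (7, 5)], 1, 6, 26),
     ([(0, 5), (5, 2), (2, 6), (1, 4), (4, 3), (3, 7)], 1, 5, 27),
     ([(0, 2), (2, 1), (4, 5), (5, 6)], 1, 6, 27),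
     ([(0, 7), (7, 3), (3, 5), (1, 4), (4, 2), (2, 6)], 1, 6, 28),
     ([(0, 2), (4, 7)], 1, 4, 29),
     ([(0, 6), (6, 2), (2, 5), (1, 4), (4, 3), (3, 7)], 1, 5, 29),
     ([(0, 5), (5, 2), (2, 7), (7, 3), (3, 4), (1, 6)], 1, 2, 30),
     ([(0, 5), (5, 2), (2, 6), (1, 7), (7, 3), (3, 4)], 1, 4, 30),
     ([(1, 3), (5, 6)], 1, 5, 30),
     ([(0, 1), (1, 2), (5, 6), (6, 7)], 1, 4, 31),
     ([(0, 4), (4, 1), (1, 6), (6, 3), (3, 7), (2, 5)], 1, 5, 31),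
     ([(0, 3), (3, 1), (4, 5), (5, 7)], 1, 1, 32),
     ([(0, 5), (5, 3), (3, 7), (1, 6), (6, 2), (2, 4)], 1, 5, 32),
     ([(0, 4), (1, 6), (2, 7), (3, 5)], 1, 6, 33),
     ([(0, 3), (1, 2), (4, 7), (5, 6)], 1, 3, 34)]

/-- a chunk of the certificate -/
def xs3 : List (Word × ℕ × ℕ × ℕ) :=
  [([(0, 7), (7, 2), (2, 5), (1, 6), (6, 3), (3, 4)], 1, 5, 34),
     ([(0, 3), (4, 7), (7, 6), (6, 5)], 1, 6, 34),
     ([(0, 7), (7, 1), (1, 6), (2, 5), (5, 3), (3, 4)], 1, 5, 35),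
     ([(0, 3), (4, 6)], 1, 6, 35),
     ([(0, 3), (4, 5), (5, 6), (6, 7)], 1, 2, 37),
     ([(0, 7), (7, 1), (1, 5), (5, 3), (3, 4), (2, 6)], 1, 5, 37),
     ([(0, 5), (5, 2), (2, 7), (1, 4), (4, 3), (3, 6)], 1, 5, 38),
     ([(0, 4), (1, 5), (2, 7), (3, 6)], 1, 5, 39),
     ([(1, 2), (2, 3), (5, 7), (7, 6)], 1, 6, 39),
     ([(0, 7), (7, 1), (1, 4), (4, 2), (2, 5), (3, 6)], 1, 6, 40),
     ([(0, 2), (2, 3), (4, 7), (7, 6)], 1, 4, 41),
     ([(0, 6), (6, 1), (1, 4), (4, 3), (3, 5), (2, 7)], 1, 5, 41),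
     ([(0, 4), (4, 2), (2, 7), (1, 5), (5, 3), (3, 6)], 1, 5, 42),
     ([(1, 2), (2, 3), (4, 6), (6, 7)], 1, 6, 42),
     ([(0, 7), (7, 2), (2, 5), (5, 3), (3, 6), (1, 4)], 1, 6, 43),
     ([(0, 2), (2, 3), (4, 6), (6, 5)], 1, 4, 44),
     ([(0, 6), (1, 4), (4, 2), (2, 7), (7, 3), (3, 5)], 1, 5, 44),
     ([(0, 4), (4, 3), (3, 6), (1, 5), (5, 2), (2, 7)], 1, 5, 45),
     ([(1, 2), (2, 3), (4, 5), (5, 6)], 1, 6, 45),
     ([(0, 4), (4, 2), (2, 5), (1, 7), (7, 3), (3, 6)], 1, 6, 46),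
     ([(0, 1), (1, 2), (2, 3), (4, 7)], 1, 4, 47),
     ([(0, 4), (4, 3), (3, 5), (1, 6), (6, 2), (2, 7)], 1, 5, 47),
     ([(0, 7), (7, 3), (3, 6), (1, 5), (5, 2), (2, 4)], 1, 4, 48),
     ([(0, 3), (3, 2), (2, 1), (5, 6)], 1, 5, 48),
     ([(0, 2), (2, 3), (5, 6), (6, 7)], 1, 4, 49),
     ([(0, 6), (6, 3), (3, 5), (5, 2), (2, 7), (1, 4)], 1, 5, 49),
     ([(0, 6), (6, 2), (2, 7), (1, 5), (5, 3), (3, 4)], 1, 5, 50),
     ([(0, 6), (6, 1), (1, 4), (2, 5), (5, 3), (3, 7)], 1, 6, 51),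
     ([(0, 6), (6, 1), (1, 7), (2, 4), (4, 3), (3, 5)], 1, 5, 52),
     ([(0, 6), (6, 3), (3, 4), (1, 7), (7, 2), (2, 5)], 1, 5, 53),
     ([(0, 1), (1, 3), (5, 7), (7, 6)], 1, 6, 53),
     ([(0, 6), (6, 3), (3, 7), (7, 1), (1, 5), (2, 4)], 1, 6, 54)]

/-- a chunk of the certificate -/
def xs4 : List (Word × ℕ × ℕ × ℕ) :=
  [([(1, 3), (3, 2), (4, 7), (7, 6)], 1, 4, 55),
     ([(0, 5), (1, 7), (7, 2), (2, 4), (4, 3), (3, 6)], 1, 5, 55),
     ([(0, 6), (6, 1), (1, 7), (2, 5), (5, 3), (3, 4)], 1, 5, 56),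
     ([(0, 1), (1, 3), (4, 6), (6, 7)], 1, 6, 56),
     ([(0, 6), (1, 5), (5, 3), (3, 7), (7, 2), (2, 4)], 1, 6, 57),
     ([(1, 3), (3, 2), (4, 6), (6, 5)], 1, 4, 58),
     ([(0, 5), (5, 1), (1, 7), (7, 3), (3, 6), (2, 4)], 1, 5, 58),
     ([(0, 6), (1, 7), (2, 5), (3, 4)], 1, 5, 59),
     ([(0, 1), (1, 3), (4, 5), (5, 6)], 1, 6, 59),
     ([(0, 6), (6, 1), (1, 5), (2, 7), (7, 3), (3, 4)], 1, 6, 60),
     ([(1, 3), (4, 7)], 1, 4, 61),
     ([(0, 5), (1, 7), (2, 6), (3, 4)], 1, 5, 61),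
     ([(0, 6), (1, 4), (2, 5), (3, 7)], 1, 4, 62),
     ([(0, 2), (5, 6)], 1, 5, 62),
     ([(1, 3), (3, 2), (5, 6), (6, 7)], 1, 4, 63),
     ([(0, 5), (5, 2), (2, 4), (4, 1), (1, 7), (3, 6)], 1, 5, 63),
     ([(0, 4), (4, 1), (1, 7), (2, 5), (5, 3), (3, 6)], 1, 5, 64),
     ([(0, 7), (7, 2), (2, 4), (1, 5), (5, 3), (3, 6)], 1, 6, 65),
     ([(0, 4), (4, 3), (3, 5), (5, 1), (1, 7), (2, 6)], 1, 6, 66),
     ([(0, 7), (7, 2), (2, 4), (1, 6), (6, 3), (3, 5)], 1, 5, 67),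
     ([(0, 3), (3, 2), (5, 7), (7, 6)], 1, 6, 67),
     ([(0, 7), (7, 1), (1, 4), (2, 6), (6, 3), (3, 5)], 1, 6, 68),
     ([(0, 2), (4, 5), (5, 7), (7, 6)], 1, 4, 69),
     ([(0, 5), (1, 6), (6, 3), (3, 4), (4, 2), (2, 7)], 1, 2, 70),
     ([(0, 5), (5, 1), (1, 7), (2, 6), (6, 3), (3, 4)], 1, 4, 70),
     ([(1, 3), (4, 6), (6, 7), (7, 5)], 1, 5, 70),
     ([(0, 3), (3, 1), (4, 7), (7, 6)], 1, 1, 71),
     ([(0, 5), (5, 1), (1, 6), (2, 4), (4, 3), (3, 7)], 1, 5, 71),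
     ([(0, 7), (1, 6), (2, 4), (3, 5)], 1, 5, 73),
     ([(0, 3), (3, 2), (4, 6), (6, 7)], 1, 6, 73),
     ([(0, 7), (1, 4), (2, 6), (3, 5)], 1, 6, 74),
     ([(0, 2), (4, 6), (6, 7), (7, 5)], 1, 4, 75)]

/-- a chunk of the certificate -/
def xs5 : List (Word × ℕ × ℕ × ℕ) :=
  [([(0, 6), (6, 3), (3, 7), (1, 4), (4, 2), (2, 5)], 1, 5, 75),
     ([(0, 5), (5, 3), (3, 4), (4, 1), (1, 6), (2, 7)], 1, 2, 76),
     ([(0, 5), (5, 3), (3, 4), (1, 7), (7, 2), (2, 6)], 1, 4, 76),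
     ([(1, 3), (4, 5), (5, 7), (7, 6)], 1, 5, 76),
     ([(0, 3), (3, 1), (4, 6), (6, 5)], 1, 1, 77),
     ([(0, 5), (1, 6), (2, 4), (3, 7)], 1, 5, 77),
     ([(0, 4), (4, 1), (1, 6), (2, 7), (7, 3), (3, 5)], 1, 6, 78),
     ([(0, 7), (7, 1), (1, 6), (2, 4), (4, 3), (3, 5)], 1, 5, 79),
     ([(0, 3), (3, 2), (4, 5), (5, 6)], 1, 6, 79),
     ([(0, 3), (3, 2), (2, 1), (4, 7)], 1, 4, 81),
     ([(0, 7), (7, 1), (1, 5), (2, 4), (4, 3), (3, 6)], 1, 5, 81),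
     ([(0, 7), (7, 2), (2, 6), (1, 4), (4, 3), (3, 5)], 1, 6, 82),
     ([(0, 7), (7, 3), (3, 4), (4, 2), (2, 6), (1, 5)], 1, 4, 84),
     ([(0, 6), (6, 2), (2, 4), (4, 3), (3, 7), (1, 5)], 1, 5, 85),
     ([(0, 1), (1, 2), (2, 3), (5, 6)], 1, 5, 87),
     ([(0, 3), (3, 1), (5, 6), (6, 7)], 1, 1, 90),
     ([(0, 5), (5, 2), (2, 4), (1, 6), (6, 3), (3, 7)], 1, 5, 90),
     ([(0, 4), (4, 2), (2, 7), (1, 6), (6, 3), (3, 5)], 1, 6, 91),
     ([(0, 7), (1, 6), (2, 5), (3, 4)], 1, 5, 95),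
     ([(0, 7), (7, 2), (2, 6), (6, 1), (1, 5), (3, 4)], 1, 5, 97),
     ([(0, 7), (1, 5), (5, 2), (2, 6), (6, 3), (3, 4)], 1, 5, 100),
     ([(0, 7), (1, 4), (4, 3), (3, 6), (6, 2), (2, 5)], 1, 6, 102),
     ([(0, 4), (1, 7), (2, 5), (3, 6)], 1, 6, 103),
     ([(0, 1), (1, 2), (2, 3), (4, 5), (5, 7), (7, 6)], 1, 4, 104),
     ([(0, 7), (1, 5), (2, 4), (3, 6)], 1, 4, 105),
     ([(0, 3), (3, 2), (2, 1), (4, 6), (6, 7), (7, 5)], 1, 5, 105),
     ([(0, 6), (1, 5), (2, 7), (3, 4)], 1, 5, 106),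
     ([(0, 1), (1, 2), (2, 3), (4, 6), (6, 7), (7, 5)], 1, 4, 109),
     ([(0, 3), (3, 2), (2, 1), (4, 5), (5, 7), (7, 6)], 1, 5, 110),
     ([(0, 4), (4, 3), (3, 6), (1, 7), (7, 2), (2, 5)], 1, 6, 113),
     ([(0, 5), (5, 1), (1, 6), (6, 2), (2, 7), (3, 4)], 1, 5, 116),
     ([(0, 6), (6, 3), (3, 4), (1, 5), (5, 2), (2, 7)], 1, 5, 120)]

/-- a chunk of the certificate -/
def reps0 : List Word :=
  [[],
     [(0, 5), (1, 4)],
     [(0, 7), (1, 6), (2, 3), (4, 5)],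
     [(0, 1), (1, 2)],
     [(0, 5), (5, 1), (1, 4), (4, 2)],
     [(0, 1), (1, 4), (4, 3), (3, 2), (2, 5), (5, 6)],
     [(0, 1), (1, 2), (2, 3), (3, 4), (4, 5), (5, 6), (6, 7), (7, 8)],
     [(0, 6), (6, 7), (7, 8), (1, 5), (2, 3), (3, 4)],
     [(0, 8), (1, 7), (2, 4), (4, 6)],
     [(1, 2), (2, 3)],
     [(0, 5), (1, 4), (4, 2), (2, 3)],
     [(0, 7), (1, 6), (6, 2), (4, 5)],
     [(0, 2), (2, 1), (1, 3), (3, 4), (4, 5), (5, 6), (6, 7), (7, 8)],
     [(0, 8), (2, 7), (7, 6), (6, 3), (3, 4), (4, 5)],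
     [(0, 8), (1, 2), (2, 3), (3, 7), (7, 4), (4, 5)],
     [(0, 2), (2, 3), (3, 4), (4, 5), (5, 6), (6, 7), (7, 8), (8, 1)],
     [(0, 3), (3, 5), (5, 7), (1, 6), (6, 8), (2, 4)],
     [(0, 2), (2, 6), (6, 7), (7, 8), (8, 1), (3, 5)],
     [(0, 2), (2, 4), (4, 6), (6, 8), (8, 1), (1, 3), (3, 5), (5, 7)],
     [(0, 8), (8, 1)],
     [(0, 2), (2, 6), (6, 8), (8, 1), (1, 3), (3, 7)],
     [(0, 1), (1, 3), (3, 2), (2, 4), (4, 5), (5, 6), (6, 7), (7, 8)],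
     [(0, 6), (6, 7), (7, 8), (1, 5), (2, 4), (4, 3)],
     [(0, 1), (1, 5), (5, 4), (4, 8), (2, 6), (6, 7)],
     [(1, 3), (3, 4), (4, 5), (5, 6), (6, 7), (7, 8)],
     [(0, 8), (8, 1), (2, 3), (3, 7), (7, 4), (4, 5)],
     [(1, 6), (6, 8), (2, 5), (4, 7)],
     [(0, 2), (2, 4), (4, 6), (6, 7), (7, 8), (8, 1), (1, 3), (3, 5)],
     [(0, 5), (5, 8), (8, 1), (1, 6), (6, 4), (4, 3), (3, 2), (2, 7)],
     [(0, 8), (8, 1), (2, 5), (5, 7), (7, 3), (4, 6)],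
     [(0, 8), (8, 2), (3, 7), (4, 5)],
     [(2, 3), (3, 4), (4, 5), (5, 6), (6, 7), (7, 8)]]

/-- a chunk of the certificate -/
def reps1 : List Word :=
  [[(2, 6), (6, 7), (7, 8), (3, 5)],
     [(0, 8), (8, 2), (1, 7), (7, 4), (4, 5), (3, 6)],
     [(0, 8), (8, 2), (1, 3), (4, 7), (7, 6), (6, 5)],
     [(0, 7), (7, 5), (5, 8), (8, 2), (2, 3), (3, 1), (1, 6), (6, 4)],
     [(1, 3), (3, 5), (5, 7), (2, 4), (4, 6), (6, 8)],
     [(0, 5), (5, 3), (3, 4), (4, 7), (1, 8), (8, 2)],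
     [(0, 8), (8, 2), (2, 3), (4, 7), (7, 5), (5, 6)],
     [(0, 2), (2, 4), (4, 5), (5, 6), (6, 7), (7, 8), (8, 1), (1, 3)],
     [(1, 8), (2, 4), (4, 6), (6, 3), (3, 7), (7, 5)],
     [(1, 6), (6, 8), (2, 4), (4, 3), (3, 5), (5, 7)],
     [(0, 5), (5, 2), (1, 8), (4, 7)],
     [(0, 3), (3, 5), (1, 4), (4, 6), (6, 7), (7, 8)],
     [(0, 7), (7, 2), (2, 3), (3, 6), (6, 8), (8, 1), (1, 5), (5, 4)],
     [(0, 1), (2, 3), (3, 4), (4, 7), (7, 8), (5, 6)],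
     [(0, 8), (8, 2), (2, 3), (3, 7), (7, 4), (4, 5)],
     [(0, 8), (8, 2), (2, 4), (4, 3), (3, 7), (7, 5), (5, 6), (6, 1)],
     [(0, 3), (3, 5), (2, 4), (4, 6), (6, 7), (7, 8)],
     [(0, 1), (1, 4), (4, 5), (5, 3), (3, 7), (7, 8), (8, 2), (2, 6)],
     [(0, 3), (3, 7), (7, 4), (4, 8), (8, 2), (2, 6), (6, 1), (1, 5)],
     [(1, 3), (3, 5), (2, 4), (4, 6), (6, 7), (7, 8)],
     [(1, 7), (7, 4), (4, 3), (3, 6), (2, 5), (5, 8)],
     [(0, 8), (8, 2), (2, 5), (5, 3), (3, 1), (4, 7)],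
     [(0, 1), (2, 8), (3, 7), (4, 5)],
     [(2, 3), (3, 6), (6, 7), (7, 8)],
     [(0, 1), (2, 4), (4, 6), (6, 7), (7, 8), (3, 5)],
     [(0, 4), (4, 6), (6, 7), (7, 8), (8, 3), (3, 5)],
     [(0, 8), (8, 3), (3, 2), (4, 7), (7, 6), (6, 5)],
     [(0, 7), (7, 8), (8, 3), (3, 1), (1, 2), (2, 6), (6, 5), (5, 4)],
     [(0, 1), (3, 4), (4, 5), (5, 6), (6, 7), (7, 8)],
     [(0, 2), (2, 5), (1, 4), (3, 6), (6, 7), (7, 8)],
     [(0, 2), (2, 4), (4, 6), (6, 1), (1, 8), (8, 3), (3, 7), (7, 5)],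
     [(1, 2), (3, 4), (4, 5), (5, 6), (6, 7), (7, 8)]]

/-- a chunk of the certificate -/
def reps2 : List Word :=
  [[(0, 1), (1, 4), (2, 5), (3, 6), (6, 7), (7, 8)],
     [(0, 7), (7, 5), (5, 2), (2, 4), (1, 8), (8, 3)],
     [(0, 3), (3, 4), (4, 5), (5, 6), (6, 7), (7, 8), (8, 2), (2, 1)],
     [(0, 1), (1, 6), (6, 8), (8, 2), (2, 4), (4, 3), (3, 5), (5, 7)],
     [(1, 5), (5, 7), (7, 8), (8, 2), (2, 6), (6, 4)],
     [(1, 8), (8, 2), (2, 7), (7, 4), (4, 5), (3, 6)],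
     [(0, 7), (1, 5), (5, 3), (2, 6), (6, 4), (4, 8)],
     [(0, 4), (4, 1), (1, 3), (3, 6), (2, 7), (7, 8)],
     [(0, 3), (3, 5), (5, 1), (1, 4), (4, 6), (6, 7), (7, 8), (8, 2)],
     [(0, 8), (8, 2), (2, 3), (3, 1), (1, 5), (4, 7)],
     [(0, 8), (8, 2), (2, 4), (4, 7), (7, 3), (3, 1)],
     [(0, 1), (2, 6), (6, 7), (7, 8), (3, 4), (4, 5)],
     [(1, 8), (8, 2), (3, 7), (4, 5)],
     [(0, 3), (3, 5), (5, 7), (7, 8), (8, 2), (2, 1)],
     [(0, 1), (1, 2), (2, 4), (4, 6), (6, 7), (7, 8), (8, 3), (3, 5)],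
     [(0, 6), (1, 7), (7, 8), (8, 3), (3, 5), (5, 2)],
     [(0, 2), (2, 6), (6, 1), (1, 7), (7, 8), (8, 3), (3, 4), (4, 5)],
     [(0, 2), (2, 4), (4, 1), (1, 3), (3, 5), (5, 6), (6, 7), (7, 8)],
     [(0, 5), (5, 2), (2, 8), (4, 7)],
     [(0, 5), (5, 4), (4, 8), (1, 7), (2, 3), (3, 6)],
     [(0, 2), (3, 5), (5, 7), (7, 8)],
     [(0, 6), (6, 1), (1, 2), (2, 5), (5, 7), (7, 8), (8, 3), (3, 4)],
     [(2, 6), (6, 7), (7, 8), (8, 3), (3, 4), (4, 5)],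
     [(0, 1), (1, 5), (5, 2), (2, 6), (6, 3), (3, 7), (7, 4), (4, 8)],
     [(0, 8), (1, 2), (2, 7), (7, 4), (4, 5), (3, 6)],
     [(0, 7), (7, 1), (1, 4), (4, 8), (2, 3), (3, 6)],
     [(0, 1), (1, 4), (4, 7), (2, 5), (3, 6), (6, 8)],
     [(0, 8), (8, 3), (3, 6), (6, 5), (5, 2), (2, 1), (1, 7), (7, 4)],
     [(0, 1), (1, 6), (6, 7), (7, 8), (8, 3), (4, 5)],
     [(0, 1), (1, 2), (2, 4), (4, 3), (3, 5), (5, 6), (6, 7), (7, 8)],
     [(0, 4), (4, 2), (2, 6), (6, 1), (1, 3), (3, 5), (5, 7), (7, 8)],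
     [(0, 2), (2, 1), (1, 3), (3, 6), (6, 5), (5, 4), (4, 7), (7, 8)]]

/-- a chunk of the certificate -/
def reps3 : List Word :=
  [[(0, 8), (8, 3), (1, 7), (7, 5), (5, 6), (2, 4)],
     [(1, 8), (8, 3), (3, 2), (4, 7), (7, 6), (6, 5)],
     [(1, 8), (8, 3), (3, 6), (2, 5), (5, 4), (4, 7)],
     [(0, 4), (4, 6), (6, 7), (7, 8), (8, 3), (3, 5), (5, 1), (1, 2)],
     [(0, 2), (2, 6), (6, 4), (4, 8), (8, 3), (3, 7), (7, 5), (5, 1)],
     [(0, 8), (8, 3), (1, 2), (4, 7), (7, 6), (6, 5)],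
     [(0, 2), (2, 1), (1, 3), (4, 6), (6, 7), (7, 8)],
     [(0, 3), (3, 2), (2, 5), (5, 1), (1, 6), (6, 8), (8, 4), (4, 7)],
     [(0, 6), (6, 3), (3, 1), (2, 5), (4, 7), (7, 8)],
     [(0, 2), (3, 4), (4, 5), (5, 6), (6, 7), (7, 8)],
     [(0, 8), (8, 3), (3, 7), (7, 4), (4, 5), (1, 2)],
     [(1, 8), (8, 3), (3, 7), (7, 5), (2, 4), (4, 6)],
     [(0, 2), (2, 1), (1, 3), (3, 5), (5, 6), (6, 7), (7, 8), (8, 4)],
     [(0, 5), (5, 2), (2, 8), (8, 4), (4, 7), (7, 1)],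
     [(0, 7), (7, 8), (8, 4), (4, 1), (1, 6), (2, 5)],
     [(0, 5), (5, 6), (6, 7), (7, 8), (8, 4), (1, 3)],
     [(0, 5), (1, 6), (2, 7), (7, 8), (8, 4), (4, 3)],
     [(0, 1), (1, 3), (3, 6), (2, 7), (7, 8), (8, 4)],
     [(0, 4), (4, 6), (6, 8), (8, 3), (3, 5), (5, 7)],
     [(0, 2), (2, 7), (7, 8), (8, 3), (3, 5), (1, 6)],
     [(0, 8), (8, 3), (3, 5), (5, 7), (7, 1), (1, 2)],
     [(0, 8), (2, 6), (6, 3), (3, 7), (7, 4), (4, 5)],
     [(0, 7), (7, 8), (1, 4), (4, 5), (2, 3), (3, 6)],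
     [(0, 1), (1, 8), (2, 3), (3, 4)],
     [(2, 4), (4, 6), (6, 7), (7, 8), (8, 3), (3, 5)],
     [(0, 1), (2, 6), (6, 7), (7, 8), (8, 3), (4, 5)],
     [(0, 1), (2, 8), (8, 3), (3, 7), (7, 5), (4, 6)],
     [(0, 1), (1, 4), (4, 6), (6, 2), (2, 3), (3, 5), (5, 7), (7, 8)],
     [(0, 5), (5, 1), (1, 7), (7, 2), (2, 3), (3, 6), (6, 4), (4, 8)],
     [(0, 1), (1, 4), (4, 8), (2, 7), (7, 5), (3, 6)],
     [(0, 2), (2, 1), (3, 5), (5, 6), (6, 7), (7, 8)],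
     [(0, 2), (2, 6), (6, 7), (7, 8), (8, 3), (3, 4), (4, 5), (5, 1)]]

/-- a chunk of the certificate -/
def reps4 : List Word :=
  [[(0, 4), (2, 6), (6, 8), (8, 3), (3, 5), (5, 7)],
     [(0, 2), (2, 6), (6, 7), (7, 8), (3, 4), (4, 5)],
     [(0, 5), (5, 1), (1, 3), (3, 4), (4, 2), (2, 6), (6, 7), (7, 8)],
     [(0, 2), (2, 3), (3, 5), (5, 6), (6, 7), (7, 8)],
     [(0, 2), (2, 7), (3, 5), (5, 4), (4, 6), (6, 8)],
     [(0, 2), (2, 1), (1, 6), (6, 5), (5, 7), (7, 8), (8, 3), (3, 4)],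
     [(0, 2), (2, 6), (1, 7), (7, 8), (8, 3), (3, 5)],
     [(1, 4), (4, 8), (8, 3), (3, 7), (7, 5), (2, 6)],
     [(0, 1), (2, 6), (6, 7), (7, 8), (8, 4), (4, 3)],
     [(0, 1), (1, 8), (8, 4), (4, 5), (5, 2), (3, 7)],
     [(0, 5), (5, 7), (7, 8), (8, 4), (4, 2), (2, 1)],
     [(1, 3), (3, 5), (5, 6), (6, 7), (7, 8), (2, 4)],
     [(1, 4), (4, 8), (2, 6), (6, 3), (3, 7), (7, 5)],
     [(0, 3), (3, 6), (6, 2), (2, 5), (5, 8), (8, 1), (1, 7), (7, 4)],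
     [(1, 2), (2, 3), (3, 5), (5, 6), (6, 7), (7, 8)],
     [(0, 4), (4, 2), (2, 6), (6, 8), (8, 1), (1, 3), (3, 5), (5, 7)],
     [(0, 5), (1, 8), (2, 7), (4, 6)],
     [(0, 2), (3, 5), (5, 4), (4, 6), (6, 7), (7, 8)],
     [(0, 2), (2, 6), (6, 5), (5, 7), (7, 8), (8, 3), (3, 1), (1, 4)],
     [(0, 2), (2, 7), (7, 5), (1, 8), (8, 3), (4, 6)],
     [(0, 5), (5, 2), (2, 6), (1, 7), (7, 8), (8, 4)],
     [(0, 3), (1, 8), (8, 4), (4, 7), (7, 5), (2, 6)],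
     [(1, 8), (8, 4), (2, 5), (3, 7)],
     [(1, 2), (2, 3), (3, 6), (6, 4), (4, 7), (7, 8)],
     [(0, 4), (4, 7), (7, 8), (8, 1), (1, 6), (6, 3), (3, 2), (2, 5)],
     [(0, 8), (8, 4), (4, 7), (7, 1), (2, 5), (3, 6)],
     [(0, 5), (5, 3), (3, 7), (1, 2), (2, 6), (4, 8)],
     [(0, 8), (8, 4), (4, 5), (5, 6), (6, 3), (3, 2), (2, 7), (7, 1)],
     [(0, 4), (4, 2), (2, 3), (3, 5), (5, 7), (7, 8), (8, 1), (1, 6)],
     [(1, 3), (3, 6), (6, 5), (5, 4), (4, 7), (7, 8)],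
     [(0, 4), (4, 3), (1, 5), (5, 6), (6, 7), (7, 8)],
     [(0, 8), (8, 1), (1, 5), (5, 2), (3, 6), (4, 7)]]

/-- a chunk of the certificate -/
def reps5 : List Word :=
  [[(1, 4), (4, 6), (6, 2), (2, 8), (3, 7), (7, 5)],
     [(1, 2), (2, 8)],
     [(0, 1), (1, 8), (8, 3), (3, 6), (6, 2), (2, 5), (5, 4), (4, 7)],
     [(0, 4), (2, 7), (3, 8), (5, 6)],
     [(0, 2), (2, 1), (1, 3), (4, 6), (6, 8), (5, 7)],
     [(0, 6), (6, 5), (5, 3), (3, 1), (1, 7), (7, 8), (8, 4), (4, 2)],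
     [(0, 2), (2, 6), (6, 8), (8, 4), (4, 1), (1, 3), (3, 7), (7, 5)],
     [(2, 4), (4, 6), (6, 8), (8, 3), (3, 5), (5, 7)],
     [(2, 6), (6, 4), (4, 8), (8, 3), (3, 7), (7, 5)],
     [(0, 8), (8, 4), (4, 2), (2, 3), (3, 7), (7, 6)],
     [(0, 2), (2, 7), (7, 3), (1, 8), (8, 4), (4, 5)],
     [(0, 3), (4, 6), (6, 7), (7, 8)],
     [(0, 3), (3, 7), (7, 5), (5, 1), (2, 8), (8, 4)],
     [(0, 7), (1, 2), (2, 8), (8, 4), (4, 3), (5, 6)],
     [(0, 4), (1, 2), (2, 3), (5, 6), (6, 7), (7, 8)],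
     [(0, 6), (6, 4), (2, 7), (7, 8), (8, 5), (5, 3)],
     [(0, 4), (4, 2), (2, 7), (7, 8), (8, 5), (1, 6)],
     [(0, 2), (2, 3), (3, 1), (1, 5), (5, 6), (6, 7), (7, 8), (8, 4)],
     [(0, 5), (1, 6), (6, 3), (2, 7), (7, 8), (8, 4)],
     [(0, 8), (8, 4), (4, 6), (6, 7), (7, 2), (2, 1), (1, 5), (5, 3)],
     [(0, 5), (5, 6), (6, 7), (7, 8), (8, 4), (4, 1), (1, 2), (2, 3)],
     [(0, 2), (1, 7), (3, 6), (4, 8)],
     [(0, 6), (1, 5), (5, 2), (2, 7), (7, 8), (8, 4)],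
     [(0, 2), (2, 1), (1, 3), (5, 6), (6, 7), (7, 8)],
     [(0, 4), (4, 8), (8, 5), (5, 7), (7, 1), (1, 6)],
     [(0, 7), (7, 1), (1, 3), (3, 2), (2, 8), (8, 5), (5, 6), (6, 4)],
     [(0, 5), (5, 2), (1, 7), (7, 8), (8, 4), (3, 6)],
     [(0, 2), (2, 7), (7, 8), (8, 4), (1, 3), (3, 6)],
     [(0, 6), (6, 2), (2, 8), (8, 4), (4, 3), (3, 7)],
     [(0, 4), (4, 3), (1, 2), (5, 6), (6, 7), (7, 8)],
     [(0, 1), (1, 3), (2, 6), (6, 4), (5, 7), (7, 8)],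
     [(0, 2), (2, 4), (4, 7), (7, 8), (8, 5), (5, 1), (1, 3), (3, 6)]]

/-- a chunk of the certificate -/
def reps6 : List Word :=
  [[(1, 4), (4, 6), (6, 7), (7, 8), (8, 3), (3, 5)],
     [(0, 7), (7, 8), (8, 3), (3, 5), (5, 2), (1, 6)],
     [(0, 8), (8, 3), (3, 1), (1, 5), (5, 2), (4, 7)],
     [(0, 5), (5, 1), (1, 3), (3, 6), (4, 7), (7, 8)],
     [(0, 8), (8, 4), (4, 3), (3, 2), (2, 7), (7, 6), (6, 1), (1, 5)],
     [(2, 5), (5, 6), (6, 7), (7, 8), (8, 4), (4, 3)],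
     [(1, 4), (4, 2), (2, 5), (5, 6), (6, 7), (7, 8)],
     [(1, 6), (6, 3), (3, 5), (5, 2), (2, 7), (7, 8)],
     [(0, 7), (7, 8), (8, 1), (1, 4), (4, 5), (5, 2), (2, 3), (3, 6)],
     [(0, 2), (2, 6), (6, 7), (7, 8), (8, 3), (4, 5)],
     [(0, 8), (8, 3), (3, 7), (7, 4), (4, 6), (1, 2)],
     [(0, 5), (5, 2), (1, 8), (8, 4), (4, 7), (3, 6)],
     [(1, 8), (8, 4), (4, 6), (2, 7)],
     [(0, 2), (2, 3), (3, 5), (5, 7), (7, 8), (8, 1)],
     [(0, 3), (3, 4), (4, 5), (5, 2), (2, 6), (6, 7), (7, 8), (8, 1)],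
     [(0, 8), (8, 1), (2, 3), (3, 7), (7, 4), (5, 6)],
     [(0, 6), (6, 7), (1, 3), (3, 2), (4, 5), (5, 8)],
     [(0, 8), (8, 4), (4, 7), (7, 5), (5, 3), (3, 6), (6, 1), (1, 2)],
     [(0, 6), (6, 1), (1, 7), (7, 8), (8, 4), (4, 3), (3, 2), (2, 5)],
     [(1, 4), (4, 7), (7, 5), (5, 2), (2, 8), (3, 6)],
     [(0, 4), (1, 2), (2, 6), (6, 5), (5, 7), (7, 8)],
     [(1, 8), (5, 6)],
     [(1, 2), (2, 6), (6, 7), (7, 5), (3, 4), (4, 8)],
     [(0, 8), (8, 3), (3, 1), (1, 4), (2, 6), (5, 7)],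
     [(0, 7), (7, 8), (8, 4), (4, 2), (1, 5), (5, 3)],
     [(0, 8), (8, 4), (4, 5), (5, 2), (3, 6), (6, 7)],
     [(0, 8), (8, 3), (3, 2), (2, 5), (5, 1), (4, 7)],
     [(0, 2), (2, 8), (8, 3), (3, 1), (1, 4), (5, 7)],
     [(0, 6), (6, 5), (5, 7), (7, 8), (8, 4), (4, 1)],
     [(0, 1), (2, 5), (5, 6), (6, 3), (4, 7), (7, 8)],
     [(0, 2), (2, 1), (1, 8), (8, 4), (4, 5), (3, 7)],
     [(0, 5), (1, 8), (8, 4), (4, 2), (2, 7), (7, 6)]]

/-- a chunk of the certificate -/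
def reps7 : List Word :=
  [[(0, 4), (4, 7), (7, 1), (2, 8), (8, 5), (3, 6)],
     [(0, 4), (2, 6), (6, 7), (7, 8), (8, 5), (5, 3)],
     [(0, 7), (7, 8), (8, 5), (1, 6), (6, 2), (2, 4)],
     [(1, 6), (6, 5), (5, 7), (7, 8), (8, 2), (2, 4)],
     [(1, 3), (3, 5), (5, 6), (6, 7), (7, 8), (8, 2)],
     [(0, 1), (1, 6), (6, 3), (3, 5), (5, 7), (7, 8), (8, 2), (2, 4)],
     [(0, 4), (4, 7), (1, 6), (6, 8), (8, 2), (2, 3)],
     [(0, 8), (8, 2), (1, 6), (3, 4), (4, 7), (7, 5)],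
     [(0, 5), (5, 8), (8, 2), (2, 7), (7, 1), (1, 4), (4, 3), (3, 6)],
     [(0, 6), (6, 5), (5, 7), (7, 8), (8, 4), (1, 2)],
     [(0, 5), (5, 3), (3, 1), (1, 6), (6, 2), (2, 7), (7, 8), (8, 4)],
     [(0, 5), (1, 3), (3, 7), (7, 8), (8, 4), (4, 6)],
     [(0, 2), (2, 3), (1, 6), (6, 5), (4, 7), (7, 8)],
     [(0, 3), (3, 1), (1, 8), (8, 4), (4, 7), (7, 5), (5, 2), (2, 6)],
     [(0, 8), (8, 5), (5, 2), (2, 6), (6, 3), (3, 7), (7, 1), (1, 4)],
     [(0, 4), (1, 3), (3, 7), (7, 8), (8, 5), (5, 6)],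
     [(0, 4), (4, 3), (3, 7), (7, 8), (8, 5), (5, 6), (6, 2), (2, 1)],
     [(0, 3), (3, 6), (6, 5), (5, 4), (4, 7), (7, 8), (8, 2), (2, 1)],
     [(1, 6), (6, 7), (7, 8), (8, 2), (2, 4), (3, 5)],
     [(1, 8), (8, 2), (2, 5), (5, 3), (3, 6), (4, 7)],
     [(0, 3), (3, 6), (6, 1), (1, 7), (7, 4), (4, 8), (8, 2), (2, 5)],
     [(0, 6), (6, 3), (1, 7), (7, 8), (8, 4), (2, 5)],
     [(0, 8), (8, 4), (4, 7), (1, 5), (5, 2), (3, 6)],
     [(0, 6), (6, 3), (3, 1), (1, 7), (7, 8), (8, 5), (5, 4), (4, 2)],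
     [(0, 8), (8, 5), (5, 4), (1, 7), (2, 3), (3, 6)],
     [(0, 8), (8, 5), (5, 6), (6, 7), (7, 2), (2, 3)],
     [(0, 8), (8, 2), (1, 5), (5, 3), (3, 6), (4, 7)],
     [(0, 8), (8, 2), (2, 7), (7, 3), (1, 4), (4, 5)],
     [(0, 8), (8, 2), (2, 1), (1, 5), (3, 6), (4, 7)],
     [(1, 5), (2, 6), (6, 7), (7, 8)],
     [(1, 6), (6, 4), (4, 8), (8, 2), (3, 7), (7, 5)],
     [(1, 5), (5, 3), (2, 8), (4, 7)]]

/-- a chunk of the certificate -/
def reps8 : List Word :=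
  [[(0, 8), (8, 4), (4, 7), (7, 2), (2, 3), (3, 5)],
     [(0, 5), (5, 6), (6, 7), (7, 1), (1, 2), (2, 8), (8, 4), (4, 3)],
     [(0, 5), (5, 6), (6, 7), (2, 8), (8, 4), (4, 3)],
     [(1, 8), (8, 4), (4, 7), (2, 5)],
     [(0, 4), (1, 3), (3, 2), (5, 6), (6, 7), (7, 8)],
     [(3, 6), (5, 8)],
     [(0, 4), (4, 7), (7, 8), (8, 5), (5, 2), (2, 3), (3, 6), (6, 1)],
     [(0, 2), (2, 4), (1, 3), (5, 6), (6, 7), (7, 8)],
     [(0, 7), (7, 8), (8, 5), (1, 3), (3, 6), (6, 2)],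
     [(0, 1), (2, 3), (3, 8), (8, 5), (5, 6), (6, 7)],
     [(0, 7), (7, 8), (8, 5), (5, 2), (2, 4), (4, 3), (3, 1), (1, 6)],
     [(0, 1), (1, 8), (8, 5), (5, 7), (7, 6), (6, 3), (3, 4), (4, 2)],
     [(0, 4), (4, 1), (1, 2), (2, 3), (5, 7), (7, 8)],
     [(1, 6), (6, 4), (4, 3), (3, 2), (2, 7), (5, 8)],
     [(0, 4), (4, 2), (2, 6), (1, 7), (7, 8), (8, 5)],
     [(0, 3), (3, 4), (4, 1), (1, 2), (2, 5), (6, 8)],
     [(0, 7), (7, 1), (1, 8), (8, 6), (2, 3), (4, 5)],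
     [(1, 2), (2, 3), (4, 7), (6, 8)],
     [(0, 8), (8, 4), (4, 3), (3, 2), (2, 1), (1, 5), (5, 6), (6, 7)],
     [(0, 5), (5, 7), (7, 8), (8, 4), (4, 1), (1, 3)],
     [(0, 4), (4, 7), (7, 8), (8, 5), (5, 1), (1, 2), (2, 3), (3, 6)],
     [(0, 8), (8, 5), (1, 4), (4, 2), (2, 7), (7, 6)],
     [(0, 8), (8, 5), (5, 4), (1, 2), (2, 7), (3, 6)],
     [(0, 8), (8, 4), (4, 1), (1, 5), (5, 6), (6, 7)],
     [(1, 5), (5, 6), (6, 7), (7, 8), (8, 4), (4, 2)],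
     [(0, 1), (1, 8), (8, 5), (5, 6), (6, 4), (4, 2), (2, 3), (3, 7)],
     [(0, 2), (2, 1), (1, 3), (4, 6), (5, 7), (7, 8)],
     [(0, 3), (3, 4), (4, 2), (2, 6), (6, 8), (8, 5)],
     [(0, 4), (1, 2), (2, 3), (5, 7), (7, 8), (8, 6)],
     [(0, 7), (7, 8), (8, 6), (6, 1), (1, 4), (4, 2), (2, 3), (3, 5)],
     [(0, 3), (1, 4), (2, 8), (8, 6), (6, 7), (7, 5)],
     [(0, 8), (8, 4), (4, 3), (3, 2), (2, 1), (1, 5), (5, 7), (7, 6)]]

/-- a chunk of the certificate -/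
def reps9 : List Word :=
  [[(0, 6), (6, 2), (2, 5), (5, 3), (3, 1), (1, 7), (7, 8), (8, 4)],
     [(0, 6), (6, 4), (4, 2), (2, 1), (1, 8), (8, 5), (5, 3), (3, 7)],
     [(0, 1), (1, 2), (3, 6), (5, 8)],
     [(0, 6), (6, 2), (2, 1), (1, 3), (3, 4), (4, 7), (7, 8), (8, 5)],
     [(0, 8), (8, 5), (5, 2), (2, 4), (4, 6), (6, 3), (3, 7), (7, 1)],
     [(0, 3), (1, 6), (6, 7), (7, 8), (8, 5), (2, 4)],
     [(0, 8), (8, 6), (6, 2), (2, 4), (4, 1), (1, 7), (7, 5), (5, 3)],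
     [(0, 7), (7, 8), (8, 6), (6, 1), (1, 3), (3, 4), (4, 2), (2, 5)],
     [(0, 4), (1, 7), (7, 3), (3, 2), (5, 8), (8, 6)],
     [(0, 1), (1, 4), (4, 6), (6, 7), (7, 8), (8, 3), (3, 5), (5, 2)],
     [(0, 7), (7, 8), (8, 3), (3, 5), (1, 6), (6, 2)],
     [(0, 5), (1, 8), (8, 3), (4, 7)],
     [(0, 2), (2, 7), (7, 1), (1, 8), (8, 4), (4, 5), (5, 6), (6, 3)],
     [(0, 8), (8, 4), (4, 2), (2, 5), (1, 7), (7, 6)],
     [(0, 5), (5, 6), (6, 7), (7, 8), (8, 4), (4, 3), (3, 2), (2, 1)],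
     [(0, 8), (8, 4), (4, 3), (3, 1), (1, 7), (5, 6)],
     [(0, 2), (2, 6), (5, 7), (7, 8)],
     [(0, 6), (6, 7), (7, 2), (2, 8), (8, 5), (5, 1)],
     [(0, 1), (2, 6), (6, 5), (5, 4), (4, 7), (7, 8)],
     [(0, 1), (1, 6), (6, 7), (7, 8), (8, 2), (2, 4), (4, 3), (3, 5)],
     [(0, 1), (1, 2), (2, 7), (7, 8), (8, 4), (5, 6)],
     [(0, 5), (1, 8), (8, 4), (4, 7), (7, 2), (3, 6)],
     [(0, 5), (5, 7), (7, 8), (8, 4), (4, 1), (1, 2), (2, 6), (6, 3)],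
     [(0, 6), (6, 8), (8, 5), (5, 3), (3, 1), (1, 7), (7, 4), (4, 2)],
     [(0, 8), (8, 5), (5, 7), (7, 6), (6, 3), (3, 4), (4, 2), (2, 1)],
     [(0, 1), (1, 4), (2, 6), (6, 5), (5, 7), (7, 8)],
     [(0, 3), (3, 5), (5, 6), (6, 7), (7, 8), (8, 2)],
     [(1, 6), (2, 4), (4, 3), (3, 5), (5, 7), (7, 8)],
     [(0, 4), (1, 6), (6, 5), (5, 7), (7, 8), (8, 2)],
     [(0, 6), (6, 5), (5, 1), (1, 8), (8, 2), (4, 7)],
     [(0, 5), (5, 2), (2, 7), (7, 8), (8, 4), (4, 1), (1, 6), (6, 3)],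
     [(0, 5), (1, 3), (3, 2), (2, 7), (7, 8), (8, 4)]]

/-- a chunk of the certificate -/
def reps10 : List Word :=
  [[(0, 8), (8, 4), (4, 6), (6, 2), (2, 1), (1, 5), (5, 3), (3, 7)],
     [(0, 4), (4, 6), (1, 3), (3, 7), (7, 8), (8, 5)],
     [(0, 4), (4, 3), (3, 2), (5, 6), (6, 7), (7, 8)],
     [(0, 8), (8, 5), (5, 7), (7, 1), (1, 6), (3, 4)],
     [(0, 4), (4, 1), (2, 6), (6, 5), (5, 7), (7, 8)],
     [(0, 1), (1, 6), (2, 8), (3, 4), (4, 7), (7, 5)],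
     [(0, 8), (8, 2), (2, 6), (6, 4), (4, 7), (7, 5), (5, 3), (3, 1)],
     [(0, 1), (2, 7), (7, 8), (3, 5)],
     [(0, 2), (2, 7), (7, 1), (3, 5), (5, 6), (4, 8)],
     [(0, 7), (7, 2), (2, 5), (5, 6), (6, 8), (8, 4)],
     [(0, 8), (8, 4), (4, 5), (1, 2), (3, 6), (6, 7)],
     [(0, 1), (1, 2), (2, 7), (3, 5), (5, 6), (4, 8)],
     [(0, 4), (4, 1), (1, 3), (3, 7), (7, 6), (6, 8), (8, 5), (5, 2)],
     [(0, 8), (8, 5), (5, 1), (1, 4), (4, 7), (7, 2), (2, 3), (3, 6)],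
     [(1, 6), (6, 5), (5, 2), (2, 3), (4, 7), (7, 8)],
     [(0, 2), (2, 8), (8, 5), (5, 3), (3, 6), (6, 4), (4, 7), (7, 1)],
     [(0, 8), (8, 5), (5, 2), (1, 4), (4, 7), (3, 6)],
     [(0, 4), (1, 7), (7, 8), (8, 5), (5, 3), (2, 6)],
     [(0, 8), (8, 5), (1, 7), (7, 4), (4, 6), (6, 2)],
     [(0, 8), (8, 5), (5, 3), (3, 1), (1, 4), (2, 6)],
     [(0, 3), (3, 5), (5, 1), (1, 7), (7, 8), (8, 6)],
     [(0, 3), (3, 2), (2, 4), (1, 8), (8, 6), (5, 7)],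
     [(1, 3), (3, 2), (6, 7), (7, 8)],
     [(0, 2), (2, 1), (1, 3), (3, 5), (5, 7), (7, 8)],
     [(0, 3), (3, 1), (1, 4), (4, 2), (2, 6), (6, 5), (5, 7), (7, 8)],
     [(0, 4), (4, 7), (7, 1), (1, 6), (6, 3), (3, 2), (2, 5), (5, 8)],
     [(0, 5), (5, 1), (1, 2), (2, 6), (6, 8), (8, 3), (3, 7), (7, 4)],
     [(0, 2), (2, 6), (6, 4), (4, 7), (7, 5), (5, 1), (1, 8), (8, 3)],
     [(0, 2), (2, 3), (3, 7), (7, 6), (6, 8), (1, 5)],
     [(0, 2), (2, 3), (3, 4), (4, 1), (1, 6), (6, 5), (5, 7), (7, 8)],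
     [(0, 1), (1, 3), (3, 8), (4, 6)],
     [(2, 7), (7, 8), (8, 3), (3, 5)]]

/-- a chunk of the certificate -/
def reps11 : List Word :=
  [[(0, 8), (8, 3), (2, 6), (6, 4), (4, 7), (7, 5)],
     [(0, 5), (5, 8), (8, 4), (4, 6), (6, 1), (2, 7)],
     [(0, 4), (4, 2), (2, 1), (5, 6), (6, 7), (7, 8)],
     [(1, 7), (7, 4), (4, 6), (6, 8), (8, 5), (5, 3)],
     [(0, 3), (3, 7), (7, 8), (8, 5), (5, 1), (1, 2), (2, 4), (4, 6)],
     [(0, 5), (5, 3), (3, 1), (2, 7), (7, 8), (8, 4)],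
     [(0, 4), (4, 2), (2, 3), (3, 7), (7, 6), (5, 8)],
     [(1, 2), (2, 7), (7, 6), (6, 8), (8, 5), (3, 4)],
     [(0, 1), (1, 8), (8, 5), (3, 6)],
     [(1, 8), (8, 5), (5, 2), (2, 6), (6, 4), (4, 7)],
     [(0, 8), (8, 6), (6, 3), (3, 2), (2, 5), (5, 4)],
     [(0, 2), (2, 4), (4, 5), (5, 7), (1, 3), (6, 8)],
     [(0, 4), (4, 1), (1, 8), (8, 6), (6, 2), (2, 5)],
     [(0, 1), (1, 3), (3, 2), (2, 6), (6, 5), (5, 4), (4, 7), (7, 8)],
     [(0, 1), (1, 6), (6, 7), (7, 8), (2, 4), (3, 5)],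
     [(0, 8), (8, 3), (1, 2), (2, 4), (5, 6), (6, 7)],
     [(0, 8), (8, 3), (3, 6), (6, 4), (4, 7), (7, 2), (2, 5), (5, 1)],
     [(0, 8), (2, 5), (5, 3), (3, 6), (6, 4), (4, 7)],
     [(0, 3), (3, 6), (6, 4), (4, 1), (1, 7), (7, 2), (2, 5), (5, 8)],
     [(0, 8), (8, 3), (3, 4), (4, 7), (1, 2), (2, 5)],
     [(0, 6), (6, 3), (3, 4), (4, 1), (1, 7), (7, 8), (8, 5), (5, 2)],
     [(0, 8), (8, 5), (5, 2), (2, 4), (4, 7), (7, 1)],
     [(0, 5), (5, 1), (1, 3), (2, 4), (6, 7), (7, 8)],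
     [(0, 8), (8, 6), (6, 5), (5, 2), (2, 4), (4, 1), (1, 7), (7, 3)],
     [(0, 1), (1, 2), (3, 4), (4, 5), (6, 7), (7, 8)],
     [(0, 1), (1, 5), (5, 2), (2, 8), (3, 6), (4, 7)],
     [(0, 1), (1, 4), (4, 6), (6, 3), (3, 7), (7, 5), (5, 2), (2, 8)],
     [(0, 8), (1, 2)],
     [(0, 2), (2, 8), (1, 5), (5, 3), (3, 6), (4, 7)],
     [(0, 3), (3, 6), (6, 2), (2, 5), (5, 7), (7, 8)],
     [(0, 1), (1, 2), (2, 6), (6, 5), (5, 4), (4, 3), (3, 7), (7, 8)],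
     [(0, 6), (6, 5), (5, 2), (2, 3), (3, 4), (4, 1), (1, 7), (7, 8)]]

/-- a chunk of the certificate -/
def reps12 : List Word :=
  [[(0, 6), (6, 7), (7, 8), (8, 5), (5, 4), (4, 2), (2, 3), (3, 1)],
     [(0, 4), (4, 7), (7, 8), (8, 5), (5, 3), (3, 6), (6, 2), (2, 1)],
     [(0, 8), (8, 5), (5, 2), (2, 7), (7, 6), (6, 3), (3, 1), (1, 4)],
     [(0, 3), (3, 4), (4, 1), (1, 2), (2, 5), (5, 7), (7, 8), (8, 6)],
     [(0, 7), (7, 8), (8, 6), (6, 5), (1, 2), (2, 3)],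
     [(0, 7), (7, 8), (8, 6), (6, 3), (3, 1), (1, 4), (4, 2), (2, 5)],
     [(0, 5), (1, 3), (3, 2), (2, 4), (6, 7), (7, 8)],
     [(0, 4), (4, 1), (1, 7), (7, 5), (5, 3), (3, 2), (2, 8), (8, 6)],
     [(3, 4), (4, 5), (6, 7), (7, 8)],
     [(0, 8), (8, 6), (1, 4), (4, 2), (2, 7), (7, 5)],
     [(0, 7), (1, 8), (8, 6), (2, 5), (5, 4), (4, 3)],
     [(0, 4), (4, 3), (3, 5), (5, 7), (7, 8), (8, 6), (6, 1), (1, 2)],
     [(0, 7), (7, 3), (1, 2), (2, 8), (8, 6), (6, 4)],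
     [(0, 2), (2, 3), (4, 7), (6, 8)],
     [(0, 2), (2, 5), (3, 4), (6, 8)],
     [(0, 7), (2, 8), (8, 6), (6, 5), (5, 4), (4, 3)],
     [(0, 4), (2, 3), (5, 6), (7, 8)],
     [(0, 6), (1, 5), (2, 4), (7, 8)],
     [(0, 8), (8, 7), (7, 5), (5, 6), (6, 2), (2, 4), (4, 1), (1, 3)],
     [(0, 4), (4, 3), (3, 7), (2, 8), (8, 5), (5, 6)],
     [(0, 4), (4, 7), (7, 8), (8, 5), (5, 2), (2, 1), (1, 3), (3, 6)],
     [(0, 7), (7, 8), (8, 6), (6, 2), (2, 3), (3, 5), (5, 1), (1, 4)],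
     [(0, 2), (2, 7), (7, 8), (8, 6), (6, 5), (1, 3)],
     [(0, 5), (3, 4), (6, 7), (7, 8)],
     [(0, 5), (1, 3), (3, 7), (7, 8), (8, 6), (6, 2)],
     [(0, 8), (8, 6), (6, 2), (2, 1), (1, 3), (5, 7)],
     [(0, 8), (8, 6), (6, 3), (1, 7), (7, 4), (2, 5)],
     [(0, 8), (8, 6), (6, 2), (2, 4), (1, 3), (5, 7)],
     [(0, 8), (8, 6), (6, 2), (2, 5), (5, 3), (3, 1), (1, 7), (7, 4)],
     [(0, 3), (3, 4), (1, 2), (2, 5), (6, 8), (8, 7)],
     [(0, 6), (6, 1), (1, 8), (8, 7), (2, 3), (4, 5)],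
     [(0, 1), (7, 8)]]

/-- a chunk of the certificate -/
def reps13 : List Word :=
  [[(0, 8), (8, 5), (5, 1), (1, 6), (6, 4), (4, 3), (3, 2), (2, 7)],
     [(0, 1), (1, 8), (8, 5), (5, 6), (6, 2), (2, 4), (4, 3), (3, 7)],
     [(0, 8), (8, 6), (6, 3), (3, 5), (5, 1), (1, 4), (4, 7), (7, 2)],
     [(0, 8), (8, 6), (6, 3), (1, 7), (7, 5), (5, 4)],
     [(0, 7), (7, 8), (8, 6), (6, 3), (3, 4), (1, 5)],
     [(0, 7), (7, 8), (8, 6), (6, 1), (1, 2), (2, 3), (3, 4), (4, 5)],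
     [(0, 7), (7, 8), (8, 6), (6, 3), (3, 1), (1, 5), (5, 2), (2, 4)],
     [(0, 8), (8, 6), (6, 2), (2, 7), (7, 5), (5, 3), (3, 1), (1, 4)],
     [(0, 7), (7, 3), (3, 2), (1, 4), (5, 8), (8, 6)],
     [(0, 6), (6, 8), (8, 7), (7, 5), (5, 2), (2, 1), (1, 4), (4, 3)],
     [(1, 8), (8, 7), (7, 6), (6, 3), (2, 5), (5, 4)],
     [(0, 2), (7, 8)],
     [(0, 8), (8, 5), (5, 3), (3, 6), (6, 1), (1, 4), (4, 7), (7, 2)],
     [(1, 8), (8, 5), (5, 6), (6, 7), (7, 2), (2, 3)],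
     [(0, 4), (1, 6), (6, 3), (2, 7), (7, 8), (8, 5)],
     [(0, 6), (6, 7), (1, 3), (3, 2), (4, 8), (8, 5)],
     [(0, 7), (7, 5), (5, 2), (1, 4), (4, 3), (6, 8)],
     [(0, 3), (3, 4), (4, 5), (1, 7), (7, 8), (8, 6)],
     [(0, 1), (1, 2), (2, 3), (3, 6), (6, 5), (5, 4), (4, 7), (7, 8)],
     [(0, 2), (2, 4), (4, 3), (3, 5), (5, 1), (1, 6), (6, 7), (7, 8)],
     [(0, 8), (8, 3), (3, 6), (6, 1), (2, 5), (4, 7)],
     [(0, 2), (2, 7), (7, 8), (8, 4), (4, 1), (5, 6)],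
     [(0, 1), (1, 8), (8, 5), (5, 6), (6, 7), (7, 2), (2, 3), (3, 4)],
     [(0, 4), (4, 3), (3, 2), (2, 8), (8, 5), (5, 6), (6, 7), (7, 1)],
     [(0, 8), (8, 5), (5, 6), (6, 7), (2, 4), (4, 3)],
     [(1, 4), (4, 7), (2, 8), (8, 5)],
     [(0, 1), (1, 2), (2, 3), (3, 5), (5, 7), (7, 8)],
     [(0, 2), (2, 6), (6, 5), (5, 7), (7, 8), (1, 4)],
     [(0, 1), (1, 4), (4, 7), (7, 8), (2, 5), (3, 6)],
     [(0, 2), (2, 7), (1, 5), (5, 8), (8, 3), (3, 4)],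
     [(0, 1), (1, 2), (2, 6), (6, 5), (5, 7), (7, 8), (8, 3), (3, 4)],
     [(0, 4), (4, 1), (1, 6), (6, 5), (5, 7), (7, 8)]]

/-- a chunk of the certificate -/
def reps14 : List Word :=
  [[(0, 6), (6, 5), (5, 2), (2, 1), (1, 8), (4, 7)],
     [(0, 2), (2, 5), (1, 8), (8, 3), (3, 6), (4, 7)],
     [(0, 7), (7, 8), (8, 3), (3, 4), (4, 1), (1, 2), (2, 5), (5, 6)],
     [(0, 5), (5, 1), (1, 3), (2, 7), (7, 8), (8, 4)],
     [(0, 6), (6, 5), (5, 2), (1, 3), (4, 7), (7, 8)],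
     [(0, 6), (6, 4), (4, 2), (2, 8), (8, 5), (5, 3), (3, 1), (1, 7)],
     [(0, 8), (8, 5), (5, 4), (4, 7), (7, 1), (1, 2), (2, 6), (6, 3)],
     [(0, 7), (7, 4), (4, 6), (6, 8), (8, 5), (5, 3), (3, 1), (1, 2)],
     [(0, 8), (8, 5), (5, 7), (7, 4), (4, 3), (3, 2), (2, 1), (1, 6)],
     [(0, 1), (1, 8)],
     [(0, 3), (3, 7), (7, 6), (6, 8), (1, 5), (5, 2)],
     [(0, 1), (1, 4), (4, 2), (2, 3), (3, 6), (6, 5), (5, 7), (7, 8)],
     [(0, 2), (2, 7), (7, 8), (3, 5)],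
     [(0, 7), (7, 6), (6, 8), (1, 5), (2, 3), (3, 4)],
     [(2, 7), (7, 6), (6, 5), (5, 4), (4, 8), (8, 3)],
     [(0, 2), (2, 6), (1, 8), (8, 3), (4, 7), (7, 5)],
     [(0, 4), (4, 7), (7, 3), (3, 6), (6, 1), (1, 2), (2, 8), (8, 5)],
     [(0, 8), (8, 5), (5, 2), (2, 6), (6, 4), (4, 7)],
     [(0, 5), (5, 7), (7, 1), (1, 8), (8, 6), (3, 4)],
     [(0, 7), (7, 8), (8, 6), (6, 3), (3, 5), (5, 2)],
     [(0, 3), (2, 4), (4, 7), (7, 5), (5, 8), (8, 6)],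
     [(0, 4), (4, 2), (2, 6), (6, 7), (7, 8), (8, 5), (5, 3), (3, 1)],
     [(0, 8), (8, 5), (1, 4), (4, 7), (7, 3), (3, 6)],
     [(0, 3), (3, 1), (1, 4), (2, 8), (8, 6), (5, 7)],
     [(0, 8), (8, 6), (6, 5), (5, 7), (7, 3), (3, 2), (2, 4), (4, 1)],
     [(0, 3), (3, 5), (5, 2), (1, 7), (7, 8), (8, 6)],
     [(0, 8), (8, 6), (6, 2), (1, 3), (3, 4), (5, 7)],
     [(0, 8), (8, 7), (7, 1), (1, 6), (6, 2), (3, 5)],
     [(0, 8), (8, 7), (7, 5), (5, 1), (1, 6), (2, 4)],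
     [(0, 8), (8, 7), (7, 3), (3, 1), (1, 6), (6, 4)],
     [(1, 3), (3, 5), (5, 7), (7, 8)],
     [(0, 2), (2, 4), (1, 6), (6, 5), (5, 7), (7, 8)]]

/-- a chunk of the certificate -/
def reps15 : List Word :=
  [[(1, 4), (4, 3), (3, 5), (5, 7), (7, 8), (2, 6)],
     [(0, 5), (5, 8), (8, 1), (1, 7), (7, 2), (2, 3), (3, 6), (6, 4)],
     [(0, 7), (7, 8), (8, 1), (1, 4), (4, 3), (3, 5)],
     [(1, 5), (5, 8), (2, 7), (4, 6)],
     [(0, 4), (4, 7), (7, 2), (2, 3), (1, 6), (6, 8)],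
     [(0, 8), (8, 3), (1, 4), (4, 7), (7, 5), (2, 6)],
     [(0, 8), (8, 3), (3, 2), (2, 6), (4, 7), (7, 5)],
     [(0, 3), (3, 6), (6, 2), (2, 5), (5, 1), (1, 8), (8, 4), (4, 7)],
     [(0, 5), (1, 2), (3, 4), (6, 8)],
     [(0, 8), (8, 6), (6, 2), (2, 4), (4, 1), (1, 5)],
     [(0, 4), (4, 1), (1, 5), (5, 2), (2, 7), (7, 8), (8, 6), (6, 3)],
     [(0, 7), (7, 4), (4, 8), (8, 6), (6, 5), (5, 2), (2, 1), (1, 3)],
     [(0, 7), (7, 8), (8, 6), (6, 4), (4, 1), (1, 3)],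
     [(0, 4), (4, 2), (1, 7), (7, 8), (8, 6), (6, 3)],
     [(0, 3), (3, 4), (1, 2), (2, 5), (5, 6), (7, 8)],
     [(0, 6), (6, 5), (5, 1), (1, 2), (2, 3), (7, 8)],
     [(0, 4), (4, 1), (1, 6), (6, 3), (2, 5), (7, 8)],
     [(1, 8), (2, 5), (3, 6), (4, 7)],
     [(0, 2), (2, 5), (1, 7), (7, 4), (4, 8), (3, 6)],
     [(0, 8), (8, 1), (1, 2), (2, 5), (5, 3), (3, 6), (6, 4), (4, 7)],
     [(1, 6), (6, 5), (5, 8), (2, 7), (7, 4), (4, 3)],
     [(1, 7), (7, 4), (4, 8), (8, 3), (3, 6), (2, 5)],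
     [(0, 2), (2, 6), (3, 7), (7, 5), (5, 4), (4, 8)],
     [(0, 2), (1, 7), (3, 6), (5, 8)],
     [(0, 7), (7, 5), (5, 3), (1, 4), (2, 8), (8, 6)],
     [(0, 8), (8, 6), (6, 2), (2, 1), (1, 5), (5, 4), (4, 3), (3, 7)],
     [(0, 8), (8, 6), (1, 3), (3, 2), (2, 7), (4, 5)],
     [(0, 8), (8, 6), (6, 3), (3, 1), (1, 7), (7, 5), (5, 2), (2, 4)],
     [(0, 2), (2, 1), (3, 4), (4, 5), (6, 7), (7, 8)],
     [(0, 6), (6, 2), (2, 4), (4, 1), (1, 8), (8, 7), (7, 5), (5, 3)],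
     [(0, 6), (6, 1), (1, 3), (3, 4), (4, 5), (7, 8)],
     [(0, 5), (1, 6), (6, 2), (2, 4), (4, 3), (7, 8)]]

/-- a chunk of the certificate -/
def reps16 : List Word :=
  [[(0, 2), (2, 8), (8, 1), (1, 5), (3, 6), (4, 7)],
     [(0, 5), (5, 2), (2, 6), (6, 8), (8, 1), (4, 7)],
     [(1, 5), (5, 2), (2, 8), (4, 7)],
     [(0, 3), (1, 7), (7, 5), (5, 8), (2, 6), (6, 4)],
     [(0, 2), (2, 3), (3, 6), (6, 5), (5, 4), (4, 7), (7, 8), (8, 1)],
     [(1, 6), (6, 7), (7, 8), (2, 4), (4, 3), (3, 5)],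
     [(0, 2), (2, 7), (1, 4), (4, 5), (5, 3), (6, 8)],
     [(0, 2), (2, 6), (6, 7), (7, 8), (8, 5), (5, 3), (3, 1), (1, 4)],
     [(0, 7), (7, 6), (6, 1), (1, 8), (8, 5), (5, 3), (3, 2), (2, 4)],
     [(0, 8), (8, 6), (6, 7), (7, 5), (5, 2), (2, 4), (4, 1), (1, 3)],
     [(0, 7), (7, 8), (8, 6), (2, 3), (3, 4), (4, 5)],
     [(0, 8), (8, 6), (6, 5), (5, 4), (4, 3), (3, 2), (2, 1), (1, 7)],
     [(0, 6), (6, 1), (1, 4), (2, 3), (3, 5), (7, 8)],
     [(0, 3), (3, 1), (2, 4), (4, 6), (5, 8), (8, 7)],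
     [(0, 8), (8, 7), (7, 5), (5, 6), (6, 1), (1, 3), (3, 2), (2, 4)],
     [(0, 8), (8, 7), (7, 5), (5, 3), (1, 4), (2, 6)],
     [(0, 6), (1, 4), (4, 2), (2, 3), (3, 5), (7, 8)],
     [(0, 6), (6, 5), (5, 8), (8, 7), (7, 3), (3, 2), (2, 1), (1, 4)],
     [(0, 6), (6, 5), (5, 4), (1, 2), (2, 3), (7, 8)],
     [(0, 5), (1, 2), (3, 4), (7, 8)],
     [(0, 3), (3, 5), (5, 1), (1, 2), (2, 6), (7, 8)],
     [(0, 6), (1, 5), (5, 2), (2, 4), (4, 3), (7, 8)],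
     [(0, 8), (8, 7), (7, 5), (5, 6), (1, 3), (2, 4)],
     [(0, 6), (6, 3), (3, 1), (1, 5), (5, 2), (2, 8), (8, 7), (7, 4)],
     [(0, 5), (5, 1), (1, 2), (3, 4), (6, 7), (7, 8)],
     [(0, 3), (1, 2), (2, 7), (7, 8), (8, 6), (6, 4)],
     [(0, 3), (3, 5), (1, 6), (7, 8)],
     [(0, 3), (3, 2), (2, 4), (4, 1), (1, 8), (8, 7), (7, 5), (5, 6)],
     [(0, 3), (3, 1), (1, 2), (4, 5), (5, 6), (7, 8)],
     [(0, 3), (3, 5), (1, 2), (2, 7), (7, 8), (8, 6)],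
     [(0, 7), (7, 8), (8, 6), (6, 3), (1, 4), (2, 5)],
     [(0, 8), (8, 6), (6, 2), (2, 1), (1, 7), (3, 5)]]

/-- a chunk of the certificate -/
def reps17 : List Word :=
  [[(0, 2), (2, 5), (5, 1), (3, 4), (6, 8), (8, 7)],
     [(0, 8), (8, 7), (7, 3), (1, 2), (2, 6), (6, 4)],
     [(0, 4), (4, 3), (3, 5), (5, 6), (1, 2), (7, 8)],
     [(0, 6), (6, 4), (1, 2), (2, 8), (8, 7), (7, 3)],
     [(0, 3), (3, 4), (4, 2), (2, 7), (7, 5), (6, 8)],
     [(0, 2), (2, 4), (4, 1), (1, 3), (3, 8), (8, 7)],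
     [(0, 6), (6, 3), (3, 4), (4, 1), (1, 5), (7, 8)],
     [(0, 3), (3, 6), (6, 2), (2, 8), (8, 7), (7, 1), (1, 5), (5, 4)],
     [(0, 8), (8, 6), (6, 4), (4, 7), (1, 5), (5, 3)],
     [(0, 1), (1, 4), (4, 5), (2, 3), (3, 6), (7, 8)],
     [(0, 2), (2, 6), (6, 8), (8, 7), (7, 1), (1, 4), (4, 5), (5, 3)],
     [(1, 4), (4, 5), (5, 2), (2, 3), (3, 6), (7, 8)],
     [(0, 4), (2, 6), (6, 5), (5, 8), (8, 7), (7, 3)],
     [(1, 2), (3, 6)],
     [(0, 2), (2, 1), (1, 3), (3, 4), (4, 5), (5, 6)],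
     [(0, 4), (4, 1), (2, 6), (5, 7)],
     [(0, 4), (4, 1), (1, 7), (7, 8), (8, 5), (5, 2), (2, 6), (6, 3)],
     [(0, 8), (8, 5), (5, 3), (3, 6), (6, 2), (2, 1), (1, 4), (4, 7)],
     [(0, 7), (7, 8), (8, 6), (1, 3), (3, 4), (4, 5)],
     [(0, 3), (3, 1), (2, 4), (4, 8), (8, 6), (5, 7)],
     [(0, 6), (6, 2), (2, 8), (8, 7), (7, 4), (4, 1), (1, 5), (5, 3)],
     [(0, 2), (2, 1), (1, 8), (8, 7), (3, 5), (4, 6)],
     [(0, 3), (3, 8), (8, 7), (7, 2), (2, 5), (5, 6), (6, 1), (1, 4)],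
     [(0, 8), (8, 1), (2, 5), (5, 3), (3, 6), (4, 7)],
     [(0, 6), (6, 3), (3, 1), (1, 7), (7, 8), (8, 4), (4, 5), (5, 2)],
     [(1, 3), (2, 7), (4, 8), (5, 6)],
     [(0, 5), (5, 7), (7, 8), (8, 6), (6, 3), (1, 4)],
     [(0, 7), (7, 5), (5, 3), (3, 2), (2, 8), (8, 6), (6, 1), (1, 4)],
     [(0, 7), (1, 3), (3, 2), (2, 8), (8, 6), (4, 5)],
     [(0, 7), (7, 4), (4, 8), (8, 1), (1, 5), (3, 6)],
     [(0, 2), (2, 4), (4, 5), (5, 8), (8, 1), (1, 3), (3, 6), (6, 7)],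
     [(0, 3), (3, 4), (4, 2), (2, 7), (1, 5), (5, 8)]]

/-- a chunk of the certificate -/
def reps18 : List Word :=
  [[(0, 2), (2, 6), (6, 5), (5, 7), (7, 8), (8, 3), (3, 4), (4, 1)],
     [(0, 2), (2, 7), (7, 8), (8, 4), (4, 6), (6, 3)],
     [(0, 5), (5, 6), (6, 7), (7, 8), (8, 4), (4, 2)],
     [(0, 4), (4, 7), (7, 8), (8, 1), (1, 6), (6, 5), (5, 2), (2, 3)],
     [(1, 7), (7, 2), (2, 5), (5, 8), (3, 4), (4, 6)],
     [(1, 7), (7, 8), (8, 4), (4, 6), (6, 5), (5, 3)],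
     [(0, 8), (8, 5), (5, 1), (1, 6), (6, 7), (7, 2)],
     [(0, 8), (8, 6), (1, 4), (4, 3), (3, 5), (5, 7)],
     [(0, 8), (8, 6), (6, 4), (4, 1), (1, 7), (7, 3)],
     [(0, 5), (5, 8), (8, 1), (1, 7), (7, 2), (4, 6)],
     [(0, 8), (8, 1), (1, 3), (3, 6), (6, 5), (5, 4), (4, 7), (7, 2)],
     [(0, 2), (1, 7), (7, 4), (4, 8)],
     [(0, 8), (8, 3), (3, 6), (6, 1), (1, 4), (4, 7), (7, 2), (2, 5)],
     [(0, 2), (1, 8), (8, 3), (3, 6), (6, 4), (4, 7)],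
     [(0, 1), (1, 8), (8, 6), (6, 2), (2, 5), (4, 7)],
     [(0, 4), (4, 3), (3, 2), (2, 1), (1, 8), (8, 6), (6, 5), (5, 7)],
     [(0, 4), (1, 6), (6, 7), (7, 8), (8, 5), (5, 3)],
     [(0, 6), (6, 1), (1, 3), (3, 5), (5, 2), (7, 8)],
     [(0, 3), (3, 8), (8, 7), (7, 1), (1, 4), (4, 2), (2, 5), (5, 6)],
     [(0, 8), (8, 7), (7, 5), (5, 3), (3, 2), (2, 6), (6, 1), (1, 4)],
     [(0, 5), (5, 1), (3, 4), (7, 8)],
     [(0, 6), (6, 2), (2, 8), (8, 7), (7, 5), (5, 3), (3, 1), (1, 4)],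
     [(0, 8), (8, 7), (1, 3), (3, 2), (2, 6), (4, 5)],
     [(0, 2), (2, 4), (4, 8), (8, 7), (7, 1), (1, 3)],
     [(0, 6), (6, 4), (4, 1), (1, 8), (8, 7), (7, 3)],
     [(0, 4), (4, 5), (5, 1), (1, 3), (3, 6), (6, 2), (2, 8), (8, 7)],
     [(0, 4), (4, 6), (6, 2), (2, 7), (7, 3), (1, 5)],
     [(0, 2), (2, 4), (4, 1), (1, 3), (3, 5), (5, 6)],
     [(0, 5), (5, 7), (7, 2), (2, 1), (1, 4), (3, 6)],
     [(0, 1), (1, 8), (8, 2), (2, 6), (6, 4), (4, 7), (7, 5), (5, 3)],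
     [(0, 5), (5, 3), (3, 7), (7, 4), (2, 6), (6, 8)],
     [(0, 8), (8, 2), (2, 1), (1, 3), (3, 6), (6, 4), (4, 7), (7, 5)]]

/-- a chunk of the certificate -/
def reps19 : List Word :=
  [[(0, 8), (8, 2), (2, 3), (3, 6), (6, 4), (4, 7), (7, 1), (1, 5)],
     [(1, 6), (6, 5), (2, 8), (4, 7)],
     [(0, 1), (1, 6), (6, 5), (2, 8), (3, 4), (4, 7)],
     [(0, 8), (8, 4), (4, 1), (1, 6), (6, 7), (2, 3)],
     [(0, 7), (7, 3), (3, 4), (4, 2), (2, 5), (6, 8)],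
     [(0, 6), (1, 3), (3, 5), (7, 8)],
     [(0, 5), (5, 2), (2, 4), (4, 3), (1, 6), (7, 8)],
     [(0, 2), (2, 4), (4, 5), (5, 6), (6, 8), (8, 7), (7, 1), (1, 3)],
     [(0, 5), (1, 8), (8, 6), (6, 7)],
     [(0, 3), (3, 5), (5, 1), (1, 6), (6, 2), (7, 8)],
     [(0, 7), (1, 2), (2, 4), (4, 5), (5, 3), (6, 8)],
     [(0, 3), (3, 4), (4, 6), (1, 2), (2, 5), (7, 8)],
     [(0, 1), (1, 2), (2, 8), (8, 7), (3, 5), (4, 6)],
     [(0, 8), (8, 7), (7, 5), (5, 2), (2, 4), (1, 3)],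
     [(0, 1), (1, 8), (8, 2), (2, 5), (3, 6), (4, 7)],
     [(1, 7), (7, 4), (4, 8), (8, 2), (2, 5), (3, 6)],
     [(0, 3), (1, 6), (6, 5), (5, 4), (2, 7), (7, 8)],
     [(1, 6), (6, 8), (8, 2), (3, 7), (7, 5), (5, 4)],
     [(0, 8), (8, 3), (3, 4), (4, 7), (7, 2), (2, 5)],
     [(0, 6), (1, 2), (2, 3), (3, 4), (4, 5), (7, 8)],
     [(0, 8), (8, 7), (7, 6), (6, 5), (5, 2), (2, 4), (4, 1), (1, 3)],
     [(0, 8), (8, 7), (7, 5), (5, 4), (4, 1), (1, 6), (6, 3), (3, 2)],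
     [(0, 8), (8, 7), (7, 5), (5, 2), (2, 4), (4, 1), (1, 6), (6, 3)],
     [(0, 4), (4, 5), (1, 3), (3, 6), (6, 2), (7, 8)],
     [(0, 2), (2, 5), (1, 6), (6, 3), (3, 4), (7, 8)],
     [(0, 2), (3, 6)],
     [(2, 3), (3, 4), (5, 6), (6, 7)],
     [(0, 4), (1, 2), (2, 6), (5, 7)],
     [(1, 8), (8, 2), (2, 5), (4, 7)],
     [(1, 3), (3, 7), (7, 8), (8, 2), (2, 6), (6, 5)],
     [(0, 1), (1, 5), (2, 8), (4, 7)],
     [(0, 3), (3, 1), (1, 7), (7, 5), (5, 8), (8, 2), (2, 6), (6, 4)]]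

/-- a chunk of the certificate -/
def reps20 : List Word :=
  [[(1, 6), (6, 7), (7, 8), (8, 2), (3, 4), (4, 5)],
     [(0, 8), (8, 2), (2, 7), (7, 3), (3, 4), (4, 5)],
     [(1, 8), (8, 2), (2, 6), (6, 3), (3, 5), (4, 7)],
     [(0, 1), (1, 7), (7, 4), (4, 8), (8, 2), (2, 6), (6, 3), (3, 5)],
     [(0, 5), (5, 6), (6, 4), (1, 8), (8, 7), (2, 3)],
     [(0, 8), (8, 5), (5, 6), (6, 4), (4, 2), (2, 3), (3, 1), (1, 7)],
     [(0, 6), (6, 5), (5, 2), (1, 3), (4, 8), (8, 7)],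
     [(0, 6), (1, 3), (3, 2), (2, 8), (8, 7), (4, 5)],
     [(0, 6), (6, 2), (2, 5), (1, 4), (4, 3), (7, 8)],
     [(0, 3), (3, 6), (6, 2), (2, 5), (5, 4), (4, 1), (1, 8), (8, 7)],
     [(0, 8), (8, 7), (7, 5), (5, 3), (3, 1), (1, 6), (6, 2), (2, 4)],
     [(0, 4), (4, 1), (1, 6), (6, 5), (5, 8), (8, 7), (7, 3), (3, 2)],
     [(0, 2), (2, 6), (6, 5), (5, 1), (1, 3), (7, 8)],
     [(0, 8), (8, 7), (7, 5), (5, 6), (6, 2), (1, 3)],
     [(0, 4), (4, 3), (3, 1), (1, 8), (8, 7), (5, 6)],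
     [(2, 3), (3, 4)],
     [(0, 1), (3, 5), (5, 4), (6, 7)],
     [(0, 3), (3, 5), (5, 2), (2, 1), (1, 6), (7, 8)],
     [(0, 8), (8, 7), (7, 5), (5, 6), (6, 2), (2, 1), (1, 3), (3, 4)],
     [(0, 3), (1, 8), (8, 7), (7, 5), (5, 6), (2, 4)],
     [(0, 1), (1, 2), (2, 3), (3, 4)],
     [(1, 3), (3, 5), (5, 6), (2, 4)],
     [(3, 5), (5, 6)],
     [(0, 4), (1, 6), (6, 7), (7, 3), (3, 2), (2, 5)],
     [(0, 4), (4, 3), (3, 7), (7, 5), (5, 1), (1, 2)],
     [(0, 5), (1, 4), (4, 2), (3, 6)],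
     [(0, 3), (3, 5), (1, 6), (6, 7)],
     [(0, 5), (5, 2), (2, 7), (7, 8), (8, 6), (6, 1), (1, 4), (4, 3)],
     [(0, 6), (6, 5), (5, 4), (4, 1), (1, 3), (7, 8)],
     [(0, 1), (1, 2), (2, 3), (3, 4), (4, 5), (5, 6)],
     [(0, 2), (1, 4), (4, 3), (3, 6), (6, 7), (7, 5)],
     [(2, 3), (3, 6), (6, 4), (5, 7)]]

/-- a chunk of the certificate -/
def reps21 : List Word :=
  [[(0, 1), (2, 6), (6, 3), (3, 4)],
     [(1, 3), (3, 6)],
     [(0, 1), (1, 3), (3, 7), (7, 8), (4, 5), (5, 6)],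
     [(0, 1), (1, 7), (7, 6), (6, 8), (2, 4), (3, 5)],
     [(0, 1), (1, 4), (4, 3), (3, 5), (5, 6), (7, 8)],
     [(0, 8), (8, 7), (1, 4), (4, 6), (2, 3), (3, 5)],
     [(0, 8), (8, 7), (7, 6), (6, 3), (3, 2), (2, 5), (5, 4), (4, 1)],
     [(0, 1), (1, 8), (8, 2), (2, 5), (5, 3), (3, 6), (6, 4), (4, 7)],
     [(0, 6), (2, 3), (3, 5), (7, 8)],
     [(0, 8), (8, 7), (7, 1), (1, 5), (5, 6), (6, 4), (4, 2), (2, 3)],
     [(0, 8), (8, 2), (2, 1), (1, 6), (6, 4), (4, 7), (7, 5), (5, 3)],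
     [(0, 5), (5, 3), (1, 6), (6, 4), (2, 7), (7, 8)],
     [(0, 4), (4, 1), (1, 6), (6, 5), (5, 7), (7, 8), (8, 2), (2, 3)],
     [(0, 8), (8, 2), (2, 6), (6, 1), (1, 3), (3, 7), (7, 4), (4, 5)],
     [(0, 3), (3, 7), (7, 8), (8, 2), (4, 5), (5, 6)],
     [(0, 1), (1, 6), (6, 7), (7, 8), (8, 3), (3, 4), (4, 5), (5, 2)],
     [(0, 4), (4, 8), (8, 2), (2, 1), (1, 5), (3, 7)],
     [(0, 1), (1, 5), (5, 6), (6, 4), (2, 7), (7, 8)],
     [(0, 4), (4, 1), (1, 5), (5, 8), (8, 2), (3, 7)],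
     [(0, 3), (3, 6), (6, 1), (1, 5), (2, 8), (4, 7)],
     [(1, 3), (3, 5), (5, 4), (6, 7)],
     [(0, 5), (5, 2), (1, 4), (3, 6)],
     [(0, 2), (2, 4), (4, 3), (3, 6), (6, 7), (7, 5)],
     [(0, 5), (5, 4), (4, 7), (1, 6), (6, 2), (2, 3)],
     [(0, 4), (4, 1), (1, 2), (2, 5)],
     [(0, 1), (1, 4), (4, 2), (2, 6), (6, 7), (7, 5)],
     [(0, 5), (5, 4), (4, 3), (3, 6), (6, 7), (1, 2)],
     [(0, 2), (2, 6), (6, 7), (7, 5)],
     [(0, 1), (1, 3), (3, 7), (7, 6), (6, 2), (4, 5)],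
     [(0, 3), (3, 5), (5, 6), (2, 4)],
     [(0, 8), (2, 5), (3, 6), (4, 7)],
     [(0, 2), (2, 5), (5, 8), (1, 7), (7, 4), (3, 6)]]

/-- a chunk of the certificate -/
def reps22 : List Word :=
  [[(0, 2), (2, 6), (6, 4), (4, 7), (7, 5), (5, 3), (3, 1), (1, 8)],
     [(0, 7), (7, 4), (4, 1), (1, 5), (5, 8), (3, 6)],
     [(0, 2), (2, 7), (7, 8), (1, 4), (4, 3), (5, 6)],
     [(0, 1), (1, 3), (3, 7), (7, 6), (6, 8), (2, 5)],
     [(0, 8), (2, 3), (3, 6), (6, 5), (5, 4), (4, 7)],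
     [(1, 7), (7, 8), (8, 3), (3, 2), (2, 5), (5, 4)],
     [(0, 8), (8, 3), (3, 6), (1, 2), (2, 5), (4, 7)],
     [(0, 8), (8, 4), (4, 7), (7, 5), (5, 1), (1, 6), (6, 2), (2, 3)],
     [(0, 6), (1, 5), (2, 3), (3, 4)],
     [(1, 2), (2, 3), (3, 5), (5, 6)],
     [(0, 6), (6, 2), (2, 1), (1, 4), (4, 8), (8, 7), (7, 5), (5, 3)],
     [(0, 2), (2, 4), (4, 3), (3, 5), (5, 6), (6, 1)],
     [(0, 2), (2, 3), (3, 6), (6, 1)],
     [(1, 2), (3, 7), (7, 6), (4, 5)],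
     [(0, 1), (1, 5), (5, 3), (3, 7), (7, 4), (4, 2), (2, 6), (6, 8)],
     [(0, 8), (1, 2), (2, 6), (6, 3), (3, 5), (4, 7)],
     [(0, 7), (7, 5), (5, 6), (1, 8), (8, 3), (2, 4)],
     [(0, 1), (1, 6), (6, 5), (5, 4), (4, 3), (3, 2), (2, 7), (7, 8)],
     [(0, 1), (3, 4)],
     [(1, 2), (2, 6), (6, 7), (7, 5)],
     [(0, 1), (1, 4), (4, 3), (3, 2), (2, 5), (5, 6), (6, 7), (7, 8)],
     [(0, 3), (3, 7), (7, 8), (1, 2), (4, 5), (5, 6)],
     [(0, 8), (1, 6), (6, 4), (4, 7), (7, 5), (5, 3)],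
     [(0, 1), (2, 6), (6, 7), (7, 5), (3, 4), (4, 8)],
     [(0, 2), (2, 8), (1, 5), (4, 7)],
     [(0, 2), (2, 6), (6, 5), (5, 4), (4, 1), (1, 3), (3, 7), (7, 8)],
     [(0, 1), (1, 6), (6, 7), (7, 8), (3, 4), (4, 5)],
     [(0, 7), (7, 6), (6, 5), (5, 1), (1, 2), (2, 4), (4, 3), (3, 8)],
     [(0, 1), (1, 2), (2, 5), (3, 6), (6, 7), (7, 4)],
     [(0, 2), (2, 4), (4, 3), (3, 7), (7, 6), (6, 5)],
     [(0, 1), (1, 3), (3, 4), (4, 2)],
     [(0, 2), (2, 3), (3, 5), (5, 6)]]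

/-- a chunk of the certificate -/
def reps23 : List Word :=
  [[(0, 7), (7, 5), (1, 4), (4, 2)],
     [(1, 2), (3, 4)],
     [(1, 2), (2, 3), (3, 5), (5, 4)],
     [(0, 7), (1, 3), (2, 6), (4, 5)],
     [(0, 1), (1, 3), (2, 5), (6, 7)],
     [(0, 6), (6, 1), (1, 3), (3, 2), (2, 7), (4, 5)],
     [(0, 2), (2, 3), (3, 4), (4, 1)],
     [(0, 6), (6, 1), (1, 3), (3, 5), (5, 4), (4, 7)],
     [(0, 5), (5, 1), (1, 6), (6, 2), (3, 4), (4, 7)],
     [(0, 2), (2, 3), (3, 4), (4, 5), (5, 6), (6, 1)],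
     [(0, 1), (1, 2), (2, 3), (3, 6), (6, 4), (5, 7)],
     [(0, 1), (2, 6), (3, 4), (4, 5)],
     [(0, 2), (2, 4), (4, 6), (6, 1), (1, 3), (3, 5), (5, 7), (7, 8)],
     [(0, 1), (1, 2), (2, 4), (4, 3), (3, 7), (7, 6), (6, 5), (5, 8)],
     [(0, 2), (2, 6), (6, 3), (3, 4)],
     [(0, 1), (1, 3), (3, 6), (6, 2)],
     [(0, 8), (1, 2), (2, 5), (5, 3), (3, 6), (4, 7)],
     [(0, 2), (2, 7), (7, 8), (3, 5), (5, 6), (6, 4)],
     [(1, 8), (2, 3), (3, 6), (6, 5), (5, 4), (4, 7)],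
     [(1, 2), (2, 3), (3, 7), (7, 8), (4, 6), (6, 5)],
     [(0, 3), (3, 5), (2, 4), (4, 6)],
     [(0, 5), (5, 3), (3, 7), (7, 4), (4, 2), (2, 1), (1, 6), (6, 8)],
     [(0, 1), (1, 3), (3, 6), (6, 5), (5, 2), (2, 4), (4, 7), (7, 8)],
     [(0, 6), (6, 4), (4, 7), (7, 8), (8, 3), (3, 2), (2, 1), (1, 5)],
     [(0, 8), (8, 3), (3, 6), (6, 1), (1, 5), (4, 7)],
     [(0, 3), (3, 7), (7, 6), (6, 8), (1, 2), (2, 5)],
     [(0, 1), (1, 7), (7, 6), (6, 3), (3, 5), (5, 2), (2, 4), (4, 8)],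
     [(1, 2), (2, 4), (4, 3), (3, 6), (6, 7), (7, 5)],
     [(0, 6), (6, 7), (1, 3), (3, 5)],
     [(0, 1), (1, 8), (2, 5), (4, 7)],
     [(0, 1), (1, 3), (3, 6), (6, 5), (5, 4), (4, 7), (7, 2), (2, 8)],
     [(0, 8), (2, 4), (4, 7), (7, 6), (6, 3), (3, 5)]]

/-- a chunk of the certificate -/
def reps24 : List Word :=
  [[(1, 2), (2, 6), (6, 4), (4, 8), (3, 7), (7, 5)],
     [(0, 4), (4, 3), (3, 2), (2, 5), (5, 6), (6, 7), (7, 8), (8, 1)],
     [(0, 5), (5, 3), (3, 7), (7, 4), (4, 2), (2, 6), (6, 8), (8, 1)],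
     [(0, 2), (2, 8), (8, 1), (1, 6), (6, 4), (4, 7), (7, 5), (5, 3)],
     [(1, 5), (5, 6), (6, 7), (7, 8), (2, 4), (4, 3)],
     [(1, 3), (3, 7), (7, 8), (4, 6)],
     [(0, 8), (8, 1), (1, 5), (4, 7)],
     [(0, 3), (3, 2), (2, 7), (7, 8), (8, 1), (1, 5), (5, 6), (6, 4)],
     [(0, 7), (7, 2), (1, 5), (5, 8), (3, 4), (4, 6)],
     [(0, 7), (7, 6), (6, 5), (5, 8), (8, 1), (1, 2), (2, 4), (4, 3)],
     [(1, 5), (5, 2), (2, 3), (3, 7), (7, 4), (4, 8)],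
     [(0, 1), (1, 7), (7, 8), (8, 3), (2, 5), (5, 4)],
     [(1, 4), (4, 2), (2, 3), (3, 6), (6, 7), (7, 5)],
     [(0, 8), (8, 1), (2, 4), (4, 6), (3, 7), (7, 5)],
     [(0, 2), (1, 6), (6, 3), (3, 5), (5, 7), (7, 8)],
     [(0, 2), (1, 6), (6, 7), (7, 8), (3, 4), (4, 5)],
     [(0, 7), (7, 1), (1, 4), (4, 6), (6, 2), (2, 8)],
     [(0, 3), (3, 5), (5, 7), (7, 8), (2, 4), (4, 6)],
     [(0, 2), (2, 7), (7, 8), (3, 5), (5, 4), (4, 6)],
     [(0, 3), (3, 4), (4, 2), (1, 5), (5, 7), (7, 8)],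
     [(0, 5), (1, 8), (2, 3), (3, 6), (6, 4), (4, 7)],
     [(0, 8), (8, 2), (2, 5), (1, 3), (3, 6), (4, 7)],
     [(0, 8), (1, 5), (5, 7), (2, 6)],
     [(1, 6), (6, 4), (4, 8), (2, 7)],
     [(1, 5), (5, 7), (7, 4), (4, 8), (2, 6), (6, 3)],
     [(0, 8), (8, 2), (2, 7), (7, 1), (1, 4), (4, 5), (5, 6), (6, 3)],
     [(0, 1), (2, 7), (7, 3), (3, 5), (5, 4), (4, 8)],
     [(0, 1), (1, 5), (2, 3), (3, 7), (7, 4), (4, 8)],
     [(0, 3), (3, 1), (1, 7), (7, 8), (8, 2), (2, 6), (6, 5), (5, 4)],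
     [(0, 2), (1, 6), (6, 4), (4, 8), (3, 7), (7, 5)],
     [(0, 1), (1, 2), (2, 6), (6, 3), (3, 5), (5, 7), (7, 8), (8, 4)],
     [(0, 6), (6, 3), (1, 5), (5, 7), (7, 8), (8, 4)]]

/-- a chunk of the certificate -/
def reps25 : List Word :=
  [[(0, 7), (7, 8), (8, 5), (5, 1), (1, 3), (3, 6)],
     [(0, 7), (7, 5), (5, 3), (3, 1), (1, 8), (8, 6), (6, 2), (2, 4)],
     [(0, 5), (5, 2), (2, 1), (3, 6), (4, 7), (7, 8)],
     [(0, 5), (5, 2), (1, 6), (6, 3), (4, 7), (7, 8)],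
     [(0, 7), (7, 5), (5, 1), (1, 8), (8, 6), (2, 4)],
     [(0, 5), (5, 3), (3, 1), (1, 2), (4, 7), (6, 8)],
     [(0, 8), (8, 7), (7, 5), (5, 4), (1, 6), (6, 3)],
     [(0, 1), (1, 4), (4, 6), (6, 7), (7, 8), (8, 2), (2, 5), (5, 3)],
     [(0, 1), (3, 6)],
     [(0, 6), (6, 4), (1, 3), (7, 8)],
     [(0, 6), (6, 4), (1, 2), (7, 8)],
     [(0, 8), (8, 7), (7, 3), (3, 1), (1, 6), (6, 5), (5, 2), (2, 4)],
     [(0, 2), (2, 6), (6, 7), (7, 5), (5, 1), (1, 4)],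
     [(0, 6), (6, 7), (7, 5), (1, 4)],
     [(0, 5), (5, 1), (1, 2), (3, 4), (6, 8), (8, 7)],
     [(0, 3), (2, 4), (4, 8), (8, 7), (7, 5), (5, 6)],
     [(0, 2), (2, 5), (5, 3), (3, 8), (8, 7), (7, 1), (1, 6), (6, 4)],
     [(1, 3), (3, 5), (2, 4), (4, 6)],
     [(0, 6), (6, 8), (8, 5), (5, 1), (1, 4), (4, 2)],
     [(0, 8), (8, 7), (7, 3), (3, 2), (1, 4), (5, 6)],
     [(0, 1), (1, 2), (3, 5), (5, 6)],
     [(0, 5), (5, 1), (1, 4), (2, 6), (6, 7), (7, 3)],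
     [(0, 4), (4, 2), (2, 5), (3, 6)],
     [(0, 2), (2, 1), (1, 4), (4, 3), (3, 5), (5, 6), (6, 7), (7, 8)],
     [(0, 5), (1, 4), (2, 8), (8, 6)],
     [(0, 3), (3, 6), (6, 2), (2, 1)],
     [(0, 2), (2, 3), (3, 7), (7, 8), (4, 5), (5, 6)],
     [(0, 2), (2, 3), (3, 7), (1, 4), (4, 6), (6, 5)],
     [(0, 4), (4, 6), (6, 5), (1, 2), (2, 3), (3, 7)],
     [(0, 2), (2, 7), (7, 5), (1, 4)],
     [(0, 1), (1, 3), (3, 6), (6, 7), (7, 5), (2, 4)],
     [(0, 3), (3, 6), (6, 7), (7, 5), (1, 4), (4, 2)]]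

/-- a chunk of the certificate -/
def reps26 : List Word :=
  [[(1, 3), (3, 6), (6, 7), (7, 5), (5, 2), (2, 4)],
     [(1, 4), (4, 3), (3, 7), (7, 5)],
     [(0, 1), (1, 2), (2, 4), (4, 3), (3, 5), (5, 6)],
     [(0, 1), (1, 4), (2, 5), (5, 3)],
     [(1, 6), (6, 8), (2, 5), (5, 3), (3, 7), (7, 4)],
     [(0, 2), (2, 5), (5, 1), (1, 7), (7, 8), (8, 6), (6, 3), (3, 4)],
     [(0, 1), (1, 5), (5, 4), (2, 8), (8, 6), (6, 3)],
     [(2, 3), (3, 5), (5, 4), (6, 7)],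
     [(0, 3), (3, 1), (2, 5), (6, 7)],
     [(0, 8), (8, 1), (1, 2), (2, 6), (6, 4), (4, 7), (7, 5), (5, 3)],
     [(0, 6), (6, 8), (1, 2), (3, 7), (7, 5), (5, 4)],
     [(0, 8), (1, 5), (5, 2), (4, 7)],
     [(1, 8), (2, 5), (5, 3), (4, 7)],
     [(0, 8), (2, 4), (4, 6), (6, 3), (3, 7), (7, 5)],
     [(0, 8), (8, 3), (3, 7), (7, 5), (5, 1), (1, 2), (2, 4), (4, 6)],
     [(0, 8), (8, 3), (3, 2), (2, 4), (4, 1), (1, 7), (7, 5), (5, 6)],
     [(1, 8), (8, 3), (2, 5), (4, 7)],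
     [(0, 8), (8, 4), (4, 1), (1, 5), (5, 6), (6, 7), (7, 2), (2, 3)],
     [(1, 3), (3, 4), (4, 5), (5, 6)],
     [(0, 6), (6, 1), (1, 5), (5, 2), (2, 3), (3, 4)],
     [(0, 4), (4, 1), (2, 5), (3, 6)],
     [(0, 6), (6, 1), (1, 4), (4, 3), (2, 5), (7, 8)],
     [(0, 1), (1, 2), (2, 4), (4, 3)],
     [(2, 4), (4, 8), (8, 7), (7, 3)],
     [(0, 6), (6, 3), (1, 4), (2, 7), (7, 8), (8, 5)],
     [(0, 1), (1, 2), (2, 3), (3, 5), (5, 7), (7, 6)],
     [(0, 1), (1, 2), (2, 3), (3, 5), (5, 4), (6, 7)],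
     [(1, 2), (2, 6), (6, 3), (3, 4)],
     [(0, 2), (2, 1), (1, 4), (4, 3), (3, 7), (7, 5)],
     [(0, 8), (8, 2), (1, 5), (4, 7)],
     [(2, 3), (3, 7), (7, 8), (5, 6)],
     [(1, 6), (6, 3), (3, 5), (5, 7), (7, 8), (8, 2)]]

/-- a chunk of the certificate -/
def reps27 : List Word :=
  [[(0, 1), (1, 6), (6, 4), (4, 5), (5, 8), (2, 7)],
     [(0, 1), (2, 6), (6, 4), (4, 8), (3, 7), (7, 5)],
     [(0, 4), (4, 2), (2, 7), (7, 5)],
     [(0, 8), (1, 4), (4, 6), (2, 7)],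
     [(1, 5), (5, 6), (6, 4), (2, 7), (7, 8), (8, 3)],
     [(0, 8), (8, 6), (1, 4), (2, 7), (7, 5), (5, 3)],
     [(0, 3), (1, 7), (7, 8), (8, 6), (6, 5), (5, 4)],
     [(0, 8), (8, 1), (2, 4), (4, 7), (7, 5), (3, 6)],
     [(0, 5), (5, 8), (2, 7), (4, 6)],
     [(1, 7), (7, 4), (2, 5), (5, 8)],
     [(0, 8), (8, 7), (1, 4), (4, 5), (2, 3), (3, 6)],
     [(0, 3), (3, 5), (5, 6), (6, 4), (4, 1), (1, 2), (2, 7), (7, 8)],
     [(0, 8), (8, 3), (3, 6), (6, 2), (2, 5), (4, 7)],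
     [(0, 1), (1, 3), (3, 7), (7, 2), (2, 6), (6, 5), (5, 4), (4, 8)],
     [(0, 3), (3, 7), (7, 4), (1, 2), (2, 6), (6, 8)],
     [(0, 4), (4, 2), (2, 8), (8, 1), (1, 3), (3, 6), (6, 5), (5, 7)],
     [(0, 1), (1, 7), (3, 5), (5, 4), (4, 6), (6, 8)]]

/-- a chunk of the certificate -/
def steps0 : List (Vec × How) :=
  [([(0, 1), (1, 1), (2, 1)], .kill 2 [([], [(0, 1), (1, 11), (2, 39)]), ([], [(0, 2), (2, 108), (1, 147)]), ([], [(0, 3), (1, 20), (2, 5)]), ([], [(0, 4), (2, 42), (1, 45)]), ([], [(0, 5), (1, 5), (2, 3)]), ([], [(0, 6), (1, 6), (2, 15)]), ([], [(2, 178), (1, 8), (0, 178)])]),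
     ([(3, 1), (4, 1), (5, 1)], .tr 0 0 [(3, 0), (4, 0), (5, 184)]),
     ([(6, 1), (7, 1), (8, 1)], .tr 0 1 [(6, 0), (7, 0), (8, 0)]),
     ([(9, 1), (10, 1), (11, 1)], .tr 1 0 [(9, 1), (10, 11), (11, 173)]),
     ([(12, 1), (13, 1), (14, 1)], .tr 1 1 [(12, 0), (14, 160), (13, 102)]),
     ([(15, 1), (16, 1), (17, 1)], .tr 2 0 [(15, 0), (16, 55), (17, 156)]),
     ([(18, 1), (19, 1), (20, 1)], .tr 2 1 [(18, 0), (19, 167), (20, 178)]),
     ([(21, 1), (22, 1), (23, 1)], .tr 3 1 [(21, 0), (22, 0), (23, 177)]),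
     ([(24, 1), (25, 1), (26, 1)], .tr 4 0 [(24, 0), (26, 127), (25, 0)]),
     ([(27, 1), (28, 1), (29, 1)], .tr 4 1 [(27, 90), (29, 18), (28, 158)]),
     ([(30, 1), (31, 1), (32, 1)], .tr 5 0 [(31, 0), (30, 98), (32, 0)]),
     ([(33, 1), (34, 1), (35, 1)], .tr 5 1 [(33, 186), (34, 28), (35, 52)]),
     ([(36, 1), (37, 1), (38, 1)], .tr 6 0 [(36, 0), (38, 42), (37, 179)]),
     ([(39, 1), (40, 1), (41, 1)], .tr 7 0 [(39, 0), (41, 126), (40, 143)]),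
     ([(42, 1), (43, 1), (44, 1)], .tr 7 1 [(43, 120), (44, 64), (42, 165)]),
     ([(45, 1), (46, 1), (47, 1)], .tr 8 0 [(45, 25), (46, 0), (47, 186)]),
     ([(48, 1), (49, 1), (50, 1)], .tr 8 1 [(48, 90), (50, 151), (49, 138)]),
     ([(51, 1), (52, 1), (53, 1)], .tr 9 0 [(51, 0), (52, 53), (53, 153)]),
     ([(54, 1), (55, 1), (56, 1)], .tr 9 1 [(54, 170), (56, 177), (55, 42)]),
     ([(57, 1), (58, 1), (59, 1)], .tr 10 1 [(58, 59), (57, 90), (59, 157)]),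
     ([(60, 1), (61, 1), (62, 1)], .tr 11 1 [(61, 129), (60, 55), (62, 131)]),
     ([(63, 1), (64, 1), (65, 1)], .tr 12 1 [(64, 4), (65, 140), (63, 45)]),
     ([(66, 1), (67, 1), (68, 1)], .tr 13 0 [(66, 1), (68, 70), (67, 0)]),
     ([(69, 1), (70, 1), (71, 1)], .tr 13 1 [(69, 124), (71, 78), (70, 185)]),
     ([(72, 1), (73, 1), (74, 1)], .tr 14 0 [(73, 1), (72, 0), (74, 113)]),
     ([(75, 1), (76, 1), (77, 1)], .tr 14 1 [(75, 85), (76, 102), (77, 156)]),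
     ([(78, 1), (79, 1), (80, 1)], .tr 15 1 [(78, 27), (79, 62), (80, 155)]),
     ([(81, 1), (82, 1), (83, 1)], .tr 16 0 [(81, 5), (82, 162), (83, 13)]),
     ([(84, 1), (85, 1), (86, 1)], .tr 16 1 [(85, 100), (86, 74), (84, 78)]),
     ([(87, 1), (88, 1), (89, 1)], .tr 17 0 [(88, 190), (87, 133), (89, 182)]),
     ([(90, 1), (91, 1), (92, 1)], .tr 17 1 [(90, 0), (91, 41), (92, 169)]),
     ([(93, 1), (94, 1), (95, 1)], .tr 18 0 [(94, 117), (95, 83), (93, 5)])]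

/-- a chunk of the certificate -/
def steps1 : List (Vec × How) :=
  [([(96, 1), (97, 1), (98, 1)], .tr 18 1 [(97, 79), (98, 130), (96, 166)]),
     ([(99, 1), (100, 1), (101, 1)], .tr 19 0 [(99, 0), (101, 0), (100, 100)]),
     ([(102, 1), (103, 1), (104, 1)], .tr 19 1 [(103, 2), (102, 154), (104, 167)]),
     ([(105, 1), (106, 1), (107, 1)], .tr 20 0 [(105, 0), (106, 143), (107, 0)]),
     ([(108, 1), (109, 1), (110, 1)], .tr 20 1 [(108, 31), (110, 34), (109, 148)]),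
     ([(111, 1), (112, 1), (113, 1)], .tr 21 1 [(111, 100), (112, 185), (113, 36)]),
     ([(114, 1), (115, 1), (116, 1)], .tr 22 1 [(114, 0), (115, 104), (116, 96)]),
     ([(117, 1), (118, 1), (119, 1)], .tr 23 0 [(117, 1), (119, 180), (118, 77)]),
     ([(120, 1), (121, 1), (122, 1)], .tr 23 1 [(122, 0), (120, 149), (121, 113)]),
     ([(123, 1), (124, 1), (125, 1)], .tr 24 0 [(123, 141), (125, 70), (124, 21)]),
     ([(126, 1), (127, 1), (128, 1)], .tr 24 1 [(128, 64), (127, 116), (126, 116)]),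
     ([(129, 1), (130, 1), (131, 1)], .tr 25 0 [(129, 0), (130, 65), (131, 141)]),
     ([(132, 1), (101, 1), (133, 1)], .tr 25 1 [(132, 0), (101, 59), (133, 73)]),
     ([(134, 1), (135, 1), (91, 1)], .tr 26 0 [(91, 102), (134, 141), (135, 138)]),
     ([(136, 1), (137, 1), (138, 1)], .tr 26 1 [(137, 129), (138, 65), (136, 70)]),
     ([(139, 1), (140, 1), (141, 1)], .tr 27 0 [(139, 0), (140, 170), (141, 150)]),
     ([(142, 1), (143, 1), (144, 1)], .tr 27 1 [(143, 1), (144, 144), (142, 65)]),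
     ([(145, 1), (146, 1), (147, 1)], .tr 28 0 [(145, 83), (147, 113), (146, 164)]),
     ([(148, 1), (149, 1), (150, 1)], .tr 28 1 [(150, 184), (148, 126), (149, 165)]),
     ([(151, 1), (139, 1), (152, 1)], .tr 29 1 [(139, 6), (152, 161), (151, 101)]),
     ([(153, 1), (154, 1), (155, 1)], .tr 30 1 [(154, 20), (155, 38), (153, 82)]),
     ([(156, 1), (157, 1), (158, 1)], .tr 31 0 [(158, 2), (156, 25), (157, 0)]),
     ([(159, 1), (160, 1), (161, 1)], .tr 31 1 [(160, 122), (161, 102), (159, 125)]),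
     ([(58, 1), (162, 1), (163, 1)], .tr 32 0 [(163, 67), (58, 1), (162, 0)]),
     ([(164, 1), (165, 1), (166, 1)], .tr 32 1 [(166, 161), (164, 15), (165, 79)]),
     ([(167, 1), (168, 1), (97, 1)], .tr 33 0 [(167, 69), (168, 0), (97, 1)]),
     ([(169, 1), (170, 1), (171, 1)], .tr 33 1 [(170, 115), (169, 111), (171, 154)]),
     ([(164, 1), (172, 1), (173, 1)], .tr 34 0 [(164, 148), (173, 6), (172, 186)]),
     ([(174, 1), (175, 1), (176, 1)], .tr 34 1 [(174, 75), (176, 22), (175, 85)]),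
     ([(177, 1), (178, 1), (179, 1)], .tr 35 1 [(177, 49), (178, 93), (179, 56)]),
     ([(180, 1), (181, 1), (182, 1)], .tr 36 0 [(180, 8), (181, 143), (182, 83)]),
     ([(183, 1), (184, 1), (185, 1)], .tr 36 1 [(184, 154), (185, 134), (183, 36)])]

/-- a chunk of the certificate -/
def steps2 : List (Vec × How) :=
  [([(186, 1), (187, 1), (188, 1)], .tr 37 0 [(188, 40), (186, 133), (187, 0)]),
     ([(189, 1), (190, 1), (191, 1)], .tr 37 1 [(191, 34), (189, 87), (190, 166)]),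
     ([(192, 1), (193, 1), (194, 1)], .tr 38 0 [(192, 90), (193, 141), (194, 47)]),
     ([(195, 1), (196, 1), (197, 1)], .tr 38 1 [(195, 7), (197, 177), (196, 28)]),
     ([(198, 1), (199, 1), (200, 1)], .tr 39 0 [(198, 105), (200, 0), (199, 162)]),
     ([(78, 1), (201, 1), (202, 1)], .tr 40 0 [(78, 0), (201, 0), (202, 90)]),
     ([(203, 1), (204, 1), (182, 1)], .tr 40 1 [(204, 130), (203, 129), (182, 74)]),
     ([(205, 1), (206, 1), (207, 1)], .tr 41 1 [(207, 117), (205, 54), (206, 40)]),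
     ([(208, 1), (209, 1), (210, 1)], .tr 42 1 [(208, 174), (209, 155), (210, 56)]),
     ([(211, 1), (212, 1), (213, 1)], .tr 43 1 [(211, 173), (213, 102), (212, 157)]),
     ([(214, 1), (97, 1), (215, 1)], .tr 44 0 [(215, 78), (97, 1), (214, 31)]),
     ([(216, 1), (217, 1), (171, 1)], .tr 44 1 [(216, 12), (171, 154), (217, 96)]),
     ([(120, 1), (218, 1), (219, 1)], .tr 45 0 [(219, 21), (218, 162), (120, 96)]),
     ([(220, 1), (155, 1), (221, 1)], .tr 45 1 [(221, 57), (220, 91), (155, 38)]),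
     ([(111, 1), (222, 1), (223, 1)], .tr 46 0 [(223, 117), (222, 0), (111, 89)]),
     ([(224, 1), (225, 1), (226, 1)], .tr 46 1 [(224, 65), (226, 132), (225, 50)]),
     ([(227, 1), (228, 1), (229, 1)], .tr 47 1 [(229, 109), (227, 33), (228, 115)]),
     ([(230, 1), (231, 1), (232, 1)], .tr 48 1 [(230, 26), (232, 0), (231, 90)]),
     ([(233, 1), (234, 1), (235, 1)], .tr 49 1 [(233, 100), (235, 10), (234, 43)]),
     ([(236, 1), (110, 1), (237, 1)], .tr 50 0 [(110, 83), (237, 0), (236, 162)]),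
     ([(238, 1), (239, 1), (240, 1)], .tr 50 1 [(238, 49), (240, 45), (239, 160)]),
     ([(48, 1), (241, 1), (242, 1)], .tr 51 0 [(241, 141), (48, 5), (242, 111)]),
     ([(243, 1), (244, 1), (229, 1)], .tr 51 1 [(243, 122), (229, 109), (244, 120)]),
     ([(245, 1), (195, 1), (246, 1)], .tr 52 0 [(246, 7), (245, 52), (195, 145)]),
     ([(247, 1), (248, 1), (249, 1)], .tr 52 1 [(247, 52), (248, 8), (249, 168)]),
     ([(250, 1), (38, 1), (251, 1)], .tr 53 1 [(38, 84), (250, 125), (251, 166)]),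
     ([(252, 1), (253, 1), (232, 1)], .tr 54 0 [(252, 0), (253, 43), (232, 96)]),
     ([(254, 1), (45, 1), (255, 1)], .tr 54 1 [(254, 0), (255, 148), (45, 25)]),
     ([(102, 1), (256, 1), (257, 1)], .tr 55 1 [(102, 154), (256, 101), (257, 19)]),
     ([(258, 1), (259, 1), (171, 1)], .tr 56 0 [(171, 175), (259, 51), (258, 181)]),
     ([(260, 1), (261, 1), (262, 1)], .tr 56 1 [(260, 10), (262, 70), (261, 112)]),
     ([(263, 1), (264, 1), (265, 1)], .tr 58 1 [(264, 93), (265, 50), (263, 75)])]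

/-- a chunk of the certificate -/
def steps3 : List (Vec × How) :=
  [([(260, 1), (266, 1), (267, 1)], .tr 59 1 [(260, 10), (267, 164), (266, 84)]),
     ([(268, 1), (269, 1), (270, 1)], .tr 60 0 [(268, 89), (269, 61), (270, 25)]),
     ([(271, 1), (272, 1), (273, 1)], .tr 60 1 [(271, 13), (272, 128), (273, 74)]),
     ([(274, 1), (275, 1), (210, 1)], .tr 61 0 [(275, 119), (210, 83), (274, 11)]),
     ([(276, 1), (277, 1), (278, 1)], .tr 61 1 [(276, 14), (278, 73), (277, 134)]),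
     ([(279, 1), (148, 1), (280, 1)], .tr 62 0 [(280, 1), (279, 147), (148, 83)]),
     ([(281, 1), (282, 1), (283, 1)], .tr 62 1 [(283, 13), (281, 85), (282, 12)]),
     ([(284, 1), (285, 1), (286, 1)], .tr 63 1 [(284, 75), (285, 92), (286, 120)]),
     ([(287, 1), (288, 1), (138, 1)], .tr 64 0 [(288, 111), (287, 160), (138, 107)]),
     ([(289, 1), (290, 1), (291, 1)], .tr 64 1 [(289, 0), (290, 123), (291, 72)]),
     ([(248, 1), (292, 1), (293, 1)], .tr 65 0 [(248, 74), (292, 93), (293, 164)]),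
     ([(294, 1), (295, 1), (296, 1)], .tr 65 1 [(294, 172), (296, 169), (295, 61)]),
     ([(297, 1), (298, 1), (299, 1)], .tr 66 0 [(297, 0), (298, 0), (299, 1)]),
     ([(300, 1), (188, 1), (301, 1)], .tr 66 1 [(300, 84), (188, 16), (301, 162)]),
     ([(233, 1), (302, 1), (303, 1)], .tr 67 0 [(303, 121), (233, 178), (302, 2)]),
     ([(304, 1), (305, 1), (270, 1)], .tr 67 1 [(270, 41), (305, 20), (304, 20)]),
     ([(51, 1), (306, 1), (307, 1)], .tr 68 1 [(307, 142), (51, 190), (306, 98)]),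
     ([(308, 1), (137, 1), (288, 1)], .tr 69 1 [(137, 129), (308, 100), (288, 21)]),
     ([(148, 1), (309, 1), (310, 1)], .tr 70 0 [(309, 0), (310, 115), (148, 83)]),
     ([(311, 1), (282, 1), (312, 1)], .tr 70 1 [(311, 109), (312, 150), (282, 12)]),
     ([(313, 1), (314, 1), (315, 1)], .tr 71 0 [(314, 141), (313, 164), (315, 147)]),
     ([(316, 1), (317, 1), (74, 1)], .tr 71 1 [(316, 73), (317, 145), (74, 61)]),
     ([(318, 1), (319, 1), (320, 1)], .tr 72 0 [(320, 21), (319, 184), (318, 77)]),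
     ([(321, 1), (322, 1), (323, 1)], .tr 72 1 [(321, 175), (323, 51), (322, 125)]),
     ([(324, 1), (325, 1), (34, 1)], .tr 73 0 [(325, 89), (324, 0), (34, 92)]),
     ([(66, 1), (326, 1), (327, 1)], .tr 73 1 [(327, 128), (326, 170), (66, 141)]),
     ([(164, 1), (328, 1), (329, 1)], .tr 74 1 [(329, 18), (164, 15), (328, 61)]),
     ([(102, 1), (330, 1), (331, 1)], .tr 75 0 [(331, 52), (330, 0), (102, 1)]),
     ([(263, 1), (332, 1), (333, 1)], .tr 75 1 [(332, 54), (333, 135), (263, 75)]),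
     ([(180, 1), (334, 1), (204, 1)], .tr 76 1 [(204, 130), (334, 128), (180, 13)]),
     ([(249, 1), (335, 1), (292, 1)], .tr 77 1 [(335, 182), (249, 168), (292, 65)]),
     ([(336, 1), (337, 1), (191, 1)], .tr 78 1 [(191, 34), (337, 74), (336, 73)])]

/-- a chunk of the certificate -/
def steps4 : List (Vec × How) :=
  [([(338, 1), (339, 1), (176, 1)], .tr 79 0 [(339, 55), (338, 156), (176, 141)]),
     ([(340, 1), (341, 1), (342, 1)], .tr 79 1 [(341, 80), (340, 34), (342, 178)]),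
     ([(343, 1), (344, 1), (345, 1)], .tr 80 0 [(344, 8), (343, 141), (345, 81)]),
     ([(146, 1), (346, 1), (347, 1)], .tr 80 1 [(347, 12), (146, 157), (346, 63)]),
     ([(348, 1), (349, 1), (350, 1)], .tr 81 0 [(349, 100), (348, 135), (350, 161)]),
     ([(105, 1), (351, 1), (352, 1)], .tr 81 1 [(352, 149), (351, 22), (105, 102)]),
     ([(220, 1), (353, 1), (154, 1)], .tr 82 0 [(220, 0), (154, 109), (353, 142)]),
     ([(354, 1), (355, 1), (356, 1)], .tr 82 1 [(356, 188), (354, 151), (355, 144)]),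
     ([(334, 1), (357, 1), (182, 1)], .tr 83 0 [(334, 0), (182, 83), (357, 152)]),
     ([(183, 1), (358, 1), (359, 1)], .tr 83 1 [(358, 14), (183, 36), (359, 164)]),
     ([(282, 1), (360, 1), (361, 1)], .tr 84 0 [(282, 156), (360, 33), (361, 135)]),
     ([(362, 1), (363, 1), (364, 1)], .tr 84 1 [(363, 181), (364, 13), (362, 50)]),
     ([(81, 1), (365, 1), (366, 1)], .tr 85 0 [(81, 5), (365, 1), (366, 0)]),
     ([(85, 1), (367, 1), (368, 1)], .tr 85 1 [(85, 100), (368, 191), (367, 166)]),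
     ([(369, 1), (370, 1), (345, 1)], .tr 86 0 [(369, 20), (370, 3), (345, 81)]),
     ([(145, 1), (346, 1), (371, 1)], .tr 86 1 [(371, 162), (145, 134), (346, 63)]),
     ([(372, 1), (322, 1), (373, 1)], .tr 88 0 [(373, 121), (322, 80), (372, 179)]),
     ([(374, 1), (375, 1), (376, 1)], .tr 88 1 [(374, 60), (375, 175), (376, 120)]),
     ([(377, 1), (378, 1), (379, 1)], .tr 89 0 [(377, 141), (379, 45), (378, 106)]),
     ([(380, 1), (381, 1), (350, 1)], .tr 90 0 [(380, 141), (381, 174), (350, 161)]),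
     ([(12, 1), (382, 1), (383, 1)], .tr 91 0 [(382, 22), (12, 25), (383, 166)]),
     ([(174, 1), (384, 1), (338, 1)], .tr 92 1 [(174, 75), (338, 87), (384, 31)]),
     ([(263, 1), (385, 1), (386, 1)], .tr 93 1 [(386, 118), (385, 106), (263, 75)]),
     ([(387, 1), (388, 1), (389, 1)], .tr 94 1 [(387, 53), (388, 99), (389, 59)]),
     ([(390, 1), (391, 1), (392, 1)], .tr 95 1 [(390, 90), (391, 41), (392, 120)]),
     ([(387, 1), (393, 1), (394, 1)], .tr 96 1 [(387, 53), (394, 5), (393, 72)]),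
     ([(395, 1), (396, 1), (397, 1)], .tr 97 1 [(396, 88), (395, 191), (397, 165)]),
     ([(398, 1), (399, 1), (342, 1)], .tr 98 0 [(399, 146), (398, 156), (342, 75)]),
     ([(400, 1), (401, 1), (402, 1)], .tr 98 1 [(401, 2), (402, 163), (400, 71)]),
     ([(322, 1), (403, 1), (404, 1)], .tr 99 1 [(403, 101), (404, 188), (322, 125)]),
     ([(405, 1), (406, 1), (407, 1)], .tr 100 1 [(405, 95), (406, 161), (407, 40)]),
     ([(408, 1), (409, 1), (410, 1)], .tr 102 1 [(408, 132), (410, 60), (409, 91)])]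

/-- a chunk of the certificate -/
def steps5 : List (Vec × How) :=
  [([(405, 1), (411, 1), (412, 1)], .tr 103 0 [(412, 181), (405, 0), (411, 77)]),
     ([(413, 1), (414, 1), (415, 1)], .tr 103 1 [(413, 49), (415, 170), (414, 102)]),
     ([(225, 1), (416, 1), (417, 1)], .tr 104 1 [(417, 172), (416, 83), (225, 50)]),
     ([(418, 1), (419, 1), (420, 1)], .tr 105 1 [(419, 131), (418, 178), (420, 138)]),
     ([(421, 1), (375, 1), (422, 1)], .tr 106 1 [(375, 175), (421, 176), (422, 75)]),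
     ([(423, 1), (285, 1), (424, 1)], .tr 107 0 [(423, 25), (285, 114), (424, 1)]),
     ([(425, 1), (426, 1), (427, 1)], .tr 107 1 [(426, 0), (427, 171), (425, 98)]),
     ([(428, 1), (429, 1), (291, 1)], .tr 109 1 [(429, 83), (291, 72), (428, 49)]),
     ([(430, 1), (431, 1), (356, 1)], .tr 110 1 [(356, 188), (431, 114), (430, 30)]),
     ([(432, 1), (433, 1), (397, 1)], .tr 111 1 [(433, 7), (432, 138), (397, 165)]),
     ([(434, 1), (88, 1), (435, 1)], .tr 112 0 [(88, 190), (434, 1), (435, 0)]),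
     ([(134, 1), (90, 1), (436, 1)], .tr 112 1 [(90, 0), (436, 176), (134, 39)]),
     ([(112, 1), (437, 1), (222, 1)], .tr 113 0 [(437, 0), (222, 0), (112, 77)]),
     ([(238, 1), (438, 1), (439, 1)], .tr 114 1 [(238, 49), (438, 40), (439, 82)]),
     ([(440, 1), (183, 1), (441, 1)], .tr 115 0 [(441, 51), (183, 168), (440, 45)]),
     ([(442, 1), (443, 1), (444, 1)], .tr 116 0 [(443, 0), (442, 141), (444, 133)]),
     ([(298, 1), (445, 1), (446, 1)], .tr 116 1 [(445, 0), (446, 157), (298, 13)]),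
     ([(447, 1), (124, 1), (448, 1)], .tr 117 0 [(447, 0), (448, 0), (124, 21)]),
     ([(449, 1), (126, 1), (450, 1)], .tr 117 1 [(450, 69), (449, 21), (126, 116)]),
     ([(178, 1), (451, 1), (452, 1)], .tr 118 0 [(178, 0), (451, 0), (452, 36)]),
     ([(453, 1), (454, 1), (455, 1)], .tr 118 1 [(453, 0), (455, 76), (454, 8)]),
     ([(336, 1), (189, 1), (456, 1)], .tr 119 0 [(456, 158), (189, 0), (336, 153)]),
     ([(457, 1), (458, 1), (459, 1)], .tr 120 0 [(459, 1), (458, 139), (457, 55)]),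
     ([(21, 1), (460, 1), (461, 1)], .tr 121 0 [(21, 1), (461, 191), (460, 0)]),
     ([(114, 1), (462, 1), (463, 1)], .tr 121 1 [(114, 0), (462, 0), (463, 128)]),
     ([(260, 1), (464, 1), (465, 1)], .tr 122 1 [(260, 10), (465, 81), (464, 111)]),
     ([(150, 1), (310, 1), (280, 1)], .tr 125 0 [(280, 1), (150, 117), (310, 115)]),
     ([(312, 1), (283, 1), (361, 1)], .tr 125 1 [(283, 13), (361, 158), (312, 150)]),
     ([(372, 1), (321, 1), (403, 1)], .tr 126 0 [(372, 179), (321, 186), (403, 150)]),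
     ([(421, 1), (466, 1), (376, 1)], .tr 126 1 [(376, 120), (466, 76), (421, 176)]),
     ([(467, 1), (295, 1), (468, 1)], .tr 127 1 [(467, 59), (468, 118), (295, 61)]),
     ([(469, 1), (470, 1), (270, 1)], .tr 128 0 [(469, 156), (470, 42), (270, 25)])]

/-- a chunk of the certificate -/
def steps6 : List (Vec × How) :=
  [([(471, 1), (472, 1), (273, 1)], .tr 128 1 [(472, 9), (471, 189), (273, 74)]),
     ([(473, 1), (474, 1), (397, 1)], .tr 129 0 [(473, 0), (474, 1), (397, 71)]),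
     ([(475, 1), (476, 1), (477, 1)], .tr 129 1 [(476, 41), (477, 86), (475, 171)]),
     ([(478, 1), (479, 1), (480, 1)], .tr 130 0 [(478, 0), (479, 8), (480, 183)]),
     ([(479, 1), (481, 1), (482, 1)], .tr 130 1 [(479, 73), (482, 18), (481, 11)]),
     ([(483, 1), (161, 1), (484, 1)], .tr 132 0 [(483, 42), (484, 97), (161, 58)]),
     ([(63, 1), (485, 1), (486, 1)], .tr 133 0 [(63, 0), (485, 93), (486, 89)]),
     ([(177, 1), (451, 1), (487, 1)], .tr 133 1 [(177, 49), (451, 12), (487, 80)]),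
     ([(488, 1), (489, 1), (490, 1)], .tr 135 1 [(488, 7), (490, 70), (489, 59)]),
     ([(284, 1), (424, 1), (491, 1)], .tr 137 1 [(284, 75), (491, 122), (424, 144)]),
     ([(492, 1), (493, 1), (410, 1)], .tr 138 1 [(410, 60), (492, 16), (493, 95)]),
     ([(494, 1), (495, 1), (496, 1)], .tr 139 1 [(495, 168), (494, 163), (496, 16)]),
     ([(497, 1), (498, 1), (143, 1)], .tr 140 1 [(143, 1), (497, 143), (498, 4)]),
     ([(499, 1), (481, 1), (480, 1)], .tr 142 0 [(499, 0), (481, 85), (480, 183)]),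
     ([(478, 1), (481, 1), (500, 1)], .tr 142 1 [(500, 64), (478, 70), (481, 11)]),
     ([(126, 1), (501, 1), (502, 1)], .tr 143 0 [(126, 5), (501, 44), (502, 117)]),
     ([(337, 1), (189, 1), (503, 1)], .tr 144 0 [(337, 111), (189, 0), (503, 143)]),
     ([(504, 1), (505, 1), (506, 1)], .tr 144 1 [(505, 164), (504, 80), (506, 17)]),
     ([(507, 1), (419, 1), (508, 1)], .tr 145 0 [(419, 178), (507, 3), (508, 0)]),
     ([(509, 1), (510, 1), (511, 1)], .tr 145 1 [(511, 90), (510, 134), (509, 62)]),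
     ([(19, 1), (512, 1), (513, 1)], .tr 146 0 [(512, 0), (513, 152), (19, 0)]),
     ([(39, 1), (514, 1), (515, 1)], .tr 147 1 [(515, 114), (514, 180), (39, 25)]),
     ([(27, 1), (516, 1), (517, 1)], .tr 148 1 [(27, 90), (517, 74), (516, 182)]),
     ([(268, 1), (469, 1), (304, 1)], .tr 149 0 [(268, 89), (304, 111), (469, 156)]),
     ([(271, 1), (518, 1), (472, 1)], .tr 149 1 [(271, 13), (518, 16), (472, 9)]),
     ([(453, 1), (519, 1), (520, 1)], .tr 150 0 [(453, 179), (519, 58), (520, 77)]),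
     ([(390, 1), (521, 1), (522, 1)], .tr 150 1 [(390, 90), (521, 48), (522, 121)]),
     ([(492, 1), (523, 1), (409, 1)], .tr 151 0 [(523, 146), (492, 133), (409, 102)]),
     ([(524, 1), (525, 1), (526, 1)], .tr 151 1 [(524, 32), (526, 19), (525, 65)]),
     ([(527, 1), (528, 1), (529, 1)], .tr 152 1 [(528, 39), (529, 173), (527, 78)]),
     ([(530, 1), (524, 1), (531, 1)], .tr 153 1 [(524, 32), (530, 177), (531, 179)]),
     ([(532, 1), (475, 1), (533, 1)], .tr 155 1 [(532, 0), (533, 172), (475, 171)])]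

/-- a chunk of the certificate -/
def steps7 : List (Vec × How) :=
  [([(528, 1), (534, 1), (535, 1)], .tr 156 0 [(535, 179), (528, 133), (534, 0)]),
     ([(295, 1), (536, 1), (537, 1)], .tr 158 0 [(295, 133), (537, 164), (536, 0)]),
     ([(538, 1), (539, 1), (540, 1)], .tr 158 1 [(540, 171), (539, 22), (538, 90)]),
     ([(541, 1), (542, 1), (543, 1)], .tr 159 0 [(541, 119), (542, 96), (543, 42)]),
     ([(544, 1), (545, 1), (540, 1)], .tr 160 1 [(540, 171), (544, 136), (545, 175)]),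
     ([(427, 1), (546, 1), (547, 1)], .tr 161 0 [(547, 181), (546, 129), (427, 0)]),
     ([(340, 1), (398, 1), (548, 1)], .tr 162 1 [(340, 34), (398, 139), (548, 113)]),
     ([(549, 1), (550, 1), (551, 1)], .tr 163 1 [(549, 170), (550, 152), (551, 52)]),
     ([(507, 1), (552, 1), (420, 1)], .tr 164 0 [(552, 144), (507, 3), (420, 11)]),
     ([(553, 1), (554, 1), (415, 1)], .tr 165 1 [(553, 12), (415, 170), (554, 51)]),
     ([(555, 1), (556, 1), (540, 1)], .tr 166 0 [(556, 41), (555, 17), (540, 111)]),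
     ([(557, 1), (558, 1), (559, 1)], .tr 166 1 [(559, 162), (557, 44), (558, 20)]),
     ([(560, 1), (276, 1), (561, 1)], .tr 167 0 [(561, 0), (560, 30), (276, 8)]),
     ([(562, 1), (563, 1), (489, 1)], .tr 168 1 [(563, 170), (562, 153), (489, 59)]),
     ([(564, 1), (565, 1), (566, 1)], .tr 169 1 [(565, 131), (566, 63), (564, 151)]),
     ([(567, 1), (141, 1), (152, 1)], .tr 170 1 [(567, 191), (152, 161), (141, 19)]),
     ([(568, 1), (154, 1), (221, 1)], .tr 171 1 [(221, 57), (154, 20), (568, 52)]),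
     ([(186, 1), (569, 1), (300, 1)], .tr 172 0 [(186, 133), (569, 138), (300, 148)]),
     ([(570, 1), (571, 1), (363, 1)], .tr 173 1 [(363, 181), (570, 53), (571, 80)]),
     ([(423, 1), (284, 1), (572, 1)], .tr 174 1 [(423, 166), (284, 75), (572, 112)]),
     ([(573, 1), (574, 1), (575, 1)], .tr 175 1 [(574, 0), (575, 0), (573, 120)]),
     ([(115, 1), (576, 1), (463, 1)], .tr 176 0 [(115, 141), (463, 17), (576, 0)]),
     ([(319, 1), (577, 1), (578, 1)], .tr 176 1 [(578, 147), (577, 51), (319, 37)]),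
     ([(579, 1), (580, 1), (44, 1)], .tr 177 0 [(579, 11), (44, 23), (580, 46)]),
     ([(274, 1), (208, 1), (581, 1)], .tr 178 1 [(274, 182), (208, 174), (581, 184)]),
     ([(582, 1), (278, 1), (561, 1)], .tr 179 1 [(278, 73), (561, 168), (582, 123)]),
     ([(542, 1), (583, 1), (584, 1)], .tr 180 1 [(584, 38), (583, 123), (542, 147)]),
     ([(294, 1), (467, 1), (537, 1)], .tr 181 1 [(467, 59), (294, 172), (537, 35)]),
     ([(15, 1), (585, 1), (586, 1)], .tr 182 1 [(15, 0), (585, 51), (586, 96)]),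
     ([(43, 1), (587, 1), (580, 1)], .tr 183 1 [(43, 120), (580, 130), (587, 117)]),
     ([(192, 1), (588, 1), (589, 1)], .tr 184 0 [(192, 90), (588, 17), (589, 120)]),
     ([(387, 1), (590, 1), (591, 1)], .tr 185 1 [(387, 53), (591, 121), (590, 93)])]

/-- a chunk of the certificate -/
def steps8 : List (Vec × How) :=
  [([(239, 1), (592, 1), (439, 1)], .tr 186 1 [(239, 160), (439, 82), (592, 100)]),
     ([(509, 1), (593, 1), (594, 1)], .tr 189 1 [(594, 188), (593, 7), (509, 62)]),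
     ([(400, 1), (595, 1), (596, 1)], .tr 192 1 [(596, 188), (595, 117), (400, 71)]),
     ([(597, 1), (564, 1), (598, 1)], .tr 193 1 [(597, 116), (598, 179), (564, 151)]),
     ([(599, 1), (600, 1), (601, 1)], .tr 194 0 [(599, 177), (601, 52), (600, 1)]),
     ([(602, 1), (603, 1), (604, 1)], .tr 194 1 [(603, 124), (602, 95), (604, 24)]),
     ([(313, 1), (605, 1), (606, 1)], .tr 195 1 [(313, 42), (605, 12), (606, 38)]),
     ([(227, 1), (244, 1), (607, 1)], .tr 196 0 [(227, 0), (244, 159), (607, 91)]),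
     ([(605, 1), (314, 1), (608, 1)], .tr 196 1 [(605, 12), (314, 143), (608, 4)]),
     ([(45, 1), (609, 1), (610, 1)], .tr 197 1 [(610, 0), (45, 25), (609, 112)]),
     ([(111, 1), (437, 1), (611, 1)], .tr 198 1 [(111, 100), (611, 101), (437, 27)]),
     ([(570, 1), (364, 1), (612, 1)], .tr 200 0 [(570, 153), (364, 77), (612, 67)]),
     ([(613, 1), (614, 1), (615, 1)], .tr 200 1 [(613, 0), (614, 168), (615, 6)]),
     ([(406, 1), (412, 1), (616, 1)], .tr 201 0 [(412, 181), (616, 112), (406, 85)]),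
     ([(413, 1), (617, 1), (554, 1)], .tr 201 1 [(413, 49), (554, 51), (617, 84)]),
     ([(618, 1), (543, 1), (583, 1)], .tr 202 0 [(583, 74), (618, 41), (543, 42)]),
     ([(619, 1), (620, 1), (621, 1)], .tr 202 1 [(621, 31), (620, 26), (619, 54)]),
     ([(622, 1), (76, 1), (623, 1)], .tr 204 0 [(622, 0), (623, 0), (76, 162)]),
     ([(314, 1), (624, 1), (606, 1)], .tr 205 1 [(624, 169), (314, 143), (606, 38)]),
     ([(228, 1), (244, 1), (625, 1)], .tr 206 0 [(228, 141), (244, 159), (625, 120)]),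
     ([(84, 1), (367, 1), (626, 1)], .tr 207 0 [(84, 141), (367, 94), (626, 162)]),
     ([(627, 1), (628, 1), (629, 1)], .tr 209 1 [(627, 158), (629, 50), (628, 79)]),
     ([(630, 1), (631, 1), (550, 1)], .tr 210 1 [(631, 134), (550, 152), (630, 140)]),
     ([(597, 1), (632, 1), (565, 1)], .tr 211 0 [(597, 25), (565, 113), (632, 111)]),
     ([(633, 1), (634, 1), (635, 1)], .tr 211 1 [(635, 40), (633, 171), (634, 190)]),
     ([(636, 1), (31, 1), (637, 1)], .tr 212 1 [(31, 0), (637, 71), (636, 132)]),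
     ([(66, 1), (638, 1), (639, 1)], .tr 213 0 [(66, 1), (638, 0), (639, 0)]),
     ([(69, 1), (640, 1), (641, 1)], .tr 213 1 [(69, 124), (640, 85), (641, 154)]),
     ([(642, 1), (54, 1), (643, 1)], .tr 214 1 [(54, 170), (642, 122), (643, 45)]),
     ([(401, 1), (595, 1), (644, 1)], .tr 216 1 [(401, 2), (644, 83), (595, 117)]),
     ([(354, 1), (431, 1), (645, 1)], .tr 217 0 [(354, 161), (645, 178), (431, 160)]),
     ([(528, 1), (646, 1), (647, 1)], .tr 218 1 [(528, 39), (647, 173), (646, 103)])]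

/-- a chunk of the certificate -/
def steps9 : List (Vec × How) :=
  [([(621, 1), (648, 1), (649, 1)], .tr 219 1 [(621, 31), (648, 88), (649, 172)]),
     ([(650, 1), (524, 1), (651, 1)], .tr 221 0 [(650, 25), (524, 0), (651, 1)]),
     ([(401, 1), (652, 1), (596, 1)], .tr 222 0 [(652, 16), (401, 114), (596, 0)]),
     ([(599, 1), (653, 1), (654, 1)], .tr 223 0 [(654, 182), (599, 177), (653, 143)]),
     ([(655, 1), (656, 1), (603, 1)], .tr 223 1 [(656, 82), (603, 124), (655, 178)]),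
     ([(657, 1), (658, 1), (427, 1)], .tr 225 1 [(427, 171), (657, 20), (658, 157)]),
     ([(617, 1), (659, 1), (415, 1)], .tr 226 0 [(617, 0), (659, 0), (415, 168)]),
     ([(660, 1), (661, 1), (662, 1)], .tr 226 1 [(662, 146), (661, 13), (660, 73)]),
     ([(591, 1), (394, 1), (389, 1)], .tr 227 0 [(591, 182), (389, 0), (394, 9)]),
     ([(660, 1), (663, 1), (664, 1)], .tr 228 1 [(664, 6), (663, 146), (660, 73)]),
     ([(558, 1), (665, 1), (666, 1)], .tr 229 1 [(558, 20), (666, 175), (665, 98)]),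
     ([(391, 1), (667, 1), (522, 1)], .tr 232 0 [(391, 141), (522, 149), (667, 44)]),
     ([(668, 1), (631, 1), (551, 1)], .tr 232 1 [(631, 134), (668, 169), (551, 52)]),
     ([(669, 1), (670, 1), (671, 1)], .tr 233 1 [(671, 146), (670, 146), (669, 20)]),
     ([(660, 1), (672, 1), (673, 1)], .tr 234 1 [(673, 173), (672, 12), (660, 73)]),
     ([(117, 1), (674, 1), (675, 1)], .tr 235 1 [(674, 0), (117, 130), (675, 119)]),
     ([(614, 1), (676, 1), (677, 1)], .tr 237 1 [(677, 0), (676, 10), (614, 168)]),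
     ([(678, 1), (615, 1), (677, 1)], .tr 238 0 [(615, 68), (678, 38), (677, 111)]),
     ([(679, 1), (242, 1), (50, 1)], .tr 239 0 [(679, 20), (50, 133), (242, 111)]),
     ([(494, 1), (680, 1), (681, 1)], .tr 242 1 [(680, 163), (681, 45), (494, 163)]),
     ([(682, 1), (683, 1), (684, 1)], .tr 244 0 [(683, 41), (684, 73), (682, 129)]),
     ([(682, 1), (685, 1), (686, 1)], .tr 244 1 [(685, 31), (682, 161), (686, 191)]),
     ([(193, 1), (589, 1), (687, 1)], .tr 245 0 [(193, 141), (687, 83), (589, 120)]),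
     ([(622, 1), (77, 1), (688, 1)], .tr 247 1 [(688, 18), (622, 39), (77, 156)]),
     ([(426, 1), (658, 1), (547, 1)], .tr 251 1 [(426, 0), (547, 50), (658, 157)]),
     ([(31, 1), (689, 1), (690, 1)], .tr 252 0 [(31, 0), (689, 32), (690, 129)]),
     ([(691, 1), (33, 1), (325, 1)], .tr 252 1 [(33, 186), (325, 90), (691, 152)]),
     ([(692, 1), (693, 1), (635, 1)], .tr 257 1 [(635, 40), (692, 173), (693, 10)]),
     ([(527, 1), (535, 1), (647, 1)], .tr 258 0 [(535, 179), (527, 0), (647, 76)]),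
     ([(1, 1), (694, 1), (695, 1)], .tr 258 1 [(1, 7), (694, 88), (695, 136)]),
     ([(696, 1), (697, 1), (698, 1)], .tr 259 1 [(697, 125), (696, 96), (698, 179)]),
     ([(699, 1), (700, 1), (701, 1)], .tr 260 1 [(701, 109), (700, 35), (699, 105)])]

/-- a chunk of the certificate -/
def steps10 : List (Vec × How) :=
  [([(702, 1), (703, 1), (94, 1)], .tr 261 1 [(702, 2), (94, 1), (703, 67)]),
     ([(443, 1), (704, 1), (705, 1)], .tr 262 0 [(443, 0), (704, 0), (705, 174)]),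
     ([(442, 1), (704, 1), (706, 1)], .tr 264 0 [(704, 0), (442, 141), (706, 156)]),
     ([(12, 1), (707, 1), (708, 1)], .tr 265 0 [(12, 25), (708, 18), (707, 139)]),
     ([(709, 1), (78, 1), (710, 1)], .tr 265 1 [(78, 27), (710, 68), (709, 81)]),
     ([(569, 1), (188, 1), (711, 1)], .tr 266 0 [(188, 40), (569, 138), (711, 4)]),
     ([(555, 1), (539, 1), (545, 1)], .tr 269 1 [(539, 22), (545, 175), (555, 175)]),
     ([(670, 1), (712, 1), (713, 1)], .tr 270 1 [(712, 26), (713, 146), (670, 146)]),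
     ([(714, 1), (654, 1), (600, 1)], .tr 271 1 [(714, 103), (600, 100), (654, 147)]),
     ([(715, 1), (716, 1), (717, 1)], .tr 272 1 [(717, 190), (716, 22), (715, 187)]),
     ([(718, 1), (719, 1), (130, 1)], .tr 273 0 [(719, 1), (130, 65), (718, 133)]),
     ([(297, 1), (446, 1), (720, 1)], .tr 274 1 [(446, 157), (720, 69), (297, 6)]),
     ([(343, 1), (721, 1), (370, 1)], .tr 275 0 [(343, 141), (370, 3), (721, 39)]),
     ([(722, 1), (723, 1), (697, 1)], .tr 279 1 [(697, 125), (722, 70), (723, 185)]),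
     ([(724, 1), (725, 1), (726, 1)], .tr 280 1 [(725, 0), (724, 142), (726, 170)]),
     ([(57, 1), (727, 1), (163, 1)], .tr 281 1 [(727, 0), (57, 90), (163, 23)]),
     ([(21, 1), (728, 1), (729, 1)], .tr 282 0 [(21, 1), (728, 0), (729, 126)]),
     ([(117, 1), (730, 1), (731, 1)], .tr 283 0 [(117, 1), (730, 0), (731, 157)]),
     ([(9, 1), (732, 1), (733, 1)], .tr 287 1 [(9, 184), (733, 34), (732, 135)]),
     ([(734, 1), (715, 1), (735, 1)], .tr 288 1 [(715, 187), (734, 179), (735, 33)]),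
     ([(0, 1), (736, 1), (695, 1)], .tr 290 1 [(0, 178), (736, 81), (695, 136)]),
     ([(737, 1), (738, 1), (701, 1)], .tr 291 1 [(701, 109), (737, 163), (738, 92)]),
     ([(558, 1), (739, 1), (740, 1)], .tr 293 1 [(740, 78), (739, 179), (558, 20)]),
     ([(669, 1), (741, 1), (713, 1)], .tr 294 1 [(713, 146), (741, 143), (669, 20)]),
     ([(650, 1), (525, 1), (531, 1)], .tr 296 1 [(650, 84), (531, 179), (525, 65)]),
     ([(742, 1), (743, 1), (744, 1)], .tr 297 0 [(742, 0), (744, 168), (743, 88)]),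
     ([(745, 1), (746, 1), (747, 1)], .tr 301 0 [(745, 0), (747, 63), (746, 0)]),
     ([(748, 1), (458, 1), (749, 1)], .tr 301 1 [(748, 0), (458, 0), (749, 0)]),
     ([(750, 1), (742, 1), (751, 1)], .tr 302 0 [(742, 0), (750, 0), (751, 0)]),
     ([(81, 1), (752, 1), (753, 1)], .tr 302 1 [(81, 0), (753, 0), (752, 130)]),
     ([(754, 1), (755, 1), (198, 1)], .tr 303 0 [(198, 105), (755, 77), (754, 48)]),
     ([(751, 1), (756, 1), (744, 1)], .tr 305 1 [(751, 44), (756, 104), (744, 13)])]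

/-- a chunk of the certificate -/
def steps11 : List (Vec × How) :=
  [([(752, 1), (83, 1), (366, 1)], .tr 306 0 [(752, 20), (366, 0), (83, 13)]),
     ([(757, 1), (726, 1), (758, 1)], .tr 308 0 [(726, 0), (757, 39), (758, 16)]),
     ([(193, 1), (759, 1), (588, 1)], .tr 309 1 [(588, 12), (759, 176), (193, 21)]),
     ([(760, 1), (100, 1), (133, 1)], .tr 311 1 [(100, 0), (133, 73), (760, 136)]),
     ([(6, 1), (761, 1), (762, 1)], .tr 313 0 [(6, 0), (761, 183), (762, 14)]),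
     ([(763, 1), (4, 1), (764, 1)], .tr 317 0 [(4, 0), (763, 0), (764, 185)]),
     ([(7, 1), (761, 1), (765, 1)], .tr 317 1 [(7, 0), (761, 0), (765, 121)]),
     ([(130, 1), (766, 1), (767, 1)], .tr 318 1 [(130, 0), (766, 80), (767, 98)]),
     ([(768, 1), (161, 1), (769, 1)], .tr 320 1 [(768, 0), (769, 189), (161, 102)]),
     ([(770, 1), (771, 1), (206, 1)], .tr 321 0 [(206, 136), (771, 8), (770, 119)]),
     ([(772, 1), (773, 1), (575, 1)], .tr 321 1 [(575, 0), (773, 38), (772, 170)]),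
     ([(774, 1), (574, 1), (773, 1)], .tr 322 1 [(574, 0), (773, 38), (774, 81)]),
     ([(24, 1), (775, 1), (776, 1)], .tr 323 0 [(24, 0), (775, 185), (776, 162)]),
     ([(27, 1), (777, 1), (778, 1)], .tr 323 1 [(27, 90), (778, 88), (777, 100)]),
     ([(779, 1), (436, 1), (91, 1)], .tr 324 0 [(779, 0), (91, 102), (436, 0)]),
     ([(738, 1), (700, 1), (780, 1)], .tr 328 1 [(780, 17), (738, 92), (700, 35)]),
     ([(781, 1), (755, 1), (199, 1)], .tr 334 1 [(781, 57), (199, 91), (755, 138)]),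
     ([(103, 1), (331, 1), (257, 1)], .tr 335 1 [(103, 2), (331, 27), (257, 19)]),
     ([(43, 1), (579, 1), (782, 1)], .tr 336 1 [(43, 120), (579, 106), (782, 123)]),
     ([(781, 1), (783, 1), (198, 1)], .tr 337 0 [(198, 105), (783, 0), (781, 100)]),
     ([(748, 1), (784, 1), (459, 1)], .tr 343 1 [(748, 0), (784, 0), (459, 25)]),
     ([(377, 1), (785, 1), (786, 1)], .tr 346 1 [(785, 0), (377, 87), (786, 0)]),
     ([(211, 1), (787, 1), (788, 1)], .tr 347 0 [(787, 44), (211, 60), (788, 172)]),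
     ([(789, 1), (307, 1), (52, 1)], .tr 350 1 [(789, 191), (52, 121), (307, 142)]),
     ([(87, 1), (790, 1), (435, 1)], .tr 351 1 [(790, 121), (435, 44), (87, 2)]),
     ([(142, 1), (498, 1), (791, 1)], .tr 352 1 [(791, 142), (142, 65), (498, 4)]),
     ([(214, 1), (168, 1), (98, 1)], .tr 355 0 [(98, 90), (168, 0), (214, 31)]),
     ([(707, 1), (14, 1), (383, 1)], .tr 357 1 [(707, 0), (14, 160), (383, 131)]),
     ([(788, 1), (792, 1), (213, 1)], .tr 359 1 [(213, 102), (788, 96), (792, 142)]),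
     ([(683, 1), (686, 1), (793, 1)], .tr 362 1 [(793, 118), (683, 78), (686, 191)]),
     ([(679, 1), (48, 1), (794, 1)], .tr 364 1 [(48, 90), (794, 176), (679, 18)]),
     ([(51, 1), (789, 1), (795, 1)], .tr 365 0 [(51, 0), (789, 46), (795, 0)])]

/-- a chunk of the certificate -/
def steps12 : List (Vec × How) :=
  [([(76, 1), (796, 1), (688, 1)], .tr 370 1 [(76, 102), (688, 18), (796, 42)]),
     ([(797, 1), (25, 1), (776, 1)], .tr 373 1 [(797, 0), (25, 170), (776, 125)]),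
     ([(517, 1), (28, 1), (777, 1)], .tr 376 0 [(28, 188), (777, 151), (517, 0)]),
     ([(0, 1), (3, 1), (9, 1)], .kill 1 [([], [(0, 1), (3, 2), (9, 8)]), ([], [(0, 2), (3, 8), (9, 1)]), ([], [(0, 3), (3, 3), (9, 3)]), ([], [(0, 4), (3, 4), (9, 4)]), ([], [(0, 5), (9, 11), (3, 11)]), ([], [(0, 6), (3, 165), (9, 94)]), ([], [(9, 142), (0, 90), (3, 120)])]),
     ([(6, 1), (12, 1), (21, 1)], .tr 387 1 [(6, 0), (12, 0), (21, 0)]),
     ([(15, 1), (24, 1), (39, 1)], .tr 388 0 [(15, 0), (24, 0), (39, 0)]),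
     ([(18, 1), (27, 1), (43, 1)], .tr 388 1 [(18, 0), (27, 90), (43, 120)]),
     ([(66, 1), (31, 1), (45, 1)], .tr 389 0 [(31, 0), (45, 25), (66, 1)]),
     ([(69, 1), (33, 1), (48, 1)], .tr 389 1 [(33, 186), (48, 90), (69, 124)]),
     ([(51, 1), (72, 1), (36, 1)], .tr 390 0 [(36, 0), (51, 0), (72, 0)]),
     ([(30, 1), (76, 1), (54, 1)], .tr 390 1 [(30, 170), (54, 170), (76, 102)]),
     ([(114, 1), (57, 1), (78, 1)], .tr 391 1 [(114, 0), (57, 90), (78, 27)]),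
     ([(117, 1), (81, 1), (748, 1)], .tr 392 0 [(117, 1), (748, 179), (81, 5)]),
     ([(61, 1), (85, 1), (122, 1)], .tr 392 1 [(122, 0), (61, 129), (85, 100)]),
     ([(785, 1), (88, 1), (123, 1)], .tr 393 0 [(88, 190), (123, 141), (785, 20)]),
     ([(90, 1), (64, 1), (128, 1)], .tr 393 1 [(90, 0), (128, 64), (64, 4)]),
     ([(7, 1), (94, 1), (130, 1)], .tr 394 0 [(7, 110), (130, 65), (94, 117)]),
     ([(58, 1), (101, 1), (97, 1)], .tr 394 1 [(58, 59), (101, 59), (97, 79)]),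
     ([(99, 1), (192, 1), (91, 1)], .tr 395 0 [(192, 90), (99, 0), (91, 102)]),
     ([(195, 1), (103, 1), (137, 1)], .tr 395 1 [(195, 7), (103, 2), (137, 129)]),
     ([(139, 1), (198, 1), (787, 1)], .tr 396 0 [(198, 105), (139, 0), (787, 44)]),
     ([(143, 1), (16, 1), (156, 1)], .tr 396 1 [(156, 140), (143, 1), (16, 114)]),
     ([(106, 1), (202, 1), (147, 1)], .tr 397 0 [(106, 143), (147, 113), (202, 90)]),
     ([(148, 1), (110, 1), (182, 1)], .tr 397 1 [(110, 34), (148, 126), (182, 74)]),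
     ([(25, 1), (207, 1), (152, 1)], .tr 398 1 [(25, 170), (152, 161), (207, 117)]),
     ([(112, 1), (154, 1), (210, 1)], .tr 399 1 [(154, 20), (112, 185), (210, 56)]),
     ([(164, 1), (102, 1), (171, 1)], .tr 401 1 [(102, 154), (171, 154), (164, 15)]),
     ([(167, 1), (120, 1), (297, 1)], .tr 402 0 [(167, 69), (297, 0), (120, 96)]),
     ([(155, 1), (300, 1), (170, 1)], .tr 402 1 [(170, 115), (300, 84), (155, 38)]),
     ([(303, 1), (222, 1), (173, 1)], .tr 403 0 [(303, 121), (173, 6), (222, 0)]),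
     ([(270, 1), (176, 1), (226, 1)], .tr 403 1 [(270, 41), (176, 22), (226, 132)]),
     ([(67, 1), (307, 1), (229, 1)], .tr 404 1 [(229, 109), (307, 142), (67, 141)])]

/-- a chunk of the certificate -/
def steps13 : List (Vec × How) :=
  [([(232, 1), (34, 1), (38, 1)], .tr 405 1 [(232, 0), (34, 28), (38, 84)]),
     ([(234, 1), (178, 1), (288, 1)], .tr 406 1 [(178, 93), (288, 21), (234, 43)]),
     ([(238, 1), (183, 1), (282, 1)], .tr 407 1 [(238, 49), (183, 36), (282, 12)]),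
     ([(46, 1), (242, 1), (315, 1)], .tr 408 0 [(46, 0), (315, 147), (242, 111)]),
     ([(50, 1), (244, 1), (74, 1)], .tr 408 1 [(50, 151), (74, 61), (244, 120)]),
     ([(318, 1), (245, 1), (186, 1)], .tr 409 0 [(186, 133), (245, 52), (318, 77)]),
     ([(248, 1), (322, 1), (189, 1)], .tr 409 1 [(189, 87), (248, 8), (322, 125)]),
     ([(174, 1), (263, 1), (260, 1)], .tr 410 1 [(260, 10), (174, 75), (263, 75)]),
     ([(798, 1), (204, 1), (172, 1)], .tr 411 1 [(172, 102), (204, 130), (798, 63)]),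
     ([(429, 1), (265, 1), (249, 1)], .tr 412 1 [(249, 168), (429, 83), (265, 50)]),
     ([(430, 1), (337, 1), (266, 1)], .tr 413 1 [(430, 30), (337, 74), (266, 84)]),
     ([(273, 1), (397, 1), (342, 1)], .tr 414 1 [(397, 165), (273, 74), (342, 178)]),
     ([(435, 1), (22, 1), (345, 1)], .tr 415 0 [(22, 175), (435, 0), (345, 81)]),
     ([(134, 1), (115, 1), (346, 1)], .tr 415 1 [(115, 104), (134, 39), (346, 63)]),
     ([(457, 1), (379, 1), (350, 1)], .tr 416 0 [(350, 161), (457, 55), (379, 45)]),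
     ([(63, 1), (105, 1), (60, 1)], .tr 416 1 [(105, 102), (60, 55), (63, 45)]),
     ([(354, 1), (416, 1), (278, 1)], .tr 417 1 [(354, 151), (278, 73), (416, 83)]),
     ([(284, 1), (410, 1), (363, 1)], .tr 418 1 [(363, 181), (284, 75), (410, 60)]),
     ([(444, 1), (14, 1), (366, 1)], .tr 419 0 [(14, 0), (366, 0), (444, 133)]),
     ([(79, 1), (298, 1), (367, 1)], .tr 419 1 [(79, 62), (367, 166), (298, 13)]),
     ([(83, 1), (124, 1), (370, 1)], .tr 420 0 [(83, 13), (370, 3), (124, 21)]),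
     ([(84, 1), (126, 1), (145, 1)], .tr 420 1 [(84, 78), (145, 134), (126, 116)]),
     ([(289, 1), (268, 1), (453, 1)], .tr 421 1 [(453, 0), (268, 88), (289, 0)]),
     ([(294, 1), (504, 1), (375, 1)], .tr 422 1 [(375, 175), (504, 80), (294, 172)]),
     ([(271, 1), (390, 1), (387, 1)], .tr 423 1 [(271, 13), (390, 90), (387, 53)]),
     ([(799, 1), (169, 1), (310, 1)], .tr 424 0 [(799, 2), (310, 115), (169, 159)]),
     ([(800, 1), (267, 1), (312, 1)], .tr 424 1 [(800, 150), (312, 150), (267, 164)]),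
     ([(392, 1), (508, 1), (376, 1)], .tr 425 1 [(508, 120), (392, 120), (376, 120)]),
     ([(468, 1), (563, 1), (394, 1)], .tr 426 1 [(563, 170), (468, 118), (394, 5)]),
     ([(400, 1), (475, 1), (564, 1)], .tr 427 1 [(400, 71), (564, 151), (475, 171)]),
     ([(41, 1), (517, 1), (480, 1)], .tr 428 0 [(517, 0), (41, 126), (480, 183)]),
     ([(481, 1), (141, 1), (44, 1)], .tr 428 1 [(141, 19), (44, 64), (481, 11)])]

/-- a chunk of the certificate -/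
def steps14 : List (Vec × How) :=
  [([(193, 1), (501, 1), (219, 1)], .tr 429 0 [(219, 21), (193, 141), (501, 44)]),
     ([(302, 1), (197, 1), (221, 1)], .tr 429 1 [(221, 57), (197, 177), (302, 74)]),
     ([(177, 1), (111, 1), (108, 1)], .tr 431 1 [(111, 100), (177, 49), (108, 31)]),
     ([(488, 1), (398, 1), (407, 1)], .tr 432 1 [(488, 7), (398, 139), (407, 40)]),
     ([(412, 1), (543, 1), (505, 1)], .tr 433 0 [(412, 181), (543, 42), (505, 110)]),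
     ([(413, 1), (494, 1), (619, 1)], .tr 433 1 [(413, 49), (619, 54), (494, 163)]),
     ([(498, 1), (573, 1), (28, 1)], .tr 434 1 [(573, 120), (28, 158), (498, 4)]),
     ([(280, 1), (578, 1), (138, 1)], .tr 435 1 [(138, 65), (578, 147), (280, 142)]),
     ([(142, 1), (478, 1), (205, 1)], .tr 436 1 [(142, 65), (205, 54), (478, 70)]),
     ([(233, 1), (208, 1), (150, 1)], .tr 437 1 [(150, 184), (208, 174), (233, 100)]),
     ([(419, 1), (584, 1), (396, 1)], .tr 438 1 [(419, 131), (396, 88), (584, 38)]),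
     ([(801, 1), (423, 1), (507, 1)], .tr 439 0 [(423, 25), (801, 25), (507, 3)]),
     ([(510, 1), (627, 1), (426, 1)], .tr 439 1 [(426, 0), (627, 158), (510, 134)]),
     ([(374, 1), (523, 1), (399, 1)], .tr 440 0 [(399, 146), (374, 0), (523, 146)]),
     ([(528, 1), (524, 1), (401, 1)], .tr 440 1 [(401, 2), (528, 39), (524, 32)]),
     ([(802, 1), (803, 1), (104, 1)], .tr 441 0 [(803, 5), (104, 180), (802, 11)]),
     ([(804, 1), (393, 1), (805, 1)], .tr 442 1 [(805, 125), (393, 72), (804, 173)]),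
     ([(509, 1), (527, 1), (630, 1)], .tr 443 1 [(527, 78), (630, 140), (509, 62)]),
     ([(676, 1), (531, 1), (546, 1)], .tr 444 1 [(546, 45), (676, 10), (531, 179)]),
     ([(599, 1), (615, 1), (535, 1)], .tr 445 0 [(535, 179), (599, 177), (615, 68)]),
     ([(1, 1), (696, 1), (603, 1)], .tr 445 1 [(1, 7), (603, 124), (696, 96)]),
     ([(70, 1), (643, 1), (606, 1)], .tr 446 1 [(70, 185), (643, 45), (606, 38)]),
     ([(77, 1), (314, 1), (228, 1)], .tr 447 1 [(314, 143), (228, 115), (77, 156)]),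
     ([(180, 1), (275, 1), (188, 1)], .tr 448 1 [(188, 16), (275, 146), (180, 13)]),
     ([(304, 1), (431, 1), (292, 1)], .tr 449 1 [(431, 114), (304, 20), (292, 65)]),
     ([(276, 1), (184, 1), (191, 1)], .tr 450 1 [(276, 14), (191, 34), (184, 154)]),
     ([(570, 1), (536, 1), (395, 1)], .tr 451 0 [(570, 153), (395, 120), (536, 0)]),
     ([(613, 1), (532, 1), (538, 1)], .tr 451 1 [(613, 0), (532, 0), (538, 90)]),
     ([(629, 1), (600, 1), (545, 1)], .tr 452 1 [(545, 175), (600, 100), (629, 50)]),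
     ([(806, 1), (477, 1), (547, 1)], .tr 453 0 [(547, 181), (477, 181), (806, 121)]),
     ([(683, 1), (52, 1), (623, 1)], .tr 454 0 [(623, 0), (683, 41), (52, 53)]),
     ([(807, 1), (56, 1), (685, 1)], .tr 454 1 [(807, 129), (685, 31), (56, 177)])]

/-- a chunk of the certificate -/
def steps15 : List (Vec × How) :=
  [([(225, 1), (519, 1), (592, 1)], .tr 455 1 [(592, 100), (519, 49), (225, 50)]),
     ([(313, 1), (316, 1), (230, 1)], .tr 456 1 [(230, 26), (313, 42), (316, 73)]),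
     ([(220, 1), (236, 1), (320, 1)], .tr 457 0 [(220, 0), (320, 21), (236, 162)]),
     ([(321, 1), (239, 1), (356, 1)], .tr 457 1 [(356, 188), (321, 175), (239, 160)]),
     ([(632, 1), (653, 1), (550, 1)], .tr 458 1 [(550, 152), (653, 75), (632, 36)]),
     ([(553, 1), (678, 1), (631, 1)], .tr 459 1 [(678, 0), (553, 12), (631, 134)]),
     ([(555, 1), (620, 1), (565, 1)], .tr 460 0 [(565, 113), (620, 189), (555, 17)]),
     ([(557, 1), (633, 1), (808, 1)], .tr 460 1 [(633, 171), (808, 167), (557, 44)]),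
     ([(511, 1), (648, 1), (533, 1)], .tr 461 1 [(511, 90), (648, 88), (533, 172)]),
     ([(175, 1), (373, 1), (441, 1)], .tr 463 1 [(441, 130), (373, 51), (175, 85)]),
     ([(809, 1), (530, 1), (810, 1)], .tr 464 1 [(810, 181), (530, 177), (809, 45)]),
     ([(650, 1), (597, 1), (811, 1)], .tr 465 0 [(597, 25), (650, 25), (811, 3)]),
     ([(812, 1), (813, 1), (635, 1)], .tr 465 1 [(635, 40), (813, 152), (812, 94)]),
     ([(814, 1), (544, 1), (596, 1)], .tr 466 0 [(814, 126), (596, 0), (544, 148)]),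
     ([(743, 1), (764, 1), (666, 1)], .tr 466 1 [(743, 16), (764, 0), (666, 175)]),
     ([(525, 1), (815, 1), (816, 1)], .tr 467 0 [(816, 66), (815, 154), (525, 189)]),
     ([(661, 1), (4, 1), (817, 1)], .tr 468 0 [(4, 0), (817, 44), (661, 0)]),
     ([(703, 1), (705, 1), (119, 1)], .tr 469 0 [(119, 180), (703, 11), (705, 174)]),
     ([(442, 1), (343, 1), (131, 1)], .tr 470 0 [(131, 141), (442, 141), (343, 141)]),
     ([(446, 1), (146, 1), (133, 1)], .tr 470 1 [(133, 73), (446, 157), (146, 157)]),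
     ([(283, 1), (291, 1), (404, 1)], .tr 471 1 [(283, 13), (404, 188), (291, 72)]),
     ([(562, 1), (421, 1), (433, 1)], .tr 472 1 [(433, 7), (562, 153), (421, 176)]),
     ([(293, 1), (818, 1), (262, 1)], .tr 473 0 [(262, 0), (818, 23), (293, 164)]),
     ([(285, 1), (405, 1), (295, 1)], .tr 473 1 [(405, 95), (285, 92), (295, 61)]),
     ([(657, 1), (680, 1), (819, 1)], .tr 474 1 [(680, 163), (657, 20), (819, 54)]),
     ([(593, 1), (617, 1), (654, 1)], .tr 475 0 [(593, 0), (654, 182), (617, 0)]),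
     ([(656, 1), (662, 1), (820, 1)], .tr 475 1 [(820, 171), (656, 82), (662, 146)]),
     ([(663, 1), (700, 1), (821, 1)], .tr 476 1 [(821, 72), (700, 35), (663, 146)]),
     ([(665, 1), (822, 1), (604, 1)], .tr 477 1 [(822, 88), (604, 24), (665, 98)]),
     ([(87, 1), (718, 1), (757, 1)], .tr 478 0 [(757, 39), (87, 133), (718, 133)]),
     ([(724, 1), (93, 1), (823, 1)], .tr 479 0 [(823, 11), (93, 5), (724, 105)]),
     ([(759, 1), (96, 1), (107, 1)], .tr 479 1 [(107, 124), (96, 166), (759, 176)])]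

/-- a chunk of the certificate -/
def steps16 : List (Vec × How) :=
  [([(443, 1), (447, 1), (349, 1)], .tr 481 0 [(443, 0), (447, 0), (349, 100)]),
     ([(450, 1), (445, 1), (352, 1)], .tr 481 1 [(445, 0), (450, 69), (352, 149)]),
     ([(332, 1), (456, 1), (360, 1)], .tr 483 0 [(456, 158), (360, 33), (332, 71)]),
     ([(489, 1), (364, 1), (824, 1)], .tr 483 1 [(824, 45), (364, 13), (489, 59)]),
     ([(671, 1), (751, 1), (825, 1)], .tr 485 1 [(671, 146), (751, 44), (825, 82)]),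
     ([(723, 1), (716, 1), (673, 1)], .tr 486 1 [(673, 173), (716, 22), (723, 185)]),
     ([(674, 1), (725, 1), (826, 1)], .tr 487 1 [(674, 0), (725, 0), (826, 0)]),
     ([(269, 1), (503, 1), (438, 1)], .tr 489 0 [(269, 61), (503, 143), (438, 133)]),
     ([(668, 1), (495, 1), (652, 1)], .tr 490 0 [(495, 114), (652, 16), (668, 89)]),
     ([(827, 1), (828, 1), (829, 1)], .tr 490 1 [(829, 120), (828, 79), (827, 26)]),
     ([(697, 1), (830, 1), (831, 1)], .tr 491 1 [(830, 87), (697, 125), (831, 151)]),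
     ([(832, 1), (559, 1), (780, 1)], .tr 492 0 [(780, 11), (832, 26), (559, 0)]),
     ([(704, 1), (726, 1), (461, 1)], .tr 492 1 [(704, 129), (461, 0), (726, 170)]),
     ([(833, 1), (664, 1), (695, 1)], .tr 493 1 [(833, 140), (664, 6), (695, 136)]),
     ([(118, 1), (89, 1), (383, 1)], .tr 494 1 [(89, 0), (383, 131), (118, 20)]),
     ([(834, 1), (835, 1), (5, 1)], .tr 495 1 [(5, 27), (835, 126), (834, 182)]),
     ([(770, 1), (836, 1), (199, 1)], .tr 497 0 [(836, 89), (770, 119), (199, 162)]),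
     ([(769, 1), (772, 1), (158, 1)], .tr 497 1 [(769, 189), (772, 170), (158, 2)]),
     ([(212, 1), (479, 1), (574, 1)], .tr 498 1 [(574, 0), (479, 73), (212, 157)]),
     ([(127, 1), (576, 1), (214, 1)], .tr 499 0 [(576, 0), (127, 136), (214, 31)]),
     ([(319, 1), (235, 1), (217, 1)], .tr 499 1 [(319, 37), (235, 10), (217, 96)]),
     ([(837, 1), (409, 1), (420, 1)], .tr 500 1 [(409, 91), (420, 138), (837, 52)]),
     ([(362, 1), (552, 1), (838, 1)], .tr 501 0 [(362, 156), (552, 144), (838, 54)]),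
     ([(427, 1), (415, 1), (540, 1)], .tr 503 1 [(415, 170), (540, 171), (427, 171)]),
     ([(839, 1), (740, 1), (840, 1)], .tr 504 1 [(740, 78), (840, 127), (839, 142)]),
     ([(738, 1), (692, 1), (713, 1)], .tr 505 1 [(692, 173), (713, 146), (738, 92)]),
     ([(434, 1), (95, 1), (365, 1)], .tr 506 1 [(95, 31), (365, 133), (434, 77)]),
     ([(781, 1), (40, 1), (160, 1)], .tr 510 1 [(781, 57), (160, 122), (40, 130)]),
     ([(720, 1), (163, 1), (65, 1)], .tr 511 0 [(720, 65), (163, 67), (65, 99)]),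
     ([(187, 1), (179, 1), (166, 1)], .tr 511 1 [(187, 52), (166, 161), (179, 56)]),
     ([(484, 1), (579, 1), (206, 1)], .tr 512 0 [(206, 136), (579, 11), (484, 97)]),
     ([(841, 1), (771, 1), (575, 1)], .tr 512 1 [(575, 0), (771, 48), (841, 28)])]

/-- a chunk of the certificate -/
def steps17 : List (Vec × How) :=
  [([(577, 1), (581, 1), (487, 1)], .tr 513 1 [(581, 184), (577, 51), (487, 80)]),
     ([(790, 1), (706, 1), (749, 1)], .tr 516 1 [(749, 0), (790, 121), (706, 58)]),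
     ([(752, 1), (719, 1), (380, 1)], .tr 517 1 [(719, 155), (380, 161), (752, 130)]),
     ([(773, 1), (755, 1), (587, 1)], .tr 518 0 [(755, 77), (773, 5), (587, 49)]),
     ([(721, 1), (382, 1), (842, 1)], .tr 521 1 [(842, 189), (382, 86), (721, 117)]),
     ([(843, 1), (82, 1), (765, 1)], .tr 525 1 [(843, 106), (82, 128), (765, 121)]),
     ([(200, 1), (29, 1), (844, 1)], .tr 526 0 [(200, 0), (29, 87), (844, 86)]),
     ([(516, 1), (157, 1), (151, 1)], .tr 526 1 [(157, 178), (151, 101), (516, 182)]),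
     ([(845, 1), (13, 1), (378, 1)], .tr 527 1 [(378, 161), (845, 143), (13, 102)]),
     ([(793, 1), (47, 1), (251, 1)], .tr 529 1 [(47, 98), (793, 118), (251, 166)]),
     ([(324, 1), (227, 1), (684, 1)], .tr 530 0 [(324, 0), (227, 0), (684, 73)]),
     ([(451, 1), (353, 1), (330, 1)], .tr 532 0 [(451, 0), (353, 142), (330, 0)]),
     ([(758, 1), (344, 1), (459, 1)], .tr 537 1 [(344, 119), (758, 31), (459, 25)]),
     ([(497, 1), (159, 1), (567, 1)], .tr 538 1 [(567, 191), (159, 125), (497, 143)]),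
     ([(68, 1), (253, 1), (641, 1)], .tr 539 0 [(641, 42), (68, 70), (253, 43)]),
     ([(846, 1), (847, 1), (62, 1)], .tr 540 0 [(846, 164), (847, 53), (62, 99)]),
     ([(688, 1), (609, 1), (317, 1)], .tr 542 1 [(609, 112), (688, 18), (317, 145)]),
     ([(768, 1), (797, 1), (500, 1)], .tr 548 0 [(500, 37), (797, 31), (768, 83)]),
     ([(241, 1), (306, 1), (55, 1)], .tr 550 1 [(306, 98), (55, 42), (241, 106)]),
     ([(243, 1), (642, 1), (250, 1)], .tr 551 1 [(642, 122), (250, 125), (243, 122)]),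
     ([(848, 1), (194, 1), (80, 1)], .tr 553 1 [(194, 159), (80, 155), (848, 25)]),
     ([(622, 1), (679, 1), (252, 1)], .tr 557 0 [(622, 0), (252, 0), (679, 20)]),
     ([(109, 1), (259, 1), (849, 1)], .tr 559 1 [(849, 35), (259, 3), (109, 148)]),
     ([(449, 1), (760, 1), (710, 1)], .tr 560 1 [(760, 136), (710, 68), (449, 21)]),
     ([(457, 1), (19, 1), (164, 1), (282, 1), (232, 1), (97, 1), (415, 1), (273, 1)], .kill 3 [([], [(19, 1), (457, 1), (164, 1), (282, 1), (97, 173), (232, 172), (415, 1), (273, 8)]), ([], [(232, 21), (97, 63), (164, 8), (282, 8), (457, 12), (19, 41), (415, 8), (273, 1)]), ([], [(457, 3), (19, 3), (282, 3), (164, 3), (232, 1), (97, 19), (273, 188), (415, 187)]), ([], [(457, 4), (19, 4), (273, 116), (415, 2), (232, 2), (97, 4), (282, 2), (164, 169)]), ([], [(19, 5), (457, 5), (282, 39), (164, 39), (232, 20), (97, 141), (415, 5), (273, 37)]), ([], [(164, 167), (282, 167),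 (457, 130), (19, 130), (273, 175), (415, 189), (97, 191), (232, 126)]), ([], [(457, 141), (232, 161), (164, 85), (273, 34), (19, 107), (97, 39), (415, 141), (282, 34)])]),
     ([(183, 1), (350, 1), (213, 1), (38, 1), (58, 1), (427, 1), (171, 1), (342, 1)], .tr 568 0 [(213, 141), (38, 42), (171, 175), (183, 168), (350, 161), (58, 1), (427, 0), (342, 75)]),
     ([(669, 1), (15, 1), (31, 1), (164, 1), (105, 1), (260, 1), (400, 1), (410, 1)], .tr 568 1 [(15, 0), (31, 0), (260, 10), (410, 60), (105, 102), (164, 15), (669, 20), (400, 71)]),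
     ([(558, 1), (66, 1), (39, 1), (263, 1), (63, 1), (284, 1), (102, 1), (475, 1)], .tr 569 1 [(284, 75), (39, 25), (66, 141), (63, 45), (102, 154), (558, 20), (263, 75), (475, 171)]),
     ([(6, 1), (745, 1), (31, 1), (63, 1), (289, 1), (543, 1), (171, 1), (535, 1)], .tr 570 0 [(745, 0), (31, 0), (6, 0), (171, 175), (63, 0), (289, 127), (535, 179), (543, 42)]),
     ([(1, 1), (748, 1), (33, 1), (177, 1), (57, 1), (260, 1), (387, 1), (619, 1)], .tr 570 1 [(748, 0), (33, 186), (57, 90), (260, 10), (177, 49), (387, 53), (1, 7), (619, 54)]),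
     ([(850, 1), (66, 1), (21, 1), (164, 1), (60, 1), (453, 1), (599, 1), (412, 1)], .tr 571 0 [(850, 0), (21, 1), (66, 1), (453, 179), (60, 0), (412, 181), (164, 148), (599, 177)]),
     ([(174, 1), (117, 1), (603, 1), (69, 1), (413, 1), (111, 1), (114, 1), (390, 1)], .tr 571 1 [(117, 130), (114, 0), (69, 124), (390, 90), (111, 100), (413, 49), (174, 75), (603, 124)])]

/-- a chunk of the certificate -/
def steps18 : List (Vec × How) :=
  [([(6, 1), (734, 1), (15, 1), (60, 1), (102, 1), (525, 1), (278, 1), (394, 1)], .tr 572 0 [(15, 0), (734, 83), (6, 0), (60, 0), (278, 119), (394, 9), (102, 1), (525, 189)]),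
     ([(18, 1), (10, 1), (785, 1), (263, 1), (111, 1), (57, 1), (419, 1), (600, 1)], .tr 572 1 [(18, 0), (785, 0), (57, 90), (111, 100), (419, 131), (600, 100), (263, 75), (10, 178)]),
     ([(4, 1), (748, 1), (99, 1), (289, 1), (275, 1), (787, 1), (523, 1), (806, 1)], .tr 573 0 [(4, 0), (787, 44), (748, 179), (275, 119), (99, 0), (289, 127), (523, 146), (806, 121)]),
     ([(7, 1), (717, 1), (16, 1), (276, 1), (387, 1), (61, 1), (524, 1), (103, 1)], .tr 573 1 [(7, 0), (16, 114), (61, 129), (276, 14), (103, 2), (387, 53), (524, 32), (717, 190)]),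
     ([(21, 1), (39, 1), (634, 1), (105, 1), (354, 1), (468, 1), (171, 1), (816, 1)], .tr 574 0 [(634, 71), (21, 1), (39, 0), (171, 175), (105, 0), (354, 161), (816, 66), (468, 40)]),
     ([(43, 1), (123, 1), (114, 1), (260, 1), (108, 1), (701, 1), (584, 1), (545, 1)], .tr 574 1 [(123, 0), (114, 0), (43, 120), (260, 10), (108, 31), (584, 38), (701, 109), (545, 175)]),
     ([(117, 1), (661, 1), (268, 1), (198, 1), (374, 1), (192, 1), (188, 1), (547, 1)], .tr 575 0 [(268, 89), (198, 105), (661, 0), (117, 1), (547, 181), (188, 40), (192, 90), (374, 0)]),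
     ([(712, 1), (94, 1), (156, 1), (271, 1), (195, 1), (528, 1), (122, 1), (191, 1)], .tr 575 1 [(271, 13), (156, 140), (94, 1), (122, 0), (712, 26), (191, 34), (195, 7), (528, 39)]),
     ([(18, 1), (174, 1), (5, 1), (823, 1), (33, 1), (108, 1), (531, 1), (407, 1)], .tr 576 1 [(18, 0), (823, 0), (33, 186), (108, 31), (174, 75), (5, 27), (407, 40), (531, 179)]),
     ([(1, 1), (18, 1), (36, 1), (99, 1), (453, 1), (390, 1), (494, 1), (188, 1)], .tr 577 0 [(36, 0), (1, 11), (18, 20), (453, 179), (188, 40), (99, 0), (390, 178), (494, 143)]),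
     ([(700, 1), (30, 1), (390, 1), (103, 1), (22, 1), (25, 1), (191, 1), (550, 1)], .tr 577 1 [(30, 170), (22, 0), (25, 170), (390, 90), (191, 34), (103, 2), (550, 152), (700, 35)]),
     ([(822, 1), (16, 1), (67, 1), (14, 1), (419, 1), (170, 1), (648, 1), (404, 1)], .tr 578 1 [(14, 160), (16, 114), (170, 115), (419, 131), (404, 188), (67, 141), (648, 88), (822, 88)]),
     ([(712, 1), (30, 1), (16, 1), (401, 1), (523, 1), (106, 1), (173, 1), (262, 1)], .tr 579 0 [(16, 55), (712, 93), (30, 98), (262, 0), (523, 146), (106, 143), (401, 114), (173, 6)]),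
     ([(3, 1), (19, 1), (524, 1), (405, 1), (350, 1), (110, 1), (34, 1), (176, 1)], .tr 579 1 [(19, 167), (350, 0), (34, 28), (405, 95), (524, 32), (110, 34), (3, 145), (176, 22)]),
     ([(724, 1), (834, 1), (69, 1), (263, 1), (43, 1), (177, 1), (488, 1), (546, 1)], .tr 580 1 [(43, 120), (69, 124), (724, 142), (177, 49), (488, 7), (546, 45), (263, 75), (834, 182)]),
     ([(663, 1), (76, 1), (195, 1), (387, 1), (207, 1), (345, 1), (184, 1), (653, 1)], .tr 581 1 [(76, 102), (207, 117), (195, 7), (387, 53), (184, 154), (345, 153), (653, 75), (663, 146)]),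
     ([(665, 1), (156, 1), (307, 1), (511, 1), (366, 1), (300, 1), (396, 1), (291, 1)], .tr 582 1 [(156, 140), (366, 114), (396, 88), (307, 142), (511, 90), (300, 84), (291, 72), (665, 98)]),
     ([(9, 1), (457, 1), (161, 1), (401, 1), (295, 1), (38, 1), (182, 1), (270, 1)], .tr 583 1 [(457, 167), (161, 102), (38, 84), (401, 2), (270, 41), (9, 184), (182, 74), (295, 61)]),
     ([(764, 1), (13, 1), (30, 1), (40, 1), (538, 1), (271, 1), (61, 1), (184, 1)], .tr 584 1 [(30, 170), (271, 13), (13, 102), (40, 130), (61, 129), (184, 154), (764, 0), (538, 90)]),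
     ([(7, 1), (851, 1), (30, 1), (64, 1), (528, 1), (584, 1), (170, 1), (291, 1)], .tr 585 1 [(7, 0), (30, 170), (64, 4), (170, 115), (584, 38), (528, 39), (851, 73), (291, 72)]),
     ([(7, 1), (852, 1), (41, 1), (374, 1), (46, 1), (853, 1), (173, 1), (293, 1)], .tr 586 0 [(852, 165), (7, 110), (374, 0), (173, 6), (41, 126), (46, 0), (293, 164), (853, 114)]),
     ([(854, 1), (528, 1), (295, 1), (50, 1), (370, 1), (44, 1), (58, 1), (176, 1)], .tr 586 1 [(370, 167), (58, 59), (528, 39), (176, 22), (44, 64), (50, 151), (295, 61), (854, 80)]),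
     ([(734, 1), (705, 1), (115, 1), (28, 1), (837, 1), (34, 1), (265, 1), (550, 1)], .tr 587 1 [(705, 187), (34, 28), (115, 104), (28, 158), (550, 152), (265, 50), (734, 179), (837, 52)]),
     ([(0, 1), (457, 1), (178, 1), (266, 1), (34, 1), (58, 1), (648, 1), (389, 1)], .tr 588 1 [(457, 167), (58, 59), (34, 28), (0, 178), (648, 88), (178, 93), (266, 84), (389, 59)]),
     ([(3, 1), (12, 1), (39, 1), (31, 1), (60, 1), (183, 1), (273, 1), (540, 1)], .tr 589 1 [(12, 0), (31, 0), (3, 145), (540, 171), (39, 25), (183, 36), (60, 55), (273, 74)]),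
     ([(613, 1), (666, 1), (781, 1), (76, 1), (378, 1), (276, 1), (390, 1), (122, 1)], .tr 590 1 [(781, 57), (378, 161), (122, 0), (390, 90), (76, 102), (276, 14), (613, 0), (666, 175)]),
     ([(737, 1), (524, 1), (285, 1), (83, 1), (481, 1), (101, 1), (74, 1), (270, 1)], .tr 591 1 [(83, 45), (101, 59), (270, 41), (524, 32), (74, 61), (481, 11), (285, 92), (737, 163)]),
     ([(634, 1), (498, 1), (134, 1), (119, 1), (632, 1), (38, 1), (429, 1), (420, 1)], .tr 592 1 [(119, 127), (38, 84), (134, 39), (634, 190), (498, 4), (429, 83), (632, 36), (420, 138)]),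
     ([(0, 1), (15, 1), (21, 1), (63, 1), (45, 1), (282, 1), (427, 1), (397, 1)], .tr 593 1 [(21, 0), (15, 0), (45, 25), (0, 178), (427, 171), (63, 45), (282, 12), (397, 165)]),
     ([(7, 1), (733, 1), (617, 1), (68, 1), (26, 1), (106, 1), (399, 1), (818, 1)], .tr 594 0 [(733, 105), (26, 127), (7, 110), (68, 70), (617, 0), (399, 146), (106, 143), (818, 23)]),
     ([(662, 1), (401, 1), (285, 1), (71, 1), (29, 1), (383, 1), (110, 1), (58, 1)], .tr 594 1 [(383, 131), (29, 18), (58, 59), (71, 78), (662, 146), (401, 2), (110, 34), (285, 92)]),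
     ([(9, 1), (19, 1), (379, 1), (112, 1), (653, 1), (58, 1), (265, 1), (420, 1)], .tr 595 1 [(19, 167), (379, 156), (58, 59), (112, 185), (9, 184), (653, 75), (265, 50), (420, 138)])]

/-- a chunk of the certificate -/
def steps19 : List (Vec × How) :=
  [([(850, 1), (718, 1), (19, 1), (70, 1), (79, 1), (266, 1), (511, 1), (422, 1)], .tr 596 1 [(19, 167), (718, 20), (70, 185), (511, 90), (79, 62), (850, 181), (266, 84), (422, 75)]),
     ([(9, 1), (442, 1), (478, 1), (77, 1), (84, 1), (102, 1), (427, 1), (273, 1)], .tr 597 1 [(442, 174), (9, 184), (427, 171), (84, 78), (478, 70), (77, 156), (102, 154), (273, 74)]),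
     ([(854, 1), (823, 1), (772, 1), (60, 1), (56, 1), (197, 1), (392, 1), (855, 1)], .tr 598 1 [(823, 0), (772, 170), (197, 177), (56, 177), (855, 158), (60, 55), (392, 120), (854, 80)]),
     ([(3, 1), (457, 1), (213, 1), (409, 1), (101, 1), (429, 1), (210, 1), (550, 1)], .tr 599 0 [(3, 0), (213, 141), (210, 83), (429, 127), (457, 55), (101, 0), (550, 133), (409, 102)]),
     ([(660, 1), (12, 1), (27, 1), (69, 1), (57, 1), (108, 1), (400, 1), (284, 1)], .tr 600 1 [(12, 0), (27, 90), (69, 124), (57, 90), (108, 31), (284, 75), (400, 71), (660, 73)]),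
     ([(820, 1), (528, 1), (405, 1), (118, 1), (844, 1), (53, 1), (101, 1), (182, 1)], .tr 601 1 [(820, 171), (118, 20), (53, 126), (101, 59), (844, 67), (405, 95), (528, 39), (182, 74)]),
     ([(3, 1), (142, 1), (343, 1), (314, 1), (126, 1), (171, 1), (415, 1), (397, 1)], .tr 602 1 [(343, 141), (3, 145), (415, 170), (142, 65), (314, 143), (171, 154), (126, 116), (397, 165)]),
     ([(724, 1), (722, 1), (63, 1), (158, 1), (807, 1), (508, 1), (221, 1), (551, 1)], .tr 603 1 [(724, 142), (807, 129), (221, 57), (158, 2), (722, 70), (63, 45), (508, 120), (551, 52)]),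
     ([(713, 1), (19, 1), (728, 1), (49, 1), (178, 1), (116, 1), (533, 1), (612, 1)], .tr 605 1 [(19, 167), (728, 169), (713, 146), (116, 96), (49, 138), (178, 93), (533, 172), (612, 22)]),
     ([(0, 1), (516, 1), (55, 1), (365, 1), (102, 1), (121, 1), (183, 1), (415, 1)], .tr 606 1 [(365, 133), (0, 178), (415, 170), (121, 113), (55, 42), (516, 182), (183, 36), (102, 154)]),
     ([(0, 1), (19, 1), (856, 1), (186, 1), (38, 1), (101, 1), (496, 1), (667, 1)], .tr 607 0 [(0, 1), (38, 42), (19, 0), (186, 133), (496, 147), (101, 0), (856, 28), (667, 44)]),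
     ([(634, 1), (31, 1), (123, 1), (120, 1), (787, 1), (815, 1), (394, 1), (138, 1)], .tr 608 1 [(123, 0), (787, 33), (31, 0), (120, 149), (138, 65), (394, 5), (634, 190), (815, 46)]),
     ([(558, 1), (21, 1), (174, 1), (313, 1), (574, 1), (400, 1), (150, 1), (133, 1)], .tr 609 1 [(21, 0), (574, 0), (313, 42), (133, 73), (150, 184), (174, 75), (558, 20), (400, 71)]),
     ([(442, 1), (857, 1), (40, 1), (527, 1), (108, 1), (304, 1), (793, 1), (96, 1)], .tr 610 1 [(442, 174), (40, 130), (793, 118), (108, 31), (96, 166), (304, 20), (527, 78), (857, 42)]),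
     ([(24, 1), (51, 1), (117, 1), (742, 1), (99, 1), (180, 1), (412, 1), (535, 1)], .tr 612 0 [(742, 0), (24, 0), (51, 0), (117, 1), (99, 0), (180, 8), (535, 179), (412, 181)]),
     ([(9, 1), (434, 1), (157, 1), (241, 1), (282, 1), (171, 1), (92, 1), (540, 1)], .tr 613 1 [(434, 77), (9, 184), (540, 171), (157, 178), (241, 106), (92, 169), (171, 154), (282, 12)]),
     ([(858, 1), (781, 1), (131, 1), (111, 1), (630, 1), (251, 1), (107, 1), (292, 1)], .tr 615 1 [(781, 57), (131, 0), (111, 100), (251, 166), (107, 124), (630, 140), (292, 65), (858, 65)]),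
     ([(655, 1), (31, 1), (579, 1), (86, 1), (459, 1), (278, 1), (196, 1), (816, 1)], .tr 616 1 [(459, 25), (31, 0), (579, 106), (86, 74), (278, 73), (196, 28), (655, 178), (816, 188)]),
     ([(724, 1), (835, 1), (67, 1), (57, 1), (225, 1), (207, 1), (531, 1), (204, 1)], .tr 619 1 [(724, 142), (57, 90), (207, 117), (204, 130), (67, 141), (835, 126), (531, 179), (225, 50)]),
     ([(1, 1), (117, 1), (43, 1), (682, 1), (271, 1), (445, 1), (239, 1), (217, 1)], .tr 620 1 [(117, 130), (43, 120), (271, 13), (445, 0), (682, 161), (1, 7), (239, 160), (217, 96)]),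
     ([(692, 1), (845, 1), (650, 1), (205, 1), (180, 1), (68, 1), (417, 1), (163, 1)], .tr 621 0 [(205, 0), (692, 83), (68, 70), (650, 25), (180, 8), (417, 98), (845, 47), (163, 67)]),
     ([(813, 1), (447, 1), (574, 1), (71, 1), (184, 1), (194, 1), (433, 1), (166, 1)], .tr 621 1 [(574, 0), (447, 15), (71, 78), (813, 152), (184, 154), (433, 7), (194, 159), (166, 161)]),
     ([(10, 1), (88, 1), (156, 1), (48, 1), (90, 1), (170, 1), (545, 1), (283, 1)], .tr 622 1 [(48, 90), (90, 0), (156, 140), (88, 122), (170, 115), (283, 13), (545, 175), (10, 178)]),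
     ([(660, 1), (21, 1), (567, 1), (263, 1), (153, 1), (250, 1), (368, 1), (410, 1)], .tr 623 1 [(21, 0), (567, 191), (250, 125), (368, 191), (410, 60), (263, 75), (153, 82), (660, 73)]),
     ([(443, 1), (812, 1), (212, 1), (421, 1), (179, 1), (53, 1), (848, 1), (191, 1)], .tr 624 1 [(443, 142), (53, 126), (212, 157), (191, 34), (812, 94), (848, 25), (179, 56), (421, 176)]),
     ([(93, 1), (834, 1), (586, 1), (57, 1), (688, 1), (149, 1), (407, 1), (305, 1)], .tr 625 1 [(93, 0), (57, 90), (688, 18), (149, 165), (586, 96), (407, 40), (305, 20), (834, 182)]),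
     ([(764, 1), (845, 1), (781, 1), (340, 1), (115, 1), (103, 1), (74, 1), (312, 1)], .tr 626 1 [(781, 57), (845, 143), (115, 104), (103, 2), (340, 34), (74, 61), (764, 0), (312, 150)]),
     ([(830, 1), (316, 1), (758, 1), (200, 1), (116, 1), (257, 1), (548, 1), (283, 1)], .tr 628 1 [(758, 31), (200, 62), (830, 87), (316, 73), (283, 13), (116, 96), (548, 113), (257, 19)]),
     ([(832, 1), (258, 1), (684, 1), (579, 1), (118, 1), (299, 1), (838, 1), (818, 1)], .tr 629 0 [(832, 26), (579, 11), (684, 73), (118, 77), (818, 23), (299, 1), (838, 54), (258, 181)]),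
     ([(663, 1), (85, 1), (22, 1), (152, 1), (154, 1), (409, 1), (38, 1), (265, 1)], .tr 630 1 [(22, 0), (152, 161), (38, 84), (85, 100), (154, 20), (265, 50), (663, 146), (409, 91)]),
     ([(1, 1), (9, 1), (741, 1), (24, 1), (442, 1), (859, 1), (830, 1), (703, 1), (860, 1), (698, 1), (768, 1), (369, 1), (40, 1), (730, 1), (130, 1), (33, 1), (861, 1), (423, 1), (586, 1), (560, 1), (227, 1), (99, 1), (234, 1), (862, 1), (680, 1), (200, 1), (863, 1), (189, 1), (295, 1), (778, 1), (50, 1), (762, 1), (864, 1), (208, 1), (690, 1), (563, 1), (425, 1), (373, 1), (652, 1), (480, 1), (128, 1), (184, 1), (710, 1), (485, 1), (653, 1), (287, 1), (418, 1), (217, 1), (476, 1), (339, 1), (806, 1), (487, 1), (590, 1), (341, 1), (520, 1), (310, 1), (92, 1), (407, 1), (219, 1), (564, 1), (335, 1), (194, 1), (578, 1)], .kill 0 [([], [(830, 0), (859, 153), (9, 178), (227, 0), (730, 16), (698, 180), (741, 188), (762,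 14), (1, 131), (860, 159), (690, 49), (130, 48), (861, 13), (369, 158), (864, 4), (208, 43), (217, 0), (425, 107), (33, 89), (778, 50), (287, 173), (563, 31), (485, 102), (310, 99), (373, 66), (50, 23), (487, 149), (24, 136), (680, 119), (863, 22), (234, 61), (442, 61), (703, 0), (194, 72), (578, 37), (652, 59), (339, 172), (586, 25), (560, 25), (862, 114), (418, 57), (200, 29), (423, 45), (407, 149), (335, 16), (219, 15), (653, 19), (128, 54), (189, 147), (480, 48), (520, 20), (99, 189), (806, 41), (476, 10), (768, 48), (710, 143), (590, 51), (564, 94), (341, 69), (184, 134), (40, 29), (295, 98), (92, 114)]), ([], [(1, 9), (9, 34), (741, 14), (442, 0), (24, 0), (859, 94), (830, 40), (200, 56), (860, 182), (698, 40), (864, 163), (40, 20), (369, 20), (778, 138), (586, 143), (99, 48), (219, 111), (564, 141), (130, 105), (234, 0), (485, 102), (33, 91), (560, 0), (92, 89), (590, 24), (703, 79), (710, 74),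 (578, 89), (653, 93), (730, 138), (194, 65), (480, 47), (768, 153), (339, 80), (128, 119), (476, 103), (341, 129), (287, 22), (418, 124), (762, 64), (690, 174), (217, 94), (863, 80), (227, 96), (295, 84), (373, 31), (652, 98), (184, 94), (563, 103), (208, 74), (407, 80), (520, 97), (680, 17), (425, 151), (487, 100), (335, 132), (862, 89), (806, 74), (861, 168), (423, 141), (310, 112), (50, 70), (189, 89)]), ([], [(703, 0), (369, 104), (130, 174), (24, 184), (698, 44), (730, 48), (864, 0), (1, 0), (762, 81), (442, 58), (768, 182), (9, 142), (40, 10), (859, 91), (741, 119), (373, 32), (335, 23), (710, 51), (586, 14), (863, 74), (189, 84), (563, 65), (564, 137), (339, 138), (208, 77), (200, 9), (560, 80), (227, 93), (194, 96), (778, 6), (184, 187), (860, 50), (830, 0), (680, 83), (520, 133), (99, 70), (310, 127), (33, 29), (487, 2), (480, 184), (418, 6), (50, 188), (423, 76), (407, 155), (217, 15), (476,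 140), (128, 6), (653, 15), (287, 140), (862, 138), (578, 52), (652, 2), (92, 163), (219, 160), (690, 114), (425, 134), (590, 153), (485, 137), (341, 118), (234, 155), (861, 27), (295, 102), (806, 52)])]),
     ([(0, 1), (834, 1), (672, 1), (4, 1), (813, 1), (748, 1), (674, 1), (833, 1), (843, 1), (143, 1), (499, 1), (865, 1), (532, 1), (866, 1), (836, 1), (867, 1), (586, 1), (205, 1), (45, 1), (177, 1), (167, 1), (20, 1), (783, 1), (344, 1), (493, 1), (85, 1), (121, 1), (79, 1), (321, 1), (266, 1), (285, 1), (71, 1), (83, 1), (68, 1), (868, 1), (113, 1), (248, 1), (802, 1), (762, 1), (795, 1), (503, 1), (690, 1), (431, 1), (229, 1), (869, 1), (299, 1), (581, 1), (536, 1), (436, 1), (154, 1), (646, 1), (470, 1), (320, 1), (330, 1), (629, 1), (474, 1), (615, 1), (363, 1), (601, 1), (556, 1), (496, 1), (870, 1), (818, 1)], .tr 638 0 [(4, 0), (0, 1), (834, 102), (45, 25), (205, 0), (672, 0), (813, 16),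 (836, 89), (833, 0), (866, 170), (865, 0), (499, 0), (68, 70), (783, 0), (143, 97), (748, 179), (843, 0), (869, 0), (690, 129), (266, 83), (344, 8), (167, 69), (154, 109), (674, 25), (532, 141), (71, 83), (867, 121), (248, 74), (285, 114), (795, 0), (83, 13), (586, 48), (20, 114), (320, 21), (762, 14), (363, 131), (556, 41), (503, 143), (646, 85), (229, 25), (85, 157), (818, 23), (436, 0), (868, 98), (496, 147), (113, 118), (870, 118), (330, 0), (601, 52), (470, 42), (629, 0), (581, 88), (493, 144), (474, 1), (431, 160), (802, 11), (121, 8), (536, 0), (79, 112), (615, 68), (321, 186), (299, 1), (177, 1)])]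

/-- a chunk of the certificate -/
def steps20 : List (Vec × How) :=
  [([(696, 1), (21, 1), (602, 1), (737, 1), (7, 1), (736, 1), (559, 1), (871, 1), (294, 1), (708, 1), (840, 1), (872, 1), (822, 1), (784, 1), (512, 1), (691, 1), (153, 1), (48, 1), (538, 1), (769, 1), (560, 1), (84, 1), (574, 1), (306, 1), (180, 1), (549, 1), (354, 1), (519, 1), (61, 1), (321, 1), (553, 1), (285, 1), (71, 1), (767, 1), (46, 1), (125, 1), (676, 1), (873, 1), (500, 1), (26, 1), (606, 1), (417, 1), (618, 1), (213, 1), (412, 1), (611, 1), (287, 1), (477, 1), (333, 1), (651, 1), (347, 1), (502, 1), (162, 1), (427, 1), (466, 1), (170, 1), (210, 1), (687, 1), (471, 1), (219, 1), (439, 1), (506, 1), (301, 1)], .tr 638 1 [(7, 0), (21, 0), (784, 0), (48, 90), (574, 0), (872, 61), (708, 172), (769, 189), (125, 60), (767, 98), (46, 183), (500, 64), (71, 78), (871, 82), (213, 102), (61, 129), (687, 85), (553, 12), (691, 152),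 (412, 75), (347, 12), (170, 115), (354, 151), (219, 169), (840, 127), (306, 98), (502, 55), (294, 172), (427, 171), (873, 94), (84, 78), (512, 31), (26, 28), (321, 175), (162, 15), (676, 10), (559, 162), (506, 17), (736, 81), (606, 38), (210, 56), (285, 92), (287, 51), (611, 101), (737, 163), (417, 172), (549, 170), (333, 135), (602, 95), (471, 189), (822, 88), (560, 138), (651, 34), (477, 86), (618, 124), (439, 82), (153, 82), (538, 90), (180, 13), (696, 96), (466, 76), (301, 162), (519, 49)]),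
     ([(3, 1), (12, 1), (10, 1), (715, 1), (750, 1), (832, 1), (666, 1), (294, 1), (76, 1), (243, 1), (245, 1), (640, 1), (224, 1), (774, 1), (586, 1), (479, 1), (314, 1), (57, 1), (134, 1), (755, 1), (530, 1), (275, 1), (247, 1), (201, 1), (351, 1), (874, 1), (405, 1), (118, 1), (787, 1), (782, 1), (187, 1), (322, 1), (829, 1), (875, 1), (619, 1), (23, 1), (762, 1), (577, 1), (141, 1), (690, 1), (815, 1), (643, 1), (345, 1), (842, 1), (37, 1), (618, 1), (876, 1), (386, 1), (456, 1), (429, 1), (505, 1), (116, 1), (204, 1), (654, 1), (147, 1), (466, 1), (452, 1), (329, 1), (554, 1), (471, 1), (572, 1), (533, 1), (283, 1)], .tr 639 0 [(3, 0), (715, 0), (750, 0), (10, 11), (832, 26), (787, 44), (755, 77), (666, 48), (774, 0), (76, 162), (243, 20), (842, 77), (654, 182), (829, 5), (643, 114), (782, 110), (690, 129), (314, 141), (12, 25), (275, 119), (57, 90), (37, 179), (640, 0), (479, 8), (618, 41), (147,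 113), (201, 0), (134, 141), (456, 158), (429, 127), (405, 0), (118, 77), (141, 150), (23, 19), (351, 136), (187, 0), (322, 80), (204, 151), (586, 48), (875, 55), (247, 50), (762, 14), (386, 36), (345, 81), (294, 25), (116, 92), (577, 174), (572, 76), (876, 0), (245, 52), (530, 47), (224, 69), (452, 36), (329, 112), (619, 110), (471, 44), (815, 154), (505, 110), (874, 90), (554, 27), (533, 83), (466, 24), (283, 16)]),
     ([(6, 1), (745, 1), (142, 1), (656, 1), (699, 1), (672, 1), (843, 1), (756, 1), (733, 1), (203, 1), (316, 1), (836, 1), (821, 1), (16, 1), (512, 1), (691, 1), (378, 1), (36, 1), (783, 1), (562, 1), (276, 1), (32, 1), (779, 1), (624, 1), (372, 1), (494, 1), (657, 1), (473, 1), (78, 1), (121, 1), (248, 1), (14, 1), (568, 1), (753, 1), (795, 1), (877, 1), (482, 1), (878, 1), (461, 1), (148, 1), (346, 1), (441, 1), (190, 1), (536, 1), (232, 1), (620, 1), (375, 1), (320, 1), (339, 1),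 (116, 1), (534, 1), (106, 1), (454, 1), (237, 1), (162, 1), (172, 1), (556, 1), (824, 1), (598, 1), (415, 1), (612, 1), (394, 1), (138, 1)], .tr 639 1 [(6, 0), (378, 161), (753, 0), (14, 160), (461, 0), (16, 114), (836, 144), (843, 106), (783, 85), (232, 0), (624, 169), (106, 183), (656, 82), (877, 54), (36, 118), (878, 66), (691, 152), (316, 73), (78, 27), (276, 14), (172, 102), (32, 82), (795, 15), (482, 18), (620, 26), (148, 126), (203, 129), (138, 65), (824, 45), (394, 5), (415, 170), (121, 113), (142, 65), (116, 96), (237, 34), (190, 166), (375, 175), (441, 130), (512, 31), (779, 72), (536, 182), (162, 15), (562, 153), (346, 63), (556, 72), (320, 182), (372, 76), (657, 20), (568, 52), (248, 8), (733, 34), (473, 52), (454, 8), (339, 24), (821, 72), (598, 179), (756, 104), (494, 163), (699, 105), (672, 12), (745, 182), (534, 69), (612, 22)]),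
     ([(434, 1), (318, 1), (39, 1), (722, 1), (81, 1), (817, 1), (700, 1), (673, 1), (735, 1), (42, 1), (871, 1), (828, 1), (872, 1), (263, 1), (831, 1), (705, 1), (16, 1), (760, 1), (423, 1), (250, 1), (684, 1), (450, 1), (145, 1), (79, 1), (136, 1), (617, 1), (266, 1), (103, 1), (405, 1), (118, 1), (446, 1), (113, 1), (807, 1), (749, 1), (14, 1), (792, 1), (384, 1), (873, 1), (468, 1), (791, 1), (625, 1), (776, 1), (488, 1), (814, 1), (246, 1), (456, 1), (628, 1), (418, 1), (34, 1), (626, 1), (645, 1), (426, 1), (47, 1), (106, 1), (590, 1), (341, 1), (644, 1), (600, 1), (312, 1), (455, 1), (711, 1), (280, 1), (540, 1)], .tr 640 0 [(817, 44), (39, 0), (673, 113), (722, 0), (16, 55), (828, 188), (831, 174), (873, 40), (423, 25), (776, 162), (735, 120), (871, 170), (700, 165), (792, 134), (250, 141), (749, 72), (246, 7), (81, 5), (617, 0), (807, 5), (266, 83), (145, 83), (684, 73), (434, 1), (280, 1),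 (628, 100), (263, 2), (645, 178), (106, 143), (456, 158), (426, 24), (405, 0), (118, 77), (791, 70), (14, 0), (42, 143), (814, 126), (872, 71), (625, 120), (47, 186), (705, 174), (384, 115), (590, 108), (34, 92), (468, 40), (711, 4), (113, 118), (600, 1), (455, 125), (644, 186), (450, 125), (626, 162), (760, 69), (540, 111), (418, 164), (103, 156), (318, 77), (446, 77), (341, 25), (79, 112), (312, 73), (488, 51), (136, 96)]),
     ([(655, 1), (12, 1), (670, 1), (27, 1), (746, 1), (738, 1), (835, 1), (717, 1), (42, 1), (828, 1), (605, 1), (512, 1), (691, 1), (504, 1), (856, 1), (167, 1), (67, 1), (41, 1), (157, 1), (234, 1), (268, 1), (228, 1), (451, 1), (684, 1), (374, 1), (308, 1), (593, 1), (103, 1), (796, 1), (118, 1), (446, 1), (721, 1), (22, 1), (381, 1), (875, 1), (481, 1), (762, 1), (714, 1), (52, 1), (181, 1), (879, 1), (582, 1), (409, 1), (101, 1), (371, 1), (629, 1), (426, 1), (196, 1), (162,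 1), (341, 1), (659, 1), (312, 1), (65, 1), (537, 1), (880, 1), (596, 1), (464, 1), (290, 1), (508, 1), (221, 1), (522, 1), (404, 1), (540, 1)], .tr 641 1 [(12, 0), (27, 90), (22, 0), (381, 0), (875, 0), (762, 114), (118, 20), (426, 0), (101, 59), (371, 162), (268, 88), (880, 0), (341, 80), (684, 97), (691, 152), (605, 12), (446, 157), (103, 2), (221, 57), (52, 121), (828, 79), (404, 188), (374, 60), (308, 100), (451, 12), (746, 146), (540, 171), (157, 178), (67, 141), (796, 42), (290, 123), (504, 80), (721, 117), (879, 0), (717, 190), (42, 165), (512, 31), (856, 137), (228, 115), (162, 15), (835, 126), (167, 36), (481, 11), (41, 43), (65, 140), (714, 103), (181, 13), (522, 121), (537, 35), (508, 120), (629, 50), (196, 28), (312, 150), (738, 92), (234, 43), (593, 7), (582, 123), (464, 111), (670, 146), (596, 188), (659, 183), (655, 178), (409, 91)]),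
     ([(734, 1), (15, 1), (750, 1), (723, 1), (603, 1), (693, 1), (662, 1), (785, 1), (8, 1), (695, 1), (841, 1), (30, 1), (640, 1), (447, 1), (760, 1), (774, 1), (250, 1), (538, 1), (111, 1), (77, 1), (337, 1), (624, 1), (64, 1), (201, 1), (322, 1), (749, 1), (875, 1), (25, 1), (877, 1), (676, 1), (878, 1), (501, 1), (643, 1), (513, 1), (350, 1), (837, 1), (110, 1), (362, 1), (879, 1), (169, 1), (507, 1), (849, 1), (470, 1), (526, 1), (91, 1), (410, 1), (477, 1), (489, 1), (607, 1), (438, 1), (309, 1), (427, 1), (452, 1), (880, 1), (356, 1), (631, 1), (357, 1), (554, 1), (472, 1), (292, 1), (194, 1), (572, 1), (262, 1)], .tr 642 0 [(15, 0), (734, 83), (77, 141), (662, 159), (723, 0), (750, 0), (774, 0), (603, 5), (695, 98), (309, 0), (447, 0), (643, 114), (693, 39), (30, 98), (250, 141), (749, 72), (513, 152), (785, 20), (640, 0), (362, 156), (262, 0), (8, 156), (880, 106), (877, 116), (337, 111),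 (477, 181), (538, 0), (472, 184), (91, 102), (201, 0), (322, 80), (25, 0), (849, 93), (879, 110), (875, 55), (878, 23), (607, 91), (624, 142), (841, 189), (110, 83), (501, 44), (438, 133), (292, 93), (572, 76), (350, 161), (631, 186), (507, 3), (452, 36), (470, 42), (194, 47), (526, 0), (64, 105), (356, 167), (357, 152), (760, 69), (169, 159), (554, 27), (489, 77), (676, 181), (427, 0), (837, 20), (410, 23), (111, 89)]),
     ([(660, 1), (24, 1), (51, 1), (839, 1), (87, 1), (712, 1), (747, 1), (716, 1), (739, 1), (732, 1), (704, 1), (801, 1), (343, 1), (160, 1), (760, 1), (440, 1), (250, 1), (586, 1), (67, 1), (41, 1), (542, 1), (57, 1), (233, 1), (758, 1), (430, 1), (55, 1), (709, 1), (416, 1), (437, 1), (555, 1), (421, 1), (200, 1), (576, 1), (749, 1), (22, 1), (778, 1), (767, 1), (279, 1), (619, 1), (794, 1), (244, 1), (500, 1), (73, 1), (819, 1), (154, 1), (491, 1), (277, 1), (428, 1), (209, 1),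 (419, 1), (681, 1), (658, 1), (474, 1), (502, 1), (62, 1), (97, 1), (197, 1), (191, 1), (173, 1), (415, 1), (647, 1), (392, 1), (465, 1)], .tr 644 0 [(660, 0), (24, 0), (747, 63), (51, 0), (716, 4), (839, 20), (739, 173), (712, 93), (73, 1), (732, 170), (704, 0), (250, 141), (749, 72), (801, 25), (430, 5), (57, 90), (22, 175), (67, 0), (55, 77), (154, 109), (416, 124), (343, 141), (209, 184), (758, 16), (419, 178), (437, 0), (819, 143), (173, 6), (767, 121), (200, 0), (576, 0), (500, 37), (41, 126), (160, 161), (778, 49), (244, 159), (586, 48), (681, 176), (87, 133), (279, 147), (794, 143), (465, 25), (542, 96), (97, 1), (502, 117), (619, 110), (555, 17), (233, 178), (760, 69), (474, 1), (658, 1), (440, 45), (62, 99), (491, 63), (709, 157), (647, 76), (428, 90), (277, 21), (392, 0), (197, 99), (421, 0), (191, 141), (415, 168)])]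

/-- certificate data -/
def data : Data where
  n := 9
  p := 2
  N := 881
  gens := [[(0, 1), (1, 2)],
    [(0, 1), (1, 2), (2, 3), (3, 4), (4, 5), (5, 6), (6, 7), (7, 8)],
    [(0, 1), (2, 3)],
    [(0, 2), (1, 3)],
    [(4, 5), (6, 7)],
    [(4, 6), (5, 7)],
    [(0, 1), (4, 5)],
    [(0, 4), (1, 5), (2, 6), (3, 7)],
    [(1, 2), (5, 7)],
    [(2, 3), (3, 4)],
    [(0, 1), (1, 2), (2, 3), (3, 4)],
    [(0, 5), (1, 4)],
    [(0, 1), (1, 2), (2, 3), (3, 4), (4, 5), (5, 6)],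
    [(1, 2), (3, 6)],
    [(0, 2), (2, 3), (3, 4), (4, 5), (5, 6), (6, 1)],
    [(0, 2), (3, 6)],
    [(0, 7), (1, 6), (2, 3), (4, 5)],
    [(0, 6), (1, 7), (2, 3), (4, 5)],
    [(1, 2), (2, 4), (4, 3), (3, 6), (6, 7), (7, 5)],
    [(0, 1), (2, 3), (4, 5), (6, 7)],
    [(0, 8), (2, 5), (3, 6), (4, 7)],
    [(0, 2), (2, 4), (4, 3), (3, 6), (6, 7), (7, 5)],
    [(1, 8), (2, 5), (3, 6), (4, 7)],
    [(1, 2), (2, 3)],
    [(5, 6), (6, 7)],
    [(2, 4), (3, 5)],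
    [(1, 2), (5, 6)]]
  xgens := [(2, 1), (3, 1), (4, 1), (5, 1), (6, 1), (7, 1), (8, 1)]
  xs := [xs0, xs1, xs2, xs3, xs4, xs5]
  nX := 192
  reps := [reps0, reps1, reps2, reps3, reps4, reps5, reps6, reps7, reps8, reps9, reps10, reps11, reps12, reps13, reps14, reps15, reps16, reps17, reps18, reps19, reps20, reps21, reps22, reps23, reps24, reps25, reps26, reps27]
  Ks := [[(18, 1), (19, 1), (20, 1)], [(2, 1), (3, 1), (4, 1), (5, 1), (6, 1), (7, 1), (24, 1)], [(2, 1), (3, 1), (4, 1), (5, 1), (6, 1), (7, 1), (25, 1)], [(2, 1), (3, 1), (4, 1), (5, 1), (6, 1), (7, 1), (26, 1)]]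
  steps := [steps0, steps1, steps2, steps3, steps4, steps5, steps6, steps7, steps8, steps9, steps10, steps11, steps12, steps13, steps14, steps15, steps16, steps17, steps18, steps19, steps20]
  nSteps := 647
  fin := [(1, 1), (2, 1), (4, 1), (8, 1), (10, 1), (13, 1), (17, 1), (18, 1), (20, 1), (22, 1), (24, 1), (26, 1), (27, 1), (29, 1), (31, 1), (32, 1), (35, 1), (36, 1), (37, 1), (41, 1), (42, 1), (46, 1), (49, 1), (50, 1), (51, 1), (55, 1), (57, 1), (58, 1), (59, 1), (62, 1), (64, 1), (65, 1), (66, 1), (67, 1), (69, 1), (70, 1), (71, 1), (72, 1), (73, 1), (82, 1), (83, 1), (85, 1), (86, 1), (87, 1), (89, 1), (90, 1), (93, 1), (97, 1), (99, 1), (100, 1), (101, 1), (104, 1), (105, 1), (106, 1), (108, 1), (109, 1), (111, 1), (113, 1), (114, 1), (116, 1), (120, 1), (123, 1), (124, 1), (125, 1), (128, 1), (130, 1), (131, 1), (134, 1), (136, 1), (138, 1), (141, 1), (143, 1), (145, 1), (147, 1), (149, 1),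 (152, 1), (154, 1), (157, 1), (162, 1), (163, 1), (165, 1), (167, 1), (168, 1), (171, 1), (174, 1), (176, 1), (178, 1), (179, 1), (180, 1), (185, 1), (186, 1), (187, 1), (188, 1), (189, 1), (190, 1), (191, 1), (192, 1), (193, 1), (195, 1), (196, 1), (199, 1), (201, 1), (203, 1), (206, 1), (208, 1), (209, 1), (210, 1), (211, 1), (212, 1), (215, 1), (220, 1), (223, 1), (224, 1), (226, 1), (228, 1), (229, 1), (230, 1), (231, 1), (232, 1), (234, 1), (236, 1), (239, 1), (240, 1), (241, 1), (243, 1), (244, 1), (246, 1), (247, 1), (248, 1), (249, 1), (250, 1), (251, 1), (253, 1), (254, 1), (255, 1), (256, 1), (258, 1), (259, 1), (261, 1), (262, 1), (263, 1), (266, 1), (267, 1), (268, 1), (270, 1), (271, 1), (273, 1), (275, 1), (276, 1), (277, 1), (278, 1), (279, 1), (283, 1), (284, 1), (285, 1), (286, 1), (289, 1), (290, 1), (292, 1), (294, 1), (295, 1), (296, 1), (298, 1), (299, 1), (300, 1), (302, 1), (304,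 1), (305, 1), (307, 1), (309, 1), (310, 1), (312, 1), (314, 1), (315, 1), (316, 1), (319, 1), (321, 1), (322, 1), (323, 1), (324, 1), (325, 1), (326, 1), (327, 1), (328, 1), (329, 1), (330, 1), (331, 1), (332, 1), (333, 1), (338, 1), (339, 1), (340, 1), (341, 1), (342, 1), (344, 1), (345, 1), (346, 1), (348, 1), (349, 1), (351, 1), (353, 1), (354, 1), (356, 1), (358, 1), (360, 1), (361, 1), (363, 1), (365, 1), (366, 1), (367, 1), (368, 1), (369, 1), (371, 1), (372, 1), (374, 1), (375, 1), (376, 1), (377, 1), (378, 1), (379, 1), (380, 1), (381, 1), (382, 1), (383, 1), (384, 1), (385, 1), (386, 1), (388, 1), (391, 1), (392, 1), (393, 1), (396, 1), (398, 1), (399, 1), (400, 1), (401, 1), (404, 1), (406, 1), (408, 1), (410, 1), (415, 1), (419, 1), (421, 1), (423, 1), (428, 1), (429, 1), (430, 1), (431, 1), (436, 1), (437, 1), (438, 1), (440, 1), (445, 1), (446, 1), (447, 1), (448, 1), (450, 1), (451, 1),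 (452, 1), (453, 1), (454, 1), (455, 1), (456, 1), (458, 1), (459, 1), (460, 1), (462, 1), (465, 1), (466, 1), (468, 1), (471, 1), (473, 1), (474, 1), (475, 1), (478, 1), (479, 1), (480, 1), (482, 1), (484, 1), (485, 1), (486, 1), (488, 1), (492, 1), (493, 1), (494, 1), (496, 1), (501, 1), (502, 1), (504, 1), (505, 1), (507, 1), (508, 1), (509, 1), (511, 1), (514, 1), (515, 1), (519, 1), (520, 1), (522, 1), (523, 1), (524, 1), (526, 1), (527, 1), (528, 1), (531, 1), (532, 1), (533, 1), (534, 1), (535, 1), (536, 1), (537, 1), (538, 1), (539, 1), (540, 1), (541, 1), (543, 1), (544, 1), (545, 1), (546, 1), (547, 1), (549, 1), (551, 1), (552, 1), (553, 1), (554, 1), (555, 1), (556, 1), (558, 1), (561, 1), (562, 1), (563, 1), (564, 1), (565, 1), (566, 1), (567, 1), (589, 1), (593, 1), (599, 1), (604, 1), (607, 1), (609, 1), (611, 1), (614, 1), (617, 1), (618, 1), (627, 1), (629, 1), (631, 1), (632, 1), (633,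 1), (634, 1), (635, 1), (636, 1), (637, 1), (640, 1), (642, 1), (643, 1), (644, 1), (645, 1), (646, 1)]

theorem ks_eq : data.killed = [Words.l28, Words.stabQ, Words.stabM, Words.stabE] := by decide +kernel

theorem xgens_eq : data.fixedBy = Words.stabF := by decide +kernel

theorem checked : data.checked data.eqv2 = true := by decide +kernel

end H63.ModCert.P2F
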