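import Cfsg.Agent.H63.ModCert.Words

/-! Certificate P2L1 (computed offline). -/

set_option autoImplicit false

namespace H63.ModCert.P2L1

/-- certificate data -/
def data : Data where
  n := 9
  p := 2
  N := 35
  gens := [[(0, 1), (1, 2)],
    [(0, 1), (1, 2), (2, 3), (3, 4), (4, 5), (5, 6)],
    [(1, 2), (2, 3)],
    [(4, 5), (5, 6)],
    [(0, 1), (4, 5)],
    [(2, 3), (3, 4)],
    [(0, 1), (1, 2), (2, 3), (3, 4)],
    [(0, 5), (1, 4)],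
    [(1, 2), (3, 6)],
    [(0, 2), (2, 3), (3, 4), (4, 5), (5, 6), (6, 1)],
    [(0, 2), (3, 6)]]
  xgens := [(0, 1), (2, 1), (3, 1), (4, 1)]
  xs := [[([], 1, 0, 0),
     ([(0, 1), (1, 2)], 1, 0, 0),
     ([(1, 2), (2, 3)], 1, 1, 0),
     ([(4, 5), (5, 6)], 1, 2, 0),
     ([(0, 1), (4, 5)], 1, 3, 0),
     ([(0, 2), (2, 1)], 1, 0, 1),
     ([(0, 2), (1, 3)], 1, 1, 1),
     ([(0, 1), (1, 2), (4, 5), (5, 6)], 1, 2, 1),
     ([(1, 2), (4, 5)], 1, 3, 1),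
     ([(0, 1), (2, 3)], 1, 0, 2),
     ([(1, 3), (3, 2)], 1, 1, 2),
     ([(1, 2), (2, 3), (4, 5), (5, 6)], 1, 2, 2),
     ([(0, 1), (1, 2), (2, 3), (4, 5)], 1, 3, 2),
     ([(4, 6), (6, 5)], 1, 2, 3),
     ([(0, 1), (5, 6)], 1, 3, 3),
     ([(0, 2), (4, 5)], 1, 0, 4),
     ([(0, 2), (2, 3), (3, 1), (4, 5)], 1, 1, 4),
     ([(0, 1), (4, 6)], 1, 2, 4),
     ([(0, 3), (3, 1)], 1, 1, 5),
     ([(0, 3), (3, 2)], 1, 1, 6),
     ([(0, 2), (1, 3), (4, 5), (5, 6)], 1, 2, 6),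
     ([(0, 2), (2, 1), (1, 3), (4, 5)], 1, 3, 6),
     ([(1, 2), (5, 6)], 1, 3, 7),
     ([(1, 3), (4, 5)], 1, 1, 8),
     ([(0, 2), (2, 3)], 1, 0, 9),
     ([(0, 1), (2, 3), (4, 5), (5, 6)], 1, 2, 9),
     ([(2, 3), (4, 5)], 1, 3, 9),
     ([(0, 1), (1, 3)], 1, 0, 10),
     ([(1, 3), (3, 2), (4, 5), (5, 6)], 1, 2, 10),
     ([(0, 1), (1, 3), (3, 2), (4, 5)], 1, 3, 10),
     ([(1, 2), (2, 3), (4, 6), (6, 5)], 1, 2, 11),
     ([(0, 1), (1, 2), (2, 3), (5, 6)], 1, 3, 11)],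
    [([(0, 2), (2, 3), (3, 1), (5, 6)], 1, 1, 14),
     ([(0, 3), (3, 1), (1, 2), (4, 5)], 1, 1, 15),
     ([(0, 2), (4, 6)], 1, 2, 15),
     ([(0, 3), (3, 2), (2, 1), (4, 5)], 1, 1, 16),
     ([(0, 3), (3, 1), (4, 5), (5, 6)], 1, 2, 18),
     ([(0, 3), (4, 5)], 1, 3, 18),
     ([(0, 3), (3, 2), (4, 5), (5, 6)], 1, 2, 19),
     ([(0, 2), (1, 3), (4, 6), (6, 5)], 1, 2, 20),
     ([(0, 2), (2, 1), (1, 3), (5, 6)], 1, 3, 20),
     ([(0, 2), (2, 1), (1, 3), (4, 6)], 1, 2, 21),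
     ([(1, 3), (5, 6)], 1, 1, 22),
     ([(1, 3), (4, 6)], 1, 2, 23),
     ([(0, 1), (2, 3), (4, 6), (6, 5)], 1, 2, 25),
     ([(0, 1), (1, 3), (4, 5), (5, 6)], 1, 2, 27),
     ([(1, 3), (3, 2), (4, 6), (6, 5)], 1, 2, 28),
     ([(0, 3), (3, 2), (2, 1), (5, 6)], 1, 1, 32),
     ([(0, 3), (3, 1), (1, 2), (4, 6)], 1, 2, 33),
     ([(0, 3), (3, 2), (2, 1), (4, 6)], 1, 2, 35),
     ([(0, 3), (3, 1), (4, 6), (6, 5)], 1, 2, 36),
     ([(0, 3), (4, 6)], 1, 2, 37),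
     ([(0, 3), (3, 2), (4, 6), (6, 5)], 1, 2, 38),
     ([(0, 1), (1, 3), (4, 6), (6, 5)], 1, 3, 43),
     ([(0, 3), (1, 2), (4, 6), (6, 5)], 1, 3, 48)]]
  nX := 55
  reps := [[[],
     [(0, 1), (1, 2), (2, 3), (3, 4), (4, 5), (5, 6)],
     [(2, 3), (3, 4)],
     [(0, 2), (2, 3), (3, 4), (4, 5), (5, 6), (6, 1)],
     [(1, 2), (3, 4)],
     [(0, 5), (1, 4)],
     [(0, 1), (1, 2), (2, 3), (3, 5), (5, 4), (4, 6)],
     [(0, 1), (1, 2), (2, 4), (4, 3), (3, 5), (5, 6)],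
     [(0, 5), (1, 4), (4, 2), (2, 3)],
     [(1, 2), (2, 3), (3, 5), (5, 6)],
     [(1, 3), (3, 5), (2, 4), (4, 6)],
     [(0, 2), (2, 4), (4, 3), (3, 5), (5, 6), (6, 1)],
     [(0, 6), (1, 5), (2, 3), (3, 4)],
     [(0, 6), (6, 4), (4, 1), (1, 5)],
     [(0, 5), (1, 2), (2, 4), (3, 6)],
     [(0, 2), (2, 4), (1, 3), (3, 6)],
     [(2, 3), (3, 5), (5, 6), (6, 4)],
     [(2, 4), (4, 6), (6, 3), (3, 5)],
     [(0, 5), (1, 4), (4, 2), (3, 6)],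
     [(0, 1), (1, 3), (3, 6), (6, 2), (2, 4), (4, 5)],
     [(0, 6), (6, 4), (4, 2), (2, 3), (3, 1), (1, 5)],
     [(0, 5), (5, 2), (1, 4), (3, 6)],
     [(1, 3), (3, 6), (6, 2), (2, 4)],
     [(1, 3), (3, 6), (6, 2), (2, 5)],
     [(0, 2), (2, 6), (3, 4), (4, 5)],
     [(0, 2), (2, 6), (3, 5), (5, 4)],
     [(1, 2), (2, 6), (6, 3), (3, 4)],
     [(0, 2), (2, 6), (6, 1), (3, 5)],
     [(0, 1), (2, 6), (3, 4), (4, 5)],
     [(0, 1), (2, 6), (3, 5), (5, 4)],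
     [(0, 1), (1, 3), (3, 6), (6, 4)],
     [(0, 2), (3, 5), (5, 4), (4, 6)]],
    [[(1, 3), (3, 6)],
     [(1, 3), (3, 6), (6, 4), (4, 2)],
     [(1, 2), (3, 6)]]]
  Ks := [[(0, 1), (5, 1)], [(6, 1), (7, 1)], [(1, 1), (8, 1)], [(9, 1), (10, 1)]]
  steps := [[([(0, 1), (1, 1), (2, 1), (3, 1), (4, 1)], .kill 0 [([], [(0, 1), (3, 0), (1, 13), (2, 3), (4, 5)]), ([], [(2, 0), (1, 2), (4, 2), (3, 24), (0, 10)])]),
     ([(1, 1), (5, 1), (6, 1), (7, 1), (8, 1)], .tr 0 1 [(1, 0), (5, 41), (7, 0), (8, 41), (6, 8)]),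
     ([(5, 1), (3, 1), (9, 1), (10, 1), (11, 1)], .tr 1 0 [(3, 0), (10, 48), (9, 4), (11, 0), (5, 26)]),
     ([(5, 1), (12, 1), (13, 1), (14, 1), (15, 1)], .tr 1 1 [(5, 41), (12, 0), (15, 0), (13, 41), (14, 50)]),
     ([(2, 1), (10, 1), (16, 1), (8, 1), (17, 1)], .tr 2 0 [(10, 48), (2, 3), (16, 17), (8, 54), (17, 13)]),
     ([(8, 1), (12, 1), (18, 1), (19, 1), (20, 1)], .tr 2 1 [(12, 0), (8, 41), (19, 0), (18, 15), (20, 41)]),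
     ([(10, 1), (12, 1), (21, 1), (22, 1), (23, 1)], .tr 3 0 [(10, 48), (12, 13), (23, 48), (21, 8), (22, 0)]),
     ([(24, 1), (7, 1), (18, 1), (14, 1), (25, 1)], .tr 4 1 [(7, 0), (18, 15), (24, 25), (14, 50), (25, 44)]),
     ([(26, 1), (11, 1), (21, 1), (14, 1), (27, 1)], .tr 5 1 [(14, 50), (21, 41), (27, 20), (11, 11), (26, 30)]),
     ([(28, 1), (18, 1), (21, 1), (29, 1), (17, 1)], .tr 6 1 [(18, 15), (21, 41), (29, 39), (17, 12), (28, 42)]),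
     ([(3, 1), (28, 1), (8, 1), (30, 1), (14, 1), (23, 1), (31, 1)], .kill 2 [([], [(8, 41), (31, 0), (14, 50), (3, 43), (23, 51), (28, 42), (30, 1)]), ([], [(28, 0), (3, 0), (14, 2), (30, 6), (8, 10), (23, 42), (31, 17)])]),
     ([(2, 1), (5, 1), (24, 1), (21, 1), (32, 1), (31, 1), (20, 1)], .tr 10 0 [(2, 3), (24, 0), (5, 26), (32, 34), (21, 8), (20, 54), (31, 5)]),
     ([(1, 1), (10, 1), (26, 1), (13, 1), (18, 1), (33, 1), (31, 1)], .tr 11 0 [(1, 13), (10, 48), (26, 3), (18, 0), (33, 34), (31, 5), (13, 26)]),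
     ([(2, 1), (9, 1), (7, 1), (26, 1), (12, 1), (30, 1), (29, 1)], .tr 11 1 [(7, 0), (12, 0), (9, 15), (29, 39), (2, 45), (30, 1), (26, 30)]),
     ([(1, 1), (28, 1), (16, 1), (11, 1), (12, 1), (32, 1), (25, 1)], .tr 13 0 [(1, 13), (16, 17), (11, 0), (28, 13), (12, 13), (32, 34), (25, 0)]),
     ([(34, 1), (3, 1), (7, 1), (16, 1), (13, 1), (21, 1), (19, 1)], .tr 13 1 [(7, 0), (19, 0), (13, 41), (16, 1), (21, 41), (3, 43), (34, 1)]),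
     ([(2, 1), (34, 1), (6, 1), (11, 1), (18, 1), (15, 1), (23, 1)], .tr 15 0 [(34, 5), (2, 3), (11, 0), (6, 13), (23, 48), (18, 0), (15, 3)]),
     ([(1, 1), (10, 1), (28, 1), (32, 1), (14, 1), (31, 1), (20, 1)], .kill 3 [([], [(10, 0), (14, 1), (31, 5), (1, 27), (20, 8), (32, 17), (28, 11)]), ([], [(28, 0), (14, 53), (1, 0), (32, 6), (10, 36), (31, 34), (20, 15)])]),
     ([(3, 1), (24, 1), (8, 1), (13, 1), (21, 1), (33, 1), (31, 1)], .tr 17 0 [(3, 0), (8, 54), (24, 0), (33, 34), (21, 8), (31, 5), (13, 26)]),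
     ([(9, 1), (4, 1), (8, 1), (30, 1), (14, 1), (22, 1), (29, 1)], .tr 18 1 [(8, 41), (9, 15), (14, 50), (22, 46), (29, 39), (4, 40), (30, 1)]),
     ([(5, 1), (4, 1), (16, 1), (21, 1), (32, 1), (25, 1), (19, 1)], .tr 19 0 [(16, 17), (4, 5), (5, 26), (32, 34), (21, 8), (19, 13), (25, 0)]),
     ([(24, 1), (26, 1), (12, 1), (13, 1), (21, 1), (32, 1), (33, 1), (25, 1), (29, 1), (19, 1)], .kill 1 [([], [(32, 12), (33, 24), (21, 49), (12, 0), (29, 52), (19, 8), (24, 29), (13, 48), (25, 3), (26, 29)]), ([], [(24, 43), (25, 36), (33, 47), (32, 18), (29, 25), (13, 27), (12, 31), (26, 53), (21, 44), (19, 15)])]),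
     ([(2, 1), (34, 1), (9, 1), (4, 1), (16, 1), (11, 1), (21, 1), (32, 1), (22, 1), (29, 1)], .tr 21 1 [(9, 15), (16, 1), (21, 41), (22, 46), (29, 39), (2, 45), (4, 40), (32, 1), (34, 1), (11, 11)]),
     ([(1, 1), (34, 1), (6, 1), (4, 1), (16, 1), (18, 1), (33, 1), (25, 1), (19, 1), (17, 1)], .tr 22 0 [(1, 13), (34, 5), (16, 17), (4, 5), (6, 13), (17, 13), (18, 0), (33, 34), (19, 13), (25, 0)]),
     ([(34, 1), (3, 1), (6, 1), (9, 1), (7, 1), (4, 1), (30, 1), (14, 1), (15, 1), (27, 1)], .tr 23 0 [(3, 0), (34, 5), (9, 4), (4, 5), (6, 13), (14, 8), (30, 0), (27, 4), (15, 3), (7, 3)]),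
     ([(0, 1), (3, 1), (6, 1), (10, 1), (8, 1), (13, 1), (33, 1), (15, 1), (19, 1), (23, 1)], .tr 24 1 [(0, 45), (8, 41), (15, 0), (19, 0), (13, 41), (6, 8), (3, 43), (23, 51), (10, 12), (33, 7)])]]
  nSteps := 26
  fin := [(3, 1), (5, 1), (6, 1), (7, 1), (8, 1), (9, 1), (10, 1), (12, 1), (14, 1), (16, 1), (17, 1), (18, 1), (20, 1), (22, 1), (23, 1), (24, 1), (25, 1)]

theorem ks_eq : data.killed = [Words.a5Pt9, Words.a5Six9, Words.l7, Words.l7odd] := by decide +kernel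

theorem xgens_eq : data.fixedBy = Words.qC32 := by decide +kernel

theorem checked : data.checked data.eqv2 = true := by decide +kernel

end H63.ModCert.P2L1
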