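import Cfsg.Agent.H63.ModCert.Words

/-! Certificate P2L2 (computed offline). -/

set_option autoImplicit false

namespace H63.ModCert.P2L2

/-- certificate data -/
def data : Data where
  n := 9
  p := 2
  N := 69
  gens := [[(0, 1), (1, 2)],
    [(0, 1), (1, 2), (2, 3), (3, 4), (4, 5), (5, 6)],
    [(1, 2), (2, 3)],
    [(4, 5), (5, 6)],
    [(2, 3), (3, 4)],
    [(0, 1), (1, 2), (2, 3), (3, 4)],
    [(0, 5), (1, 4)],
    [(1, 2), (3, 6)],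
    [(0, 2), (2, 3), (3, 4), (4, 5), (5, 6), (6, 1)],
    [(0, 2), (3, 6)],
    [(0, 1), (4, 5)]]
  xgens := [(0, 1), (2, 1), (3, 1)]
  xs := [[([], 1, 0, 0),
     ([(0, 1), (1, 2)], 1, 0, 0),
     ([(1, 2), (2, 3)], 1, 1, 0),
     ([(4, 5), (5, 6)], 1, 2, 0),
     ([(0, 2), (2, 1)], 1, 0, 1),
     ([(0, 2), (1, 3)], 1, 1, 1),
     ([(0, 1), (1, 2), (4, 5), (5, 6)], 1, 2, 1),
     ([(0, 1), (2, 3)], 1, 0, 2),
     ([(1, 3), (3, 2)], 1, 1, 2),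
     ([(1, 2), (2, 3), (4, 5), (5, 6)], 1, 2, 2),
     ([(4, 6), (6, 5)], 1, 2, 3),
     ([(0, 3), (3, 1)], 1, 1, 4),
     ([(0, 2), (2, 1), (4, 5), (5, 6)], 1, 2, 4),
     ([(0, 3), (3, 2)], 1, 1, 5),
     ([(0, 2), (1, 3), (4, 5), (5, 6)], 1, 2, 5),
     ([(0, 1), (1, 2), (4, 6), (6, 5)], 1, 2, 6),
     ([(0, 2), (2, 3)], 1, 0, 7),
     ([(0, 1), (2, 3), (4, 5), (5, 6)], 1, 2, 7),
     ([(0, 1), (1, 3)], 1, 0, 8),
     ([(1, 3), (3, 2), (4, 5), (5, 6)], 1, 2, 8),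
     ([(1, 2), (2, 3), (4, 6), (6, 5)], 1, 2, 9),
     ([(0, 3), (3, 1), (4, 5), (5, 6)], 1, 2, 11),
     ([(0, 2), (2, 1), (4, 6), (6, 5)], 1, 2, 12),
     ([(0, 3), (1, 2)], 1, 0, 13),
     ([(0, 3), (3, 2), (4, 5), (5, 6)], 1, 2, 13),
     ([(0, 2), (1, 3), (4, 6), (6, 5)], 1, 2, 14),
     ([(0, 1), (2, 3), (4, 6), (6, 5)], 1, 2, 17),
     ([(0, 1), (1, 3), (4, 5), (5, 6)], 1, 2, 18),
     ([(1, 3), (3, 2), (4, 6), (6, 5)], 1, 2, 19),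
     ([(0, 3), (3, 1), (4, 6), (6, 5)], 1, 2, 21),
     ([(0, 3), (1, 2), (4, 5), (5, 6)], 1, 2, 23),
     ([(0, 3), (3, 2), (4, 6), (6, 5)], 1, 2, 24)],
    [([(0, 1), (1, 3), (4, 6), (6, 5)], 1, 2, 27),
     ([(0, 3), (1, 2), (4, 6), (6, 5)], 1, 2, 30)]]
  nX := 34
  reps := [[[],
     [(0, 1), (4, 5)],
     [(0, 1), (1, 2), (2, 3), (3, 4), (4, 5), (5, 6)],
     [(0, 4), (1, 2), (2, 3), (5, 6)],
     [(0, 2), (2, 3), (3, 4), (4, 5), (5, 6), (6, 1)],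
     [(1, 2), (2, 3), (3, 4), (4, 6)],
     [(0, 5), (1, 4)],
     [(0, 2), (2, 4), (4, 6), (6, 1), (1, 3), (3, 5)],
     [(2, 3), (3, 4)],
     [(0, 1), (2, 3), (3, 4), (4, 5)],
     [(0, 5), (1, 4), (4, 2), (2, 3)],
     [(0, 3), (3, 5), (2, 4), (4, 6)],
     [(1, 3), (3, 5), (2, 4), (4, 6)],
     [(0, 5), (5, 1), (1, 4), (4, 2)],
     [(0, 6), (1, 5), (2, 3), (3, 4)],
     [(0, 3), (3, 6), (6, 2), (2, 5), (5, 1), (1, 4)],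
     [(0, 1), (1, 2), (2, 4), (4, 3), (3, 5), (5, 6)],
     [(0, 2), (2, 4), (4, 6), (3, 5)],
     [(0, 5), (1, 2), (2, 4), (3, 6)],
     [(0, 6), (6, 1), (1, 5), (3, 4)],
     [(0, 5), (1, 4), (4, 2), (3, 6)],
     [(0, 1), (1, 6), (6, 2), (2, 4), (4, 3), (3, 5)],
     [(0, 5), (5, 2), (1, 4), (3, 6)],
     [(1, 6), (2, 4), (4, 3), (3, 5)],
     [(0, 2), (2, 4), (4, 3), (3, 5), (5, 6), (6, 1)],
     [(0, 5), (5, 1), (2, 4), (4, 3)],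
     [(0, 6), (6, 4), (4, 1), (1, 5)],
     [(0, 2), (2, 5), (1, 3), (3, 6)],
     [(1, 3), (3, 6), (6, 2), (2, 5)],
     [(0, 6), (6, 4), (4, 2), (1, 5)],
     [(0, 2), (2, 6), (6, 1), (3, 5)],
     [(1, 2), (2, 6), (6, 4), (3, 5)]],
    [[(0, 1), (2, 6), (3, 5), (5, 4)],
     [(2, 6), (3, 5)],
     [(2, 4), (4, 6), (6, 3), (3, 5)],
     [(0, 1), (2, 4), (4, 6), (3, 5)],
     [(0, 6), (6, 4), (4, 2), (2, 3), (3, 1), (1, 5)],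
     [(0, 3), (3, 6), (6, 2), (2, 5)],
     [(1, 3), (3, 6), (6, 2), (2, 4)],
     [(1, 3), (3, 4), (4, 2), (2, 6)],
     [(0, 1), (2, 6), (3, 4), (4, 5)],
     [(0, 4), (4, 2), (2, 6), (6, 5), (5, 3), (3, 1)],
     [(1, 3), (3, 6), (6, 4), (4, 2)],
     [(2, 3), (3, 6), (6, 5), (5, 4)],
     [(1, 2), (3, 6)],
     [(0, 1), (1, 2), (3, 6), (4, 5)],
     [(1, 2), (2, 6), (6, 3), (3, 4)],
     [(0, 2), (2, 6), (6, 3), (3, 4), (4, 5), (5, 1)],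
     [(0, 1), (1, 3), (3, 6), (6, 2), (2, 4), (4, 5)],
     [(0, 1), (1, 4), (2, 3), (3, 6)],
     [(0, 2), (2, 6), (3, 4), (4, 5)],
     [(0, 4), (2, 6), (6, 5), (5, 3)],
     [(0, 2), (3, 5), (5, 4), (4, 6)],
     [(0, 1), (1, 2), (3, 5), (5, 4)],
     [(0, 1), (1, 3), (3, 6), (6, 4)],
     [(0, 1), (1, 2), (2, 3), (3, 6)],
     [(1, 2), (3, 4)],
     [(0, 4), (4, 3), (1, 2), (5, 6)],
     [(2, 3), (3, 5), (5, 6), (6, 4)],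
     [(0, 1), (2, 3), (3, 5), (5, 4)],
     [(1, 2), (2, 3), (3, 5), (5, 6)],
     [(0, 2), (2, 3), (3, 5), (5, 4), (4, 6), (6, 1)],
     [(0, 1), (1, 2), (2, 3), (3, 5), (5, 4), (4, 6)],
     [(0, 2), (2, 3), (3, 5), (5, 6)]],
    [[(0, 6), (6, 5), (5, 1), (1, 4)],
     [(0, 2), (2, 6), (3, 5), (5, 4)],
     [(1, 3), (3, 6)],
     [(0, 1), (1, 2), (2, 6), (6, 3), (3, 5), (5, 4)],
     [(0, 2), (2, 4), (1, 3), (3, 6)]]]
  Ks := [[(0, 1), (4, 1)], [(5, 1), (6, 1)], [(0, 1), (2, 1), (3, 1), (10, 1)]]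
  steps := [[([(0, 1), (1, 1)], .kill 2 [([], [(0, 1), (1, 4)]), ([], [(0, 2), (1, 16)]), ([], [(0, 3), (1, 10)]), ([], [(1, 0), (0, 0)])]),
     ([(2, 1), (3, 1)], .tr 0 1 [(2, 0), (3, 27)]),
     ([(4, 1), (5, 1)], .tr 1 0 [(4, 0), (5, 29)]),
     ([(6, 1), (7, 1)], .tr 1 1 [(7, 0), (6, 8)]),
     ([(8, 1), (9, 1)], .tr 2 0 [(8, 3), (9, 10)]),
     ([(10, 1), (11, 1)], .tr 2 1 [(11, 0), (10, 30)]),
     ([(12, 1), (13, 1)], .tr 3 0 [(13, 0), (12, 0)]),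
     ([(14, 1), (15, 1)], .tr 3 1 [(14, 0), (15, 0)]),
     ([(16, 1), (17, 1)], .tr 4 1 [(16, 0), (17, 0)]),
     ([(18, 1), (19, 1)], .tr 5 1 [(18, 29), (19, 30)]),
     ([(20, 1), (21, 1)], .tr 6 1 [(21, 9), (20, 29)]),
     ([(22, 1), (23, 1)], .tr 7 1 [(23, 0), (22, 7)]),
     ([(24, 1), (25, 1)], .tr 8 0 [(24, 0), (25, 32)]),
     ([(26, 1), (27, 1)], .tr 8 1 [(27, 0), (26, 30)]),
     ([(28, 1), (29, 1)], .tr 9 1 [(29, 8), (28, 8)]),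
     ([(30, 1), (31, 1)], .tr 10 1 [(30, 14), (31, 26)]),
     ([(32, 1), (33, 1)], .tr 11 1 [(32, 25), (33, 7)]),
     ([(34, 1), (35, 1)], .tr 12 0 [(34, 10), (35, 21)]),
     ([(36, 1), (37, 1)], .tr 12 1 [(37, 0), (36, 28)]),
     ([(38, 1), (39, 1)], .tr 13 1 [(38, 28), (39, 27)]),
     ([(40, 1), (41, 1)], .tr 14 1 [(41, 29), (40, 6)]),
     ([(42, 1), (43, 1)], .tr 15 1 [(42, 6), (43, 1)]),
     ([(44, 1), (45, 1)], .tr 16 1 [(44, 1), (45, 0)]),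
     ([(46, 1), (47, 1)], .tr 18 1 [(46, 20), (47, 11)]),
     ([(48, 1), (49, 1)], .tr 19 0 [(48, 10), (49, 2)]),
     ([(50, 1), (51, 1)], .tr 20 0 [(50, 0), (51, 0)]),
     ([(52, 1), (53, 1)], .tr 20 1 [(52, 0), (53, 11)]),
     ([(54, 1), (55, 1)], .tr 21 0 [(54, 0), (55, 10)]),
     ([(56, 1), (57, 1)], .tr 21 1 [(57, 4), (56, 16)]),
     ([(58, 1), (59, 1)], .tr 23 1 [(58, 1), (59, 22)]),
     ([(60, 1), (61, 1)], .tr 25 1 [(61, 4), (60, 31)]),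
     ([(62, 1), (63, 1)], .tr 28 1 [(63, 1), (62, 30)])],
    [([(0, 1), (2, 1), (8, 1), (4, 1), (56, 1)], .kill 0 [([], [(0, 1), (4, 0), (2, 10), (8, 3), (56, 4)]), ([], [(8, 0), (2, 2), (56, 2), (4, 16), (0, 8)])]),
     ([(2, 1), (7, 1), (16, 1), (11, 1), (63, 1)], .tr 32 1 [(2, 0), (7, 0), (16, 0), (11, 0), (63, 1)]),
     ([(6, 1), (4, 1), (12, 1), (60, 1), (24, 1)], .tr 33 0 [(4, 0), (12, 0), (24, 0), (6, 33), (60, 0)]),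
     ([(7, 1), (15, 1), (27, 1), (19, 1), (64, 1)], .tr 33 1 [(7, 0), (15, 0), (27, 0), (19, 30), (64, 33)]),
     ([(8, 1), (10, 1), (59, 1), (13, 1), (34, 1)], .tr 34 0 [(13, 0), (8, 3), (10, 33), (59, 3), (34, 10)]),
     ([(14, 1), (11, 1), (21, 1), (48, 1), (37, 1)], .tr 34 1 [(14, 0), (11, 0), (21, 9), (48, 0), (37, 0)]),
     ([(12, 1), (22, 1), (15, 1), (28, 1), (39, 1)], .tr 35 0 [(12, 0), (15, 3), (28, 0), (22, 29), (39, 25)]),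
     ([(16, 1), (20, 1), (18, 1), (65, 1), (51, 1)], .tr 36 1 [(16, 0), (18, 29), (51, 24), (20, 29), (65, 26)]),
     ([(24, 1), (23, 1), (47, 1), (31, 1), (19, 1)], .tr 37 1 [(23, 0), (19, 30), (31, 26), (24, 9), (47, 11)]),
     ([(22, 1), (21, 1), (32, 1), (41, 1), (34, 1)], .tr 38 1 [(21, 9), (32, 25), (22, 7), (41, 29), (34, 15)]),
     ([(60, 1), (66, 1), (27, 1), (30, 1), (29, 1)], .tr 39 1 [(27, 0), (30, 14), (29, 8), (66, 1), (60, 31)]),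
     ([(59, 1), (28, 1), (33, 1), (43, 1), (37, 1)], .tr 40 1 [(37, 0), (33, 7), (59, 22), (43, 1), (28, 8)]),
     ([(44, 1), (65, 1), (32, 1), (53, 1), (31, 1)], .tr 41 1 [(32, 25), (31, 26), (44, 1), (53, 11), (65, 26)]),
     ([(26, 1), (63, 1), (55, 1), (36, 1), (67, 1)], .tr 43 0 [(63, 10), (36, 33), (67, 3), (55, 10), (26, 33)]),
     ([(0, 1), (8, 1), (4, 1), (12, 1), (60, 1), (16, 1), (58, 1)], .kill 0 [([(3, 1), (5, 1), (29, 1), (31, 1), (33, 1), (34, 1)], [(0, 1), (2, 10), (8, 3), (10, 33), (59, 3), (24, 0), (62, 10)]), ([(3, 1), (5, 1), (6, 1), (29, 1), (32, 1), (33, 1), (34, 1), (36, 1)], [(8, 0), (56, 2), (4, 16), (24, 6), (12, 10), (63, 1), (34, 10)])]),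
     ([(2, 1), (50, 1), (16, 1), (11, 1), (27, 1), (21, 1), (48, 1)], .tr 46 1 [(2, 0), (16, 0), (11, 0), (21, 9), (48, 0), (27, 0), (50, 17)]),
     ([(6, 1), (4, 1), (46, 1), (24, 1), (18, 1), (68, 1), (28, 1)], .tr 47 0 [(4, 0), (46, 3), (24, 0), (6, 33), (28, 0), (18, 32), (68, 3)]),
     ([(8, 1), (40, 1), (13, 1), (23, 1), (38, 1), (34, 1), (36, 1)], .tr 48 0 [(13, 0), (8, 3), (40, 10), (34, 10), (23, 21), (38, 0), (36, 33)]),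
     ([(16, 1), (46, 1), (20, 1), (65, 1), (52, 1), (35, 1), (33, 1)], .tr 49 1 [(16, 0), (52, 0), (20, 29), (33, 7), (35, 20), (65, 26), (46, 20)]),
     ([(58, 1), (66, 1), (54, 1), (45, 1), (27, 1), (30, 1), (67, 1)], .tr 50 1 [(27, 0), (58, 1), (30, 14), (66, 1), (54, 1), (67, 7), (45, 0)]),
     ([(0, 1), (2, 1), (8, 1), (62, 1), (60, 1), (16, 1)], .kill 1 [([(5, 1), (31, 1), (32, 1), (33, 1)], [(2, 10), (4, 2), (56, 16), (7, 0), (10, 30), (60, 1)]), ([(1, 1), (3, 1), (5, 1), (28, 1), (30, 1), (31, 1), (32, 1), (33, 1)], [(6, 0), (3, 0), (10, 0), (4, 21), (61, 29), (57, 0)])]),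
     ([(0, 1), (2, 1), (4, 1), (24, 1), (59, 1), (61, 1)], .tr 52 0 [(0, 1), (4, 0), (2, 10), (61, 0), (59, 3), (24, 0)]),
     ([(2, 1), (7, 1), (16, 1), (27, 1), (68, 1), (48, 1)], .tr 52 1 [(2, 0), (7, 0), (16, 0), (68, 0), (48, 0), (27, 0)]),
     ([(0, 1), (8, 1), (4, 1), (58, 1), (63, 1), (34, 1)], .tr 53 0 [(0, 1), (4, 0), (8, 3), (34, 10), (63, 10), (58, 3)]),
     ([(2, 1), (7, 1), (11, 1), (51, 1), (37, 1), (49, 1)], .tr 53 1 [(2, 0), (7, 0), (11, 0), (37, 0), (51, 24), (49, 4)]),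
     ([(4, 1), (12, 1), (24, 1), (68, 1), (38, 1), (28, 1)], .tr 54 0 [(4, 0), (12, 0), (24, 0), (28, 0), (38, 0), (68, 3)]),
     ([(7, 1), (24, 1), (13, 1), (15, 1), (27, 1), (39, 1)], .tr 54 1 [(7, 0), (15, 0), (27, 0), (39, 27), (13, 24), (24, 9)]),
     ([(2, 1), (50, 1), (16, 1), (11, 1), (65, 1), (64, 1)], .tr 55 1 [(2, 0), (16, 0), (11, 0), (50, 17), (64, 33), (65, 26)]),
     ([(8, 1), (10, 1), (38, 1), (34, 1), (48, 1), (36, 1)], .tr 57 0 [(8, 3), (10, 33), (34, 10), (38, 0), (48, 10), (36, 33)]),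
     ([(13, 1), (11, 1), (21, 1), (41, 1), (35, 1), (37, 1)], .tr 57 1 [(11, 0), (21, 9), (37, 0), (13, 24), (35, 20), (41, 29)]),
     ([(16, 1), (46, 1), (24, 1), (18, 1), (65, 1), (35, 1)], .tr 60 1 [(16, 0), (18, 29), (35, 20), (65, 26), (24, 9), (46, 20)])]]
  nSteps := 63
  fin := [(3, 1), (6, 1), (10, 1), (13, 1), (14, 1), (16, 1), (17, 1), (19, 1), (20, 1), (22, 1), (23, 1), (24, 1), (25, 1), (26, 1), (27, 1), (33, 1), (35, 1), (40, 1), (42, 1), (44, 1), (45, 1), (46, 1), (48, 1), (49, 1), (50, 1), (51, 1), (54, 1), (56, 1), (58, 1), (59, 1), (61, 1), (62, 1)]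

theorem ks_eq : data.killed = [Words.a5Pt9, Words.a5Six9, Words.qC32] := by decide +kernel

theorem xgens_eq : data.fixedBy = Words.qC3 := by decide +kernel

theorem checked : data.checked data.eqv2 = true := by decide +kernel

end H63.ModCert.P2L2
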