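import Cfsg.Agent.H63.ModCert.Words

/-! Certificate P2L3 (computed offline). -/

set_option autoImplicit false

namespace H63.ModCert.P2L3

/-- certificate data -/
def data : Data where
  n := 9
  p := 2
  N := 105
  gens := [[(0, 1), (1, 2)],
    [(0, 1), (1, 2), (2, 3), (3, 4), (4, 5), (5, 6)],
    [(1, 2), (2, 3)],
    [(0, 1), (4, 5)],
    [(2, 3), (3, 4)],
    [(0, 1), (1, 2), (2, 3), (3, 4)],
    [(0, 5), (1, 4)],
    [(1, 2), (3, 6)],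
    [(0, 2), (2, 3), (3, 4), (4, 5), (5, 6), (6, 1)],
    [(0, 2), (3, 6)],
    [(4, 5), (5, 6)]]
  xgens := [(0, 1), (2, 1), (3, 1)]
  xs := [[([], 1, 0, 0),
     ([(0, 1), (1, 2)], 1, 0, 0),
     ([(1, 2), (2, 3)], 1, 1, 0),
     ([(0, 1), (4, 5)], 1, 2, 0),
     ([(0, 2), (2, 1)], 1, 0, 1),
     ([(0, 2), (1, 3)], 1, 1, 1),
     ([(1, 2), (4, 5)], 1, 2, 1),
     ([(0, 1), (2, 3)], 1, 0, 2),
     ([(1, 3), (3, 2)], 1, 1, 2),
     ([(0, 1), (1, 2), (2, 3), (4, 5)], 1, 2, 2),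
     ([(0, 2), (4, 5)], 1, 0, 3),
     ([(0, 2), (2, 3), (3, 1), (4, 5)], 1, 1, 3),
     ([(0, 3), (3, 1)], 1, 1, 4),
     ([(0, 3), (3, 2)], 1, 1, 5),
     ([(0, 2), (2, 1), (1, 3), (4, 5)], 1, 2, 5),
     ([(1, 3), (4, 5)], 1, 1, 6),
     ([(0, 2), (2, 3)], 1, 0, 7),
     ([(2, 3), (4, 5)], 1, 2, 7),
     ([(0, 1), (1, 3)], 1, 0, 8),
     ([(0, 1), (1, 3), (3, 2), (4, 5)], 1, 2, 8),
     ([(0, 3), (3, 1), (1, 2), (4, 5)], 1, 1, 10),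
     ([(0, 3), (3, 2), (2, 1), (4, 5)], 1, 1, 11),
     ([(0, 3), (4, 5)], 1, 2, 12),
     ([(0, 3), (1, 2)], 1, 0, 13)]]
  nX := 24
  reps := [[[],
     [(4, 5), (5, 6)],
     [(0, 1), (5, 6)],
     [(0, 1), (1, 2), (2, 3), (3, 4), (4, 5), (5, 6)],
     [(0, 1), (1, 2), (2, 3), (3, 4)],
     [(0, 4), (1, 2), (2, 3), (5, 6)],
     [(0, 2), (2, 3), (3, 4), (4, 5), (5, 6), (6, 1)],
     [(0, 2), (2, 3), (3, 4), (4, 1)],
     [(0, 2), (2, 3), (3, 4), (4, 6), (6, 5), (5, 1)],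
     [(0, 5), (1, 4)],
     [(0, 2), (2, 4), (4, 6), (6, 1), (1, 3), (3, 5)],
     [(0, 2), (2, 4), (4, 1), (1, 3), (3, 5), (5, 6)],
     [(2, 3), (3, 4)],
     [(2, 3), (3, 4), (4, 5), (5, 6)],
     [(0, 1), (2, 3), (3, 4), (5, 6)],
     [(0, 5), (1, 4), (4, 2), (2, 3)],
     [(0, 3), (3, 5), (2, 4), (4, 6)],
     [(0, 1), (1, 3), (3, 5), (5, 2), (2, 4), (4, 6)],
     [(1, 3), (3, 5), (2, 4), (4, 6)],
     [(1, 3), (3, 5), (5, 6), (2, 4)],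
     [(0, 5), (5, 1), (1, 4), (4, 2)],
     [(0, 6), (1, 5), (2, 3), (3, 4)],
     [(0, 6), (6, 1), (1, 5), (5, 2), (2, 3), (3, 4)],
     [(0, 3), (3, 6), (6, 2), (2, 5), (5, 1), (1, 4)],
     [(0, 1), (1, 2), (2, 4), (4, 3), (3, 5), (5, 6)],
     [(0, 5), (1, 2), (2, 4), (4, 3)],
     [(0, 2), (2, 4), (3, 5), (5, 6)],
     [(0, 5), (1, 2), (2, 4), (3, 6)],
     [(0, 2), (2, 4), (4, 3), (3, 5), (5, 1), (1, 6)],
     [(0, 2), (2, 4), (1, 6), (3, 5)],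
     [(0, 5), (1, 4), (4, 2), (3, 6)],
     [(0, 1), (1, 6), (6, 2), (2, 4), (4, 3), (3, 5)]],
    [[(0, 1), (1, 6), (2, 4), (3, 5)],
     [(0, 5), (5, 2), (1, 4), (3, 6)],
     [(1, 6), (2, 4), (4, 3), (3, 5)],
     [(1, 6), (6, 2), (2, 4), (3, 5)],
     [(0, 2), (2, 4), (4, 3), (3, 5), (5, 6), (6, 1)],
     [(1, 4), (4, 6), (6, 3), (3, 5)],
     [(0, 5), (5, 1), (2, 4), (4, 3)],
     [(0, 6), (6, 4), (4, 1), (1, 5)],
     [(0, 2), (2, 5), (1, 3), (3, 6)],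
     [(0, 3), (3, 6), (1, 2), (2, 5)],
     [(1, 3), (3, 6), (6, 2), (2, 5)],
     [(1, 3), (3, 6), (2, 5), (5, 4)],
     [(0, 6), (6, 4), (4, 2), (1, 5)],
     [(0, 2), (2, 6), (6, 1), (3, 5)],
     [(0, 2), (2, 6), (6, 3), (3, 5), (5, 4), (4, 1)],
     [(1, 2), (2, 6), (6, 4), (3, 5)],
     [(2, 6), (3, 5)],
     [(2, 6), (6, 3), (3, 5), (5, 4)],
     [(0, 1), (2, 6), (6, 4), (3, 5)],
     [(2, 4), (4, 6), (6, 3), (3, 5)],
     [(0, 1), (2, 4), (4, 6), (3, 5)],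
     [(0, 1), (2, 4), (4, 3), (3, 5)],
     [(0, 6), (6, 4), (4, 2), (2, 3), (3, 1), (1, 5)],
     [(0, 3), (3, 6), (6, 2), (2, 5)],
     [(0, 1), (1, 3), (3, 6), (2, 5)],
     [(1, 3), (3, 6), (6, 2), (2, 4)],
     [(1, 3), (3, 4), (4, 2), (2, 6)],
     [(1, 3), (3, 6), (6, 5), (2, 4)],
     [(0, 1), (2, 6), (3, 4), (4, 5)],
     [(0, 1), (2, 6), (6, 3), (3, 4)],
     [(0, 4), (4, 2), (2, 6), (6, 5), (5, 3), (3, 1)],
     [(1, 3), (3, 6), (6, 4), (4, 2)]],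
    [[(2, 3), (3, 6), (6, 5), (5, 4)],
     [(0, 1), (1, 3), (3, 6), (6, 2)],
     [(0, 2), (2, 6), (3, 5), (5, 4)],
     [(0, 1), (1, 2), (2, 6), (6, 3), (3, 5), (5, 4)],
     [(0, 2), (2, 6), (6, 4), (3, 5)],
     [(1, 2), (3, 6)],
     [(1, 2), (3, 6), (6, 4), (4, 5)],
     [(0, 2), (2, 1), (3, 6), (6, 5)],
     [(1, 2), (2, 6), (6, 3), (3, 4)],
     [(1, 2), (2, 6), (3, 4), (4, 5)],
     [(0, 2), (2, 4), (4, 3), (3, 6), (6, 5), (5, 1)],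
     [(0, 1), (1, 3), (3, 6), (6, 2), (2, 4), (4, 5)],
     [(0, 1), (1, 3), (3, 6), (2, 4)],
     [(0, 1), (1, 6), (6, 5), (5, 2), (2, 3), (3, 4)],
     [(0, 2), (2, 6), (3, 4), (4, 5)],
     [(0, 2), (2, 6), (6, 3), (3, 4)],
     [(0, 4), (2, 6), (6, 5), (5, 3)],
     [(0, 2), (3, 5), (5, 4), (4, 6)],
     [(0, 1), (1, 2), (3, 5), (5, 4)],
     [(1, 2), (3, 5), (5, 6), (6, 4)],
     [(0, 1), (1, 3), (3, 6), (6, 4)],
     [(0, 3), (3, 2), (2, 6), (4, 5)],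
     [(0, 1), (1, 2), (2, 3), (3, 6), (6, 5), (5, 4)],
     [(1, 3), (3, 6)],
     [(1, 3), (3, 2), (2, 6), (6, 4)],
     [(1, 3), (3, 6), (6, 5), (5, 4)],
     [(0, 1), (2, 3), (3, 5), (5, 4)],
     [(2, 3), (3, 5), (5, 6), (6, 4)],
     [(0, 1), (2, 3), (3, 5), (5, 6)],
     [(0, 2), (2, 4), (4, 5), (5, 1), (1, 3), (3, 6)],
     [(0, 2), (2, 4), (1, 3), (3, 6)],
     [(0, 2), (2, 4), (4, 1), (1, 3), (3, 6), (6, 5)]],
    [[(1, 2), (2, 3), (3, 5), (5, 6)],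
     [(1, 2), (2, 3), (3, 5), (5, 4)],
     [(0, 5), (5, 6), (6, 4), (4, 1), (1, 2), (2, 3)],
     [(1, 2), (3, 4), (4, 5), (5, 6)],
     [(0, 1), (1, 2), (2, 3), (3, 5), (5, 6), (6, 4)],
     [(0, 5), (5, 4), (1, 2), (2, 3)],
     [(1, 2), (3, 4)],
     [(0, 4), (4, 3), (1, 2), (5, 6)],
     [(0, 1), (1, 2), (2, 3), (3, 5), (5, 4), (4, 6)]]]
  Ks := [[(0, 1), (4, 1)], [(5, 1), (6, 1)], [(0, 1), (2, 1), (10, 1), (3, 1)], [(0, 1), (2, 1), (10, 1)]]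
  steps := [[([(0, 1), (1, 1), (2, 1)], .kill 3 [([], [(0, 1), (1, 1), (2, 4)]), ([], [(0, 2), (1, 2), (2, 16)]), ([], [(1, 0), (2, 3), (0, 3)])]),
     ([(3, 1), (4, 1), (5, 1)], .tr 0 1 [(3, 0), (5, 22), (4, 3)]),
     ([(6, 1), (7, 1), (8, 1)], .tr 1 0 [(6, 0), (7, 0), (8, 22)]),
     ([(9, 1), (10, 1), (11, 1)], .tr 1 1 [(10, 0), (11, 0), (9, 8)]),
     ([(12, 1), (13, 1), (14, 1)], .tr 2 0 [(13, 0), (12, 0), (14, 3)]),
     ([(15, 1), (16, 1), (17, 1)], .tr 2 1 [(16, 0), (17, 3), (15, 14)]),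
     ([(18, 1), (19, 1), (20, 1)], .tr 3 0 [(20, 0), (18, 0), (19, 0)]),
     ([(21, 1), (22, 1), (23, 1)], .tr 3 1 [(21, 0), (23, 0), (22, 14)]),
     ([(24, 1), (25, 1), (26, 1)], .tr 4 1 [(24, 0), (26, 3), (25, 18)]),
     ([(27, 1), (28, 1), (29, 1)], .tr 5 1 [(28, 18), (27, 10), (29, 2)]),
     ([(30, 1), (31, 1), (32, 1)], .tr 6 1 [(30, 10), (31, 2), (32, 19)]),
     ([(33, 1), (34, 1), (35, 1)], .tr 7 1 [(34, 0), (35, 0), (33, 7)]),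
     ([(36, 1), (37, 1), (38, 1)], .tr 8 0 [(36, 0), (38, 0), (37, 6)]),
     ([(39, 1), (40, 1), (41, 1)], .tr 8 1 [(40, 0), (41, 12), (39, 23)]),
     ([(42, 1), (43, 1), (44, 1)], .tr 9 1 [(44, 8), (43, 3), (42, 3)]),
     ([(45, 1), (46, 1), (47, 1)], .tr 10 1 [(47, 14), (46, 17), (45, 17)]),
     ([(48, 1), (49, 1), (50, 1)], .tr 11 1 [(50, 5), (48, 7), (49, 7)]),
     ([(51, 1), (52, 1), (53, 1)], .tr 12 0 [(52, 3), (51, 1), (53, 12)]),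
     ([(54, 1), (55, 1), (56, 1)], .tr 12 1 [(55, 0), (54, 22), (56, 12)]),
     ([(57, 1), (58, 1), (59, 1)], .tr 13 1 [(59, 8), (57, 9), (58, 22)]),
     ([(60, 1), (61, 1), (62, 1)], .tr 14 1 [(61, 15), (60, 15), (62, 9)]),
     ([(63, 1), (64, 1), (65, 1)], .tr 15 1 [(65, 3), (63, 1), (64, 1)]),
     ([(66, 1), (67, 1), (68, 1)], .tr 16 0 [(66, 3), (67, 0), (68, 0)]),
     ([(69, 1), (70, 1), (71, 1)], .tr 16 1 [(69, 10), (70, 10), (71, 6)]),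
     ([(72, 1), (73, 1), (74, 1)], .tr 18 1 [(74, 18), (72, 22), (73, 18)]),
     ([(75, 1), (76, 1), (77, 1)], .tr 19 0 [(76, 0), (75, 17), (77, 2)]),
     ([(78, 1), (79, 1), (80, 1)], .tr 20 0 [(78, 0), (79, 0), (80, 0)]),
     ([(81, 1), (82, 1), (83, 1)], .tr 20 1 [(81, 0), (83, 1), (82, 12)]),
     ([(84, 1), (85, 1), (86, 1)], .tr 21 0 [(84, 0), (86, 0), (85, 21)]),
     ([(87, 1), (88, 1), (89, 1)], .tr 22 1 [(87, 1), (88, 13), (89, 1)]),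
     ([(90, 1), (91, 1), (92, 1)], .tr 24 1 [(91, 1), (92, 6), (90, 11)]),
     ([(93, 1), (94, 1), (95, 1)], .tr 25 0 [(93, 0), (94, 0), (95, 8)])],
    [([(96, 1), (97, 1), (98, 1)], .tr 26 1 [(96, 10), (98, 16), (97, 13)]),
     ([(3, 1), (6, 1), (1, 1), (99, 1), (13, 1)], .kill 0 [([], [(6, 0), (13, 0), (1, 1), (99, 4), (3, 0)]), ([], [(3, 2), (6, 16), (13, 0), (1, 8), (99, 2)])]),
     ([(10, 1), (5, 1), (100, 1), (16, 1), (26, 1)], .tr 33 1 [(10, 0), (16, 0), (5, 22), (100, 6), (26, 3)]),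
     ([(18, 1), (11, 1), (8, 1), (98, 1), (37, 1)], .tr 34 0 [(18, 0), (8, 22), (98, 18), (11, 3), (37, 6)]),
     ([(9, 1), (39, 1), (27, 1), (23, 1), (95, 1)], .tr 34 1 [(23, 0), (9, 8), (95, 0), (27, 10), (39, 23)]),
     ([(91, 1), (19, 1), (17, 1), (51, 1), (14, 1)], .tr 35 0 [(17, 0), (19, 0), (14, 3), (91, 12), (51, 1)]),
     ([(15, 1), (30, 1), (22, 1), (54, 1), (77, 1)], .tr 35 1 [(30, 10), (22, 14), (15, 14), (77, 9), (54, 22)]),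
     ([(20, 1), (21, 1), (33, 1), (59, 1), (44, 1)], .tr 36 0 [(20, 0), (44, 0), (33, 6), (21, 14), (59, 0)]),
     ([(31, 1), (80, 1), (25, 1), (68, 1), (29, 1)], .tr 37 1 [(80, 19), (31, 2), (29, 2), (68, 7), (25, 18)]),
     ([(28, 1), (38, 1), (47, 1), (74, 1), (35, 1)], .tr 38 1 [(28, 18), (47, 14), (35, 0), (74, 18), (38, 22)]),
     ([(34, 1), (62, 1), (53, 1), (32, 1), (50, 1)], .tr 39 1 [(32, 19), (34, 0), (50, 5), (53, 2), (62, 9)]),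
     ([(97, 1), (42, 1), (46, 1), (41, 1), (89, 1)], .tr 40 1 [(46, 17), (97, 13), (41, 12), (89, 1), (42, 3)]),
     ([(90, 1), (64, 1), (49, 1), (43, 1), (56, 1)], .tr 41 1 [(43, 3), (56, 12), (64, 1), (90, 11), (49, 7)]),
     ([(48, 1), (45, 1), (66, 1), (82, 1), (71, 1)], .tr 42 1 [(48, 7), (82, 12), (66, 17), (45, 17), (71, 6)]),
     ([(12, 1), (61, 1), (63, 1), (58, 1), (76, 1)], .tr 43 1 [(76, 0), (61, 15), (63, 1), (58, 22), (12, 18)]),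
     ([(40, 1), (101, 1), (67, 1), (55, 1), (86, 1)], .tr 44 0 [(101, 18), (86, 0), (67, 0), (55, 3), (40, 0)]),
     ([(78, 1), (60, 1), (102, 1), (73, 1), (70, 1)], .tr 44 1 [(78, 17), (102, 16), (70, 10), (60, 15), (73, 18)]),
     ([(0, 1), (69, 1), (87, 1), (85, 1), (65, 1)], .tr 45 1 [(69, 10), (65, 3), (87, 1), (85, 21), (0, 22)]),
     ([(4, 1), (79, 1), (84, 1), (75, 1), (94, 1)], .tr 46 0 [(4, 0), (79, 0), (84, 0), (75, 17), (94, 0)]),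
     ([(24, 1), (36, 1), (52, 1), (103, 1), (83, 1)], .tr 46 1 [(24, 0), (83, 1), (103, 4), (52, 6), (36, 2)]),
     ([(72, 1), (7, 1), (93, 1), (57, 1), (88, 1)], .tr 47 1 [(57, 9), (93, 22), (88, 13), (72, 22), (7, 2)]),
     ([(0, 1), (12, 1), (4, 1), (102, 1), (7, 1)], .kill 0 [([], [(0, 1), (4, 0), (7, 0), (102, 4), (12, 0)]), ([], [(12, 0), (102, 2), (4, 2), (0, 8), (7, 16)])]),
     ([(3, 1), (104, 1), (24, 1), (11, 1), (17, 1)], .tr 53 1 [(3, 0), (24, 0), (11, 0), (104, 6), (17, 3)]),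
     ([(6, 1), (10, 1), (96, 1), (36, 1), (19, 1)], .tr 54 0 [(6, 0), (96, 3), (36, 0), (19, 0), (10, 0)]),
     ([(10, 1), (22, 1), (40, 1), (94, 1), (29, 1)], .tr 54 1 [(10, 0), (94, 0), (40, 0), (22, 14), (29, 2)]),
     ([(18, 1), (13, 1), (16, 1), (92, 1), (52, 1)], .tr 55 0 [(13, 0), (18, 0), (92, 0), (52, 3), (16, 3)]),
     ([(16, 1), (23, 1), (31, 1), (75, 1), (55, 1)], .tr 55 1 [(16, 0), (23, 0), (75, 0), (55, 0), (31, 2)]),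
     ([(18, 1), (23, 1), (42, 1), (57, 1), (35, 1)], .tr 56 0 [(18, 0), (23, 20), (42, 0), (57, 0), (35, 0)]),
     ([(79, 1), (30, 1), (27, 1), (67, 1), (26, 1)], .tr 57 1 [(30, 10), (26, 3), (27, 10), (79, 17), (67, 7)]),
     ([(72, 1), (33, 1), (27, 1), (37, 1), (46, 1)], .tr 58 1 [(27, 10), (33, 7), (46, 17), (37, 16), (72, 22)]),
     ([(61, 1), (30, 1), (33, 1), (51, 1), (49, 1)], .tr 59 1 [(30, 10), (33, 7), (61, 15), (51, 9), (49, 7)]),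
     ([(39, 1), (98, 1), (88, 1), (47, 1), (44, 1)], .tr 60 1 [(98, 16), (47, 14), (44, 8), (88, 13), (39, 23)])],
    [([(91, 1), (63, 1), (54, 1), (50, 1), (44, 1)], .tr 61 1 [(91, 1), (50, 5), (44, 8), (54, 22), (63, 1)]),
     ([(70, 1), (83, 1), (47, 1), (68, 1), (50, 1)], .tr 62 1 [(83, 1), (47, 14), (50, 5), (68, 7), (70, 10)]),
     ([(100, 1), (39, 1), (84, 1), (54, 1), (68, 1)], .tr 64 0 [(100, 0), (84, 0), (39, 17), (68, 0), (54, 17)]),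
     ([(80, 1), (62, 1), (103, 1), (74, 1), (71, 1)], .tr 64 1 [(80, 19), (103, 4), (74, 18), (71, 6), (62, 9)]),
     ([(0, 1), (12, 1), (9, 1), (15, 1), (97, 1)], .kill 1 [([(2, 1), (3, 1), (6, 1), (12, 1), (32, 1), (35, 1), (53, 1), (55, 1)], [(4, 0), (102, 16), (20, 2), (38, 0), (15, 23)]), ([], [(9, 0), (15, 0), (0, 0), (12, 0), (97, 22)])]),
     ([(0, 1), (4, 1), (9, 1), (90, 1), (20, 1)], .tr 68 0 [(0, 1), (4, 0), (20, 0), (9, 17), (90, 0)]),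
     ([(3, 1), (24, 1), (21, 1), (28, 1), (76, 1)], .tr 68 1 [(3, 0), (24, 0), (21, 0), (28, 18), (76, 0)]),
     ([(0, 1), (15, 1), (7, 1), (20, 1), (101, 1)], .tr 69 0 [(0, 1), (7, 0), (20, 0), (101, 18), (15, 17)]),
     ([(3, 1), (78, 1), (11, 1), (21, 1), (32, 1)], .tr 69 1 [(3, 0), (11, 0), (21, 0), (78, 17), (32, 19)]),
     ([(6, 1), (36, 1), (22, 1), (34, 1), (94, 1)], .tr 70 0 [(6, 0), (36, 0), (22, 0), (34, 0), (94, 0)]),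
     ([(10, 1), (36, 1), (34, 1), (40, 1), (43, 1)], .tr 70 1 [(10, 0), (40, 0), (34, 0), (43, 3), (36, 2)]),
     ([(3, 1), (93, 1), (17, 1), (28, 1), (32, 1)], .tr 71 1 [(3, 0), (28, 18), (17, 3), (32, 19), (93, 22)]),
     ([(6, 1), (19, 1), (22, 1), (73, 1), (29, 1)], .tr 72 0 [(6, 0), (73, 0), (19, 0), (22, 0), (29, 0)]),
     ([(13, 1), (23, 1), (31, 1), (52, 1), (57, 1)], .tr 73 0 [(13, 0), (52, 3), (23, 20), (31, 0), (57, 0)]),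
     ([(18, 1), (16, 1), (48, 1), (55, 1), (35, 1)], .tr 73 1 [(16, 0), (55, 0), (35, 0), (48, 7), (18, 9)]),
     ([(18, 1), (31, 1), (42, 1), (52, 1), (55, 1)], .tr 74 0 [(18, 0), (52, 3), (31, 0), (42, 0), (55, 3)]),
     ([(6, 1), (10, 1), (34, 1), (58, 1), (29, 1)], .tr 75 0 [(6, 0), (58, 17), (10, 0), (34, 0), (29, 0)]),
     ([(10, 1), (19, 1), (45, 1), (29, 1), (43, 1)], .tr 75 1 [(10, 0), (19, 9), (29, 2), (43, 3), (45, 17)]),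
     ([(60, 1), (13, 1), (16, 1), (23, 1), (35, 1)], .tr 76 0 [(13, 0), (16, 3), (23, 20), (60, 0), (35, 0)]),
     ([(33, 1), (51, 1), (46, 1), (67, 1), (26, 1)], .tr 77 1 [(26, 3), (33, 7), (46, 17), (67, 7), (51, 9)]),
     ([(11, 1), (17, 1), (66, 1), (41, 1), (32, 1)], .tr 78 0 [(17, 0), (11, 3), (66, 3), (41, 0), (32, 0)]),
     ([(24, 1), (17, 1), (28, 1), (41, 1), (56, 1)], .tr 79 0 [(17, 0), (28, 0), (56, 0), (24, 3), (41, 0)]),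
     ([(33, 1), (27, 1), (81, 1), (26, 1), (49, 1)], .tr 82 1 [(81, 0), (26, 3), (27, 10), (33, 7), (49, 7)]),
     ([(0, 1), (9, 1), (69, 1), (78, 1), (18, 1), (104, 1)], .kill 2 [([(1, 1), (2, 1), (5, 1), (6, 1), (9, 1), (11, 1), (13, 1), (14, 1), (15, 1), (22, 1), (25, 1), (31, 1), (34, 1), (35, 1), (36, 1), (38, 1), (50, 1), (52, 1), (54, 1), (55, 1), (56, 1), (59, 1), (60, 1), (61, 1), (63, 1), (66, 1), (70, 1), (72, 1), (73, 1), (76, 1), (81, 1), (84, 1)], [(0, 1), (20, 0), (69, 4), (73, 0), (17, 0), (96, 3)]), ([(2, 1), (5, 1), (6, 1), (7, 1), (8, 1), (11, 1), (13, 1), (14, 1), (16, 1), (17, 1), (19, 1), (21, 1), (22, 1), (24, 1), (27, 1), (28, 1), (31, 1), (32, 1), (35, 1), (36, 1), (39, 1), (40, 1), (42, 1), (44, 1), (45, 1), (46, 1), (47, 1), (49, 1), (50, 1), (51, 1), (55, 1), (56, 1), (58, 1), (59, 1), (60, 1), (61, 1), (62, 1), (67, 1), (68,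 1), (69, 1), (70, 1), (71, 1), (72, 1), (73, 1), (74, 1), (76, 1), (81, 1), (83, 1), (85, 1), (86, 1)], [(0, 2), (15, 0), (87, 0), (93, 7), (51, 0), (104, 1)]), ([(2, 1), (3, 1), (4, 1), (5, 1), (8, 1), (9, 1), (12, 1), (13, 1), (17, 1), (18, 1), (23, 1), (25, 1), (28, 1), (30, 1), (32, 1), (33, 1), (35, 1), (37, 1), (38, 1), (40, 1), (41, 1), (42, 1), (47, 1), (50, 1), (51, 1), (54, 1), (55, 1), (57, 1), (59, 1), (60, 1), (65, 1), (67, 1), (68, 1), (69, 1), (70, 1), (71, 1), (72, 1), (73, 1), (77, 1), (85, 1)], [(1, 0), (39, 0), (99, 0), (24, 3), (42, 0), (85, 19)]), ([(1, 1), (3, 1), (6, 1), (7, 1), (8, 1), (10, 1), (11, 1), (12, 1), (14, 1), (17, 1), (18, 1), (19, 1), (21, 1), (22, 1), (23, 1), (28, 1), (29, 1), (31, 1), (34, 1), (36, 1), (39, 1), (40, 1), (41, 1), (42, 1), (43, 1), (44, 1), (46, 1), (47, 1), (49, 1), (51, 1), (52, 1), (54, 1), (61,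 1), (62, 1), (65, 1), (66, 1), (67, 1), (68, 1), (69, 1), (70, 1), (71, 1), (72, 1), (73, 1), (74, 1), (81, 1), (84, 1)], [(0, 3), (9, 3), (69, 10), (45, 0), (16, 7), (6, 3)])]),
     ([(3, 1), (1, 1), (96, 1), (21, 1), (30, 1), (94, 1)], .tr 87 1 [(3, 0), (21, 0), (1, 18), (96, 10), (30, 10), (94, 0)]),
     ([(6, 1), (1, 1), (22, 1), (27, 1), (92, 1), (57, 1)], .tr 88 0 [(6, 0), (1, 1), (92, 0), (22, 0), (27, 6), (57, 0)]),
     ([(10, 1), (5, 1), (18, 1), (34, 1), (75, 1), (47, 1)], .tr 88 1 [(10, 0), (5, 22), (75, 0), (34, 0), (47, 14), (18, 9)]),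
     ([(1, 1), (104, 1), (33, 1), (13, 1), (23, 1), (76, 1)], .tr 89 0 [(13, 0), (1, 1), (23, 20), (33, 6), (104, 3), (76, 0)]),
     ([(5, 1), (79, 1), (16, 1), (51, 1), (35, 1), (44, 1)], .tr 89 1 [(16, 0), (5, 22), (35, 0), (44, 8), (79, 17), (51, 9)]),
     ([(18, 1), (8, 1), (31, 1), (93, 1), (17, 1), (50, 1)], .tr 90 0 [(18, 0), (8, 22), (17, 0), (31, 0), (93, 0), (50, 0)]),
     ([(5, 1), (36, 1), (33, 1), (94, 1), (26, 1), (50, 1)], .tr 91 1 [(5, 22), (94, 0), (50, 5), (26, 3), (33, 7), (36, 2)]),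
     ([(9, 1), (27, 1), (98, 1), (62, 1), (68, 1), (49, 1)], .tr 92 1 [(9, 8), (98, 16), (27, 10), (68, 7), (49, 7), (62, 9)])],
    [([(15, 1), (19, 1), (30, 1), (46, 1), (29, 1), (71, 1)], .tr 93 1 [(30, 10), (15, 14), (46, 17), (19, 9), (29, 2), (71, 6)])]]
  nSteps := 97
  fin := [(4, 1), (5, 1), (6, 1), (8, 1), (11, 1), (12, 1), (13, 1), (14, 1), (15, 1), (18, 1), (19, 1), (21, 1), (25, 1), (28, 1), (29, 1), (31, 1), (32, 1), (34, 1), (35, 1), (36, 1), (37, 1), (38, 1), (39, 1), (40, 1), (41, 1), (43, 1), (44, 1), (47, 1), (48, 1), (49, 1), (51, 1), (53, 1), (54, 1), (55, 1), (56, 1), (58, 1), (59, 1), (63, 1), (64, 1), (65, 1), (66, 1), (67, 1), (69, 1), (70, 1), (71, 1), (73, 1), (74, 1), (76, 1), (79, 1), (80, 1), (81, 1), (82, 1), (83, 1), (87, 1), (93, 1), (94, 1), (95, 1), (96, 1)]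

theorem ks_eq : data.killed = [Words.a5Pt9, Words.a5Six9, Words.qC32, Words.qC3] := by decide +kernel

theorem xgens_eq : data.fixedBy = Words.qS4 := by decide +kernel

theorem checked : data.checked data.eqv2 = true := by decide +kernel

end H63.ModCert.P2L3
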