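import Cfsg.Agent.H63.ModCert.Words

/-! Certificate P2L4 (computed offline). -/

set_option autoImplicit false

namespace H63.ModCert.P2L4

/-- certificate data -/
def data : Data where
  n := 9
  p := 2
  N := 19
  gens := [[(0, 1), (1, 2)],
    [(0, 1), (1, 2), (2, 3), (3, 4), (4, 5), (5, 6)],
    [(1, 2), (2, 3)],
    [(2, 3), (3, 4)],
    [(0, 1), (1, 2), (2, 3), (3, 4)],
    [(0, 5), (1, 4)],
    [(1, 2), (3, 6)],
    [(0, 2), (2, 3), (3, 4), (4, 5), (5, 6), (6, 1)],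
    [(0, 2), (3, 6)],
    [(4, 5), (5, 6)],
    [(0, 1), (4, 5)]]
  xgens := [(0, 1), (2, 1)]
  xs := [[([], 1, 0, 0),
     ([(0, 1), (1, 2)], 1, 0, 0),
     ([(1, 2), (2, 3)], 1, 1, 0),
     ([(0, 2), (2, 1)], 1, 0, 1),
     ([(0, 2), (1, 3)], 1, 1, 1),
     ([(0, 1), (2, 3)], 1, 0, 2),
     ([(1, 3), (3, 2)], 1, 1, 2),
     ([(0, 3), (3, 2)], 1, 1, 4),
     ([(0, 2), (2, 3)], 1, 0, 5),
     ([(0, 1), (1, 3)], 1, 0, 6),
     ([(0, 3), (1, 2)], 1, 0, 7)]]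
  nX := 11
  reps := [[[],
     [(0, 1), (4, 5)],
     [(0, 1), (1, 2), (2, 3), (3, 4), (4, 5), (5, 6)],
     [(0, 2), (2, 3), (3, 4), (4, 6)],
     [(0, 2), (2, 4), (4, 6), (6, 1), (1, 3), (3, 5)],
     [(0, 5), (5, 6), (6, 1), (1, 4)],
     [(0, 3), (3, 6), (6, 2), (2, 5), (5, 1), (1, 4)],
     [(0, 6), (6, 2), (2, 3), (3, 4), (4, 1), (1, 5)],
     [(0, 6), (1, 5), (2, 3), (3, 4)],
     [(0, 3), (3, 6), (1, 4), (2, 5)],
     [(1, 6), (2, 4), (4, 3), (3, 5)],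
     [(0, 5), (5, 3), (3, 6), (6, 1), (1, 4), (4, 2)],
     [(2, 6), (3, 5)],
     [(0, 1), (2, 6), (3, 5), (5, 4)],
     [(1, 2), (3, 6)],
     [(0, 1), (1, 2), (3, 6), (4, 5)],
     [(4, 5), (5, 6)],
     [(0, 1), (4, 6)],
     [(4, 6), (6, 5)]]]
  Ks := [[(0, 1), (2, 1), (9, 1)], [(0, 1), (2, 1), (10, 1)]]
  steps := [[([(0, 1), (1, 1)], .kill 1 [([], [(0, 1), (1, 3)]), ([], [(0, 2), (1, 8)]), ([], [(1, 0), (0, 0)])]),
     ([(2, 1), (3, 1)], .tr 0 1 [(2, 0), (3, 0)]),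
     ([(4, 1), (5, 1)], .tr 1 1 [(4, 0), (5, 10)]),
     ([(6, 1), (7, 1)], .tr 2 1 [(6, 0), (7, 0)]),
     ([(8, 1), (9, 1)], .tr 3 0 [(9, 0), (8, 0)]),
     ([(10, 1), (11, 1)], .tr 4 1 [(10, 0), (11, 5)]),
     ([(12, 1), (13, 1)], .tr 5 1 [(12, 5), (13, 4)]),
     ([(14, 1), (15, 1)], .tr 6 1 [(15, 0), (14, 1)]),
     ([(16, 1), (17, 1)], .tr 7 1 [(16, 9), (17, 4)]),
     ([(18, 1), (17, 1)], .kill 1 [([], [(18, 1), (17, 3)]), ([], [(18, 2), (17, 8)]), ([], [(17, 0), (18, 0)])]),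
     ([(0, 1), (16, 1), (18, 1)], .kill 0 [([], [(0, 1), (16, 1), (18, 1)]), ([], [(0, 2), (16, 2), (18, 2)]), ([], [(16, 0), (18, 0), (0, 0)])])]]
  nSteps := 11
  fin := [(8, 1), (9, 1), (10, 1)]

theorem ks_eq : data.killed = [Words.qC3, Words.qS4] := by decide +kernel

theorem xgens_eq : data.fixedBy = Words.qA4 := by decide +kernel

theorem checked : data.checked data.eqv2 = true := by decide +kernel

end H63.ModCert.P2L4
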