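import Cfsg.Agent.H63.ModCert.Words

/-! Certificate P2M (computed offline). -/

set_option autoImplicit false

namespace H63.ModCert.P2M

/-- certificate data -/
def data : Data where
  n := 9
  p := 2
  N := 401
  gens := [[(0, 1), (1, 2)],
    [(0, 1), (1, 2), (2, 3), (3, 4), (4, 5), (5, 6), (6, 7), (7, 8)],
    [(0, 1), (2, 3)],
    [(0, 2), (1, 3)],
    [(4, 5), (6, 7)],
    [(4, 6), (5, 7)],
    [(0, 1), (4, 5)],
    [(0, 4), (1, 5), (2, 6), (3, 7)],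
    [(2, 4), (3, 5)],
    [(2, 3), (3, 4)],
    [(0, 1), (1, 2), (2, 3), (3, 4)],
    [(0, 5), (1, 4)],
    [(0, 1), (1, 2), (2, 3), (3, 4), (4, 5), (5, 6)],
    [(1, 2), (3, 6)],
    [(0, 2), (2, 3), (3, 4), (4, 5), (5, 6), (6, 1)],
    [(0, 2), (3, 6)],
    [(0, 7), (1, 6), (2, 3), (4, 5)],
    [(0, 6), (1, 7), (2, 3), (4, 5)],
    [(1, 2), (2, 4), (4, 3), (3, 6), (6, 7), (7, 5)],
    [(0, 1), (2, 3), (4, 5), (6, 7)],
    [(0, 8), (2, 5), (3, 6), (4, 7)],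
    [(0, 2), (2, 4), (4, 3), (3, 6), (6, 7), (7, 5)],
    [(1, 8), (2, 5), (3, 6), (4, 7)],
    [(1, 2), (2, 3)],
    [(5, 6), (6, 7)]]
  xgens := [(2, 1), (3, 1), (4, 1), (5, 1), (6, 1), (7, 1), (8, 1)]
  xs := [[([], 1, 0, 0),
     ([(0, 1), (2, 3)], 1, 0, 0),
     ([(0, 2), (1, 3)], 1, 1, 0),
     ([(4, 5), (6, 7)], 1, 2, 0),
     ([(4, 6), (5, 7)], 1, 3, 0),
     ([(0, 1), (4, 5)], 1, 4, 0),
     ([(0, 4), (1, 5), (2, 6), (3, 7)], 1, 5, 0),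
     ([(2, 4), (3, 5)], 1, 6, 0),
     ([(0, 3), (1, 2)], 1, 1, 1),
     ([(0, 1), (2, 3), (4, 5), (6, 7)], 1, 2, 1),
     ([(0, 1), (2, 3), (4, 6), (5, 7)], 1, 3, 1),
     ([(2, 3), (4, 5)], 1, 4, 1),
     ([(0, 5), (5, 1), (1, 4), (2, 7), (7, 3), (3, 6)], 1, 5, 1),
     ([(0, 1), (2, 5), (5, 3), (3, 4)], 1, 6, 1),
     ([(0, 2), (1, 3), (4, 5), (6, 7)], 1, 2, 2),
     ([(0, 2), (1, 3), (4, 6), (5, 7)], 1, 3, 2),
     ([(0, 2), (2, 1), (1, 3), (4, 5)], 1, 4, 2),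
     ([(0, 6), (6, 2), (2, 4), (1, 7), (7, 3), (3, 5)], 1, 5, 2),
     ([(0, 4), (4, 2), (1, 5), (5, 3)], 1, 6, 2),
     ([(4, 7), (5, 6)], 1, 3, 3),
     ([(0, 1), (6, 7)], 1, 4, 3),
     ([(0, 4), (4, 1), (1, 5), (2, 6), (6, 3), (3, 7)], 1, 5, 3),
     ([(2, 4), (4, 3), (3, 5), (6, 7)], 1, 6, 3),
     ([(0, 1), (4, 6), (6, 5), (5, 7)], 1, 4, 4),
     ([(0, 4), (4, 2), (2, 6), (1, 5), (5, 3), (3, 7)], 1, 5, 4),
     ([(2, 4), (4, 6), (3, 5), (5, 7)], 1, 6, 4),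
     ([(0, 3), (3, 1), (1, 2), (4, 5)], 1, 1, 5),
     ([(0, 1), (4, 7), (7, 5), (5, 6)], 1, 3, 5),
     ([(0, 5), (1, 4), (2, 6), (3, 7)], 1, 5, 5),
     ([(0, 1), (2, 4), (4, 3), (3, 5)], 1, 6, 5),
     ([(0, 2), (2, 6), (6, 4), (1, 3), (3, 7), (7, 5)], 1, 6, 6),
     ([(0, 2), (2, 4), (1, 3), (3, 5)], 1, 1, 7)],
    [([(2, 5), (5, 3), (3, 4), (6, 7)], 1, 2, 7),
     ([(2, 6), (6, 4), (3, 7), (7, 5)], 1, 3, 7),
     ([(0, 3), (1, 2), (4, 5), (6, 7)], 1, 2, 8),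
     ([(0, 3), (1, 2), (4, 6), (5, 7)], 1, 3, 8),
     ([(0, 7), (7, 3), (3, 4), (1, 6), (6, 2), (2, 5)], 1, 5, 8),
     ([(0, 5), (5, 3), (1, 4), (4, 2)], 1, 6, 8),
     ([(0, 1), (2, 3), (4, 7), (5, 6)], 1, 3, 9),
     ([(2, 3), (6, 7)], 1, 4, 9),
     ([(0, 5), (1, 4), (2, 7), (3, 6)], 1, 5, 9),
     ([(0, 1), (2, 5), (3, 4), (6, 7)], 1, 6, 9),
     ([(2, 3), (4, 6), (6, 5), (5, 7)], 1, 4, 10),
     ([(0, 5), (5, 3), (3, 6), (1, 4), (4, 2), (2, 7)], 1, 5, 10),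
     ([(0, 1), (2, 5), (5, 7), (7, 3), (3, 4), (4, 6)], 1, 6, 10),
     ([(2, 3), (4, 7), (7, 5), (5, 6)], 1, 3, 11),
     ([(0, 4), (4, 1), (1, 5), (2, 7), (7, 3), (3, 6)], 1, 5, 11),
     ([(2, 5), (3, 4)], 1, 6, 11),
     ([(0, 3), (3, 6), (6, 4), (1, 2), (2, 7), (7, 5)], 1, 6, 12),
     ([(0, 3), (3, 4), (1, 2), (2, 5)], 1, 1, 13),
     ([(0, 1), (2, 4), (3, 5), (6, 7)], 1, 2, 13),
     ([(0, 1), (2, 7), (7, 5), (5, 3), (3, 6), (6, 4)], 1, 3, 13),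
     ([(0, 5), (5, 7), (7, 3), (1, 4), (4, 6), (6, 2)], 1, 5, 13),
     ([(0, 2), (1, 3), (4, 7), (5, 6)], 1, 3, 14),
     ([(0, 2), (2, 1), (1, 3), (6, 7)], 1, 4, 14),
     ([(0, 6), (6, 3), (3, 5), (1, 7), (7, 2), (2, 4)], 1, 5, 14),
     ([(0, 4), (4, 3), (3, 1), (1, 5), (5, 2), (6, 7)], 1, 6, 14),
     ([(0, 2), (2, 1), (1, 3), (4, 6), (6, 5), (5, 7)], 1, 4, 15),
     ([(0, 2), (2, 1), (1, 3), (4, 7), (7, 5), (5, 6)], 1, 3, 16),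
     ([(0, 6), (6, 2), (2, 5), (1, 7), (7, 3), (3, 4)], 1, 5, 16),
     ([(0, 4), (4, 3), (1, 5), (5, 2)], 1, 6, 16),
     ([(0, 6), (6, 4), (1, 7), (7, 5)], 1, 6, 17),
     ([(0, 4), (1, 5)], 1, 1, 18),
     ([(0, 5), (5, 3), (3, 1), (1, 4), (4, 2), (6, 7)], 1, 2, 18)],
    [([(0, 6), (6, 4), (4, 2), (1, 7), (7, 5), (5, 3)], 1, 3, 18),
     ([(0, 4), (4, 3), (3, 7), (1, 5), (5, 2), (2, 6)], 1, 5, 19),
     ([(2, 4), (4, 7), (3, 5), (5, 6)], 1, 6, 19),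
     ([(0, 3), (3, 1), (1, 2), (6, 7)], 1, 1, 20),
     ([(0, 2), (2, 6), (6, 5), (1, 3), (3, 7), (7, 4)], 1, 6, 21),
     ([(0, 2), (2, 4), (4, 1), (1, 3), (3, 5), (6, 7)], 1, 1, 22),
     ([(2, 6), (6, 5), (3, 7), (7, 4)], 1, 3, 22),
     ([(0, 4), (4, 7), (7, 2), (1, 5), (5, 6), (6, 3)], 1, 5, 22),
     ([(0, 3), (3, 1), (1, 2), (4, 6), (6, 5), (5, 7)], 1, 1, 23),
     ([(0, 5), (5, 3), (3, 7), (1, 4), (4, 2), (2, 6)], 1, 5, 23),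
     ([(0, 1), (2, 4), (4, 6), (6, 3), (3, 5), (5, 7)], 1, 6, 23),
     ([(0, 2), (2, 6), (1, 3), (3, 7)], 1, 6, 24),
     ([(0, 2), (2, 4), (4, 6), (1, 3), (3, 5), (5, 7)], 1, 1, 25),
     ([(2, 5), (5, 6), (3, 4), (4, 7)], 1, 2, 25),
     ([(2, 6), (3, 7)], 1, 3, 25),
     ([(0, 3), (3, 1), (1, 2), (4, 7), (7, 5), (5, 6)], 1, 3, 26),
     ([(0, 7), (7, 3), (3, 5), (1, 6), (6, 2), (2, 4)], 1, 5, 26),
     ([(0, 5), (5, 2), (1, 4), (4, 3)], 1, 6, 26),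
     ([(0, 5), (5, 2), (2, 6), (1, 4), (4, 3), (3, 7)], 1, 5, 27),
     ([(0, 1), (2, 4), (4, 7), (7, 3), (3, 5), (5, 6)], 1, 6, 27),
     ([(0, 3), (3, 7), (7, 5), (1, 2), (2, 6), (6, 4)], 1, 6, 28),
     ([(0, 3), (3, 5), (1, 2), (2, 4)], 1, 1, 29),
     ([(0, 1), (2, 6), (6, 4), (4, 3), (3, 7), (7, 5)], 1, 3, 29),
     ([(0, 5), (5, 6), (6, 2), (1, 4), (4, 7), (7, 3)], 1, 5, 29),
     ([(0, 2), (2, 7), (7, 4), (1, 3), (3, 6), (6, 5)], 1, 2, 30),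
     ([(0, 6), (1, 7)], 1, 5, 30),
     ([(0, 2), (2, 5), (5, 1), (1, 3), (3, 4), (6, 7)], 1, 2, 31),
     ([(0, 2), (2, 5), (1, 3), (3, 4)], 1, 4, 31),
     ([(0, 6), (6, 2), (1, 7), (7, 3)], 1, 5, 31),
     ([(2, 7), (7, 4), (3, 6), (6, 5)], 1, 3, 32),
     ([(0, 4), (4, 6), (6, 3), (1, 5), (5, 7), (7, 2)], 1, 5, 32),
     ([(0, 1), (2, 6), (6, 5), (5, 3), (3, 7), (7, 4)], 1, 4, 33)],
    [([(0, 4), (4, 6), (1, 5), (5, 7)], 1, 5, 33),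
     ([(0, 3), (1, 2), (4, 7), (5, 6)], 1, 3, 34),
     ([(0, 7), (7, 2), (2, 5), (1, 6), (6, 3), (3, 4)], 1, 5, 34),
     ([(0, 5), (5, 2), (2, 1), (1, 4), (4, 3), (6, 7)], 1, 6, 34),
     ([(0, 7), (7, 1), (1, 6), (2, 5), (5, 3), (3, 4)], 1, 5, 35),
     ([(0, 7), (7, 5), (5, 1), (1, 6), (6, 4), (2, 3)], 1, 6, 36),
     ([(0, 5), (5, 1), (1, 4), (2, 3)], 1, 1, 37),
     ([(0, 4), (4, 2), (2, 1), (1, 5), (5, 3), (6, 7)], 1, 2, 37),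
     ([(0, 7), (7, 5), (5, 3), (1, 6), (6, 4), (4, 2)], 1, 3, 37),
     ([(0, 5), (5, 2), (2, 7), (1, 4), (4, 3), (3, 6)], 1, 5, 38),
     ([(0, 1), (2, 5), (5, 6), (6, 3), (3, 4), (4, 7)], 1, 6, 38),
     ([(0, 4), (1, 5), (2, 7), (3, 6)], 1, 5, 39),
     ([(0, 3), (3, 6), (6, 5), (1, 2), (2, 7), (7, 4)], 1, 6, 40),
     ([(0, 3), (3, 4), (4, 1), (1, 2), (2, 5), (6, 7)], 1, 1, 41),
     ([(0, 1), (2, 7), (7, 4), (4, 3), (3, 6), (6, 5)], 1, 3, 41),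
     ([(0, 5), (5, 6), (6, 3), (1, 4), (4, 7), (7, 2)], 1, 5, 41),
     ([(0, 4), (4, 2), (2, 7), (1, 5), (5, 3), (3, 6)], 1, 5, 42),
     ([(2, 5), (5, 7), (3, 4), (4, 6)], 1, 6, 42),
     ([(0, 3), (3, 6), (1, 2), (2, 7)], 1, 6, 43),
     ([(0, 3), (3, 4), (4, 6), (1, 2), (2, 5), (5, 7)], 1, 1, 44),
     ([(0, 1), (2, 7), (7, 3), (3, 6)], 1, 3, 44),
     ([(0, 4), (4, 3), (3, 6), (1, 5), (5, 2), (2, 7)], 1, 5, 45),
     ([(0, 2), (2, 7), (7, 5), (1, 3), (3, 6), (6, 4)], 1, 6, 46),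
     ([(2, 7), (7, 5), (3, 6), (6, 4)], 1, 3, 47),
     ([(0, 4), (4, 7), (7, 3), (1, 5), (5, 6), (6, 2)], 1, 5, 47),
     ([(0, 3), (3, 7), (7, 4), (1, 2), (2, 6), (6, 5)], 1, 2, 48),
     ([(0, 7), (7, 1), (1, 6), (2, 3)], 1, 5, 48),
     ([(0, 3), (3, 5), (5, 1), (1, 2), (2, 4), (6, 7)], 1, 2, 49),
     ([(0, 7), (7, 3), (1, 6), (6, 2)], 1, 5, 49),
     ([(0, 5), (5, 7), (7, 2), (1, 4), (4, 6), (6, 3)], 1, 5, 50),
     ([(0, 5), (5, 7), (7, 1), (1, 4), (4, 6), (2, 3)], 1, 5, 51),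
     ([(0, 6), (6, 3), (3, 4), (1, 7), (7, 2), (2, 5)], 1, 5, 54)],
    [([(0, 4), (4, 1), (1, 5), (6, 7)], 1, 1, 56),
     ([(0, 6), (6, 5), (5, 2), (1, 7), (7, 4), (4, 3)], 1, 3, 56),
     ([(0, 6), (6, 1), (1, 7), (2, 5), (5, 3), (3, 4)], 1, 5, 57),
     ([(0, 6), (1, 7), (2, 5), (3, 4)], 1, 5, 58),
     ([(0, 6), (6, 4), (4, 1), (1, 7), (7, 5), (2, 3)], 1, 6, 59),
     ([(0, 4), (4, 1), (1, 5), (2, 3)], 1, 1, 60),
     ([(0, 6), (6, 4), (4, 3), (1, 7), (7, 5), (5, 2)], 1, 3, 60),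
     ([(0, 7), (7, 4), (1, 6), (6, 5)], 1, 2, 61),
     ([(0, 5), (5, 1), (1, 4), (6, 7)], 1, 2, 62),
     ([(0, 5), (1, 4)], 1, 4, 62),
     ([(0, 7), (7, 4), (4, 2), (1, 6), (6, 5), (5, 3)], 1, 3, 63),
     ([(0, 6), (6, 5), (5, 3), (1, 7), (7, 4), (4, 2)], 1, 4, 64),
     ([(0, 2), (2, 6), (6, 1), (1, 3), (3, 7), (4, 5)], 1, 6, 65),
     ([(0, 2), (2, 4), (4, 7), (1, 3), (3, 5), (5, 6)], 1, 1, 66),
     ([(2, 6), (6, 3), (3, 7), (4, 5)], 1, 3, 66),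
     ([(0, 6), (6, 1), (1, 7), (4, 5)], 1, 5, 68),
     ([(0, 6), (6, 3), (3, 1), (1, 7), (7, 2), (4, 5)], 1, 5, 69),
     ([(0, 4), (4, 7), (1, 5), (5, 6)], 1, 5, 70),
     ([(0, 7), (1, 6), (2, 4), (3, 5)], 1, 5, 72),
     ([(0, 3), (3, 5), (5, 7), (1, 2), (2, 4), (4, 6)], 1, 1, 74),
     ([(0, 2), (2, 7), (7, 1), (1, 3), (3, 6), (4, 5)], 1, 2, 75),
     ([(0, 2), (2, 5), (5, 6), (1, 3), (3, 4), (4, 7)], 1, 2, 76),
     ([(0, 2), (2, 5), (5, 7), (1, 3), (3, 4), (4, 6)], 1, 4, 76),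
     ([(2, 7), (7, 3), (3, 6), (4, 5)], 1, 3, 77),
     ([(0, 7), (7, 1), (1, 6), (2, 4), (4, 3), (3, 5)], 1, 5, 79),
     ([(0, 7), (7, 5), (1, 6), (6, 4)], 1, 6, 80),
     ([(0, 7), (7, 5), (5, 2), (1, 6), (6, 4), (4, 3)], 1, 3, 81),
     ([(0, 3), (3, 7), (7, 1), (1, 2), (2, 6), (4, 5)], 1, 6, 82),
     ([(0, 3), (3, 5), (5, 6), (1, 2), (2, 4), (4, 7)], 1, 1, 83),
     ([(0, 7), (7, 1), (1, 6), (4, 5)], 1, 5, 84),
     ([(0, 7), (7, 3), (3, 1), (1, 6), (6, 2), (4, 5)], 1, 5, 85),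
     ([(0, 5), (5, 6), (1, 4), (4, 7)], 1, 5, 86)],
    [([(0, 6), (6, 1), (1, 7), (2, 3)], 1, 5, 88),
     ([(0, 6), (6, 3), (1, 7), (7, 2)], 1, 5, 90),
     ([(0, 4), (1, 5), (2, 3), (6, 7)], 1, 6, 90),
     ([(0, 6), (6, 2), (2, 1), (1, 7), (7, 3), (4, 5)], 1, 5, 91),
     ([(0, 4), (4, 6), (6, 1), (1, 5), (5, 7), (2, 3)], 1, 5, 93),
     ([(2, 7), (3, 6)], 1, 6, 93),
     ([(0, 5), (5, 7), (1, 4), (4, 6)], 1, 5, 95),
     ([(0, 7), (1, 6), (2, 5), (3, 4)], 1, 5, 97),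
     ([(0, 7), (7, 4), (4, 1), (1, 6), (6, 5), (2, 3)], 1, 6, 98),
     ([(0, 5), (1, 4), (2, 3), (6, 7)], 1, 1, 99),
     ([(0, 7), (7, 4), (4, 3), (1, 6), (6, 5), (5, 2)], 1, 3, 99),
     ([(0, 6), (6, 5), (5, 1), (1, 7), (7, 4), (2, 3)], 1, 2, 101),
     ([(0, 3), (3, 6), (6, 1), (1, 2), (2, 7), (4, 5)], 1, 6, 105),
     ([(0, 3), (3, 4), (4, 7), (1, 2), (2, 5), (5, 6)], 1, 1, 106),
     ([(0, 1), (2, 7), (3, 6), (4, 5)], 1, 3, 106),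
     ([(0, 7), (1, 6), (2, 3), (4, 5)], 1, 5, 108),
     ([(0, 7), (7, 2), (2, 1), (1, 6), (6, 3), (4, 5)], 1, 5, 109),
     ([(0, 5), (5, 6), (6, 1), (1, 4), (4, 7), (2, 3)], 1, 5, 110),
     ([(0, 2), (2, 7), (1, 3), (3, 6)], 1, 6, 112),
     ([(0, 6), (1, 7), (2, 3), (4, 5)], 1, 5, 118),
     ([(0, 4), (4, 7), (7, 1), (1, 5), (5, 6), (2, 3)], 1, 5, 119),
     ([(0, 7), (1, 6)], 1, 5, 121),
     ([(0, 7), (7, 2), (1, 6), (6, 3)], 1, 5, 123)]]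
  nX := 183
  reps := [[[],
     [(0, 8), (8, 6), (6, 5), (5, 2), (1, 4), (4, 3)],
     [(1, 2), (2, 3), (4, 7), (6, 8)],
     [(0, 2), (2, 3), (4, 7), (6, 8)],
     [(0, 8), (8, 7), (7, 4), (4, 1), (1, 6), (6, 2), (2, 5), (5, 3)],
     [(0, 8), (8, 7), (7, 1), (1, 6), (6, 2), (3, 5)],
     [(0, 6), (1, 8), (8, 7), (7, 5), (5, 3), (2, 4)],
     [(0, 8), (8, 7), (7, 4), (1, 6), (6, 3), (2, 5)],
     [(0, 6), (6, 2), (2, 5), (5, 3), (3, 1), (1, 8), (8, 7), (7, 4)],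
     [(0, 3), (3, 5), (5, 8), (8, 7), (1, 2), (4, 6)],
     [(0, 4), (4, 6), (6, 2), (2, 7), (7, 3), (1, 5)],
     [(0, 5), (5, 4), (4, 3), (3, 6), (6, 7), (1, 2)],
     [(0, 2), (2, 1), (1, 4), (4, 3), (3, 6), (6, 7)],
     [(0, 8), (8, 7), (7, 5), (5, 3), (3, 1), (1, 6), (6, 2), (2, 4)],
     [(0, 6), (6, 2), (2, 4), (4, 1), (1, 8), (8, 7), (7, 5), (5, 3)],
     [(0, 8), (8, 7), (7, 5), (5, 3), (1, 6), (6, 2)],
     [(0, 1), (1, 3), (3, 7), (7, 6), (6, 2), (4, 5)],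
     [(0, 2), (2, 4), (1, 6), (5, 7)],
     [(0, 4), (4, 3), (3, 6), (6, 7)],
     [(1, 3), (3, 5), (5, 6), (2, 4)],
     [(1, 5), (5, 4), (4, 3), (3, 6)],
     [(0, 2), (1, 6), (3, 4), (4, 5)],
     [(0, 8), (2, 5), (3, 6), (4, 7)],
     [(0, 1), (1, 8), (2, 4), (4, 7), (7, 5), (3, 6)],
     [(0, 3), (3, 5), (5, 7), (7, 8), (1, 6), (2, 4)],
     [(0, 1), (1, 2), (2, 4), (4, 3), (3, 5), (5, 6)],
     [(0, 1), (1, 4), (4, 3), (3, 2), (2, 5), (5, 6)],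
     [(0, 4), (1, 2), (2, 6), (5, 7)],
     [(0, 2), (2, 4), (4, 6), (6, 1), (1, 3), (3, 5)],
     [(0, 3), (3, 5), (1, 4), (4, 6)],
     [(0, 2), (2, 3), (3, 5), (5, 6), (6, 1), (1, 4)],
     [(0, 8), (2, 5), (5, 3), (3, 6), (6, 4), (4, 7)]],
    [[(0, 1), (1, 8), (2, 3), (3, 7), (7, 4), (4, 5)],
     [(0, 1), (1, 8), (2, 3), (3, 7), (7, 4), (5, 6)],
     [(0, 1), (1, 3), (3, 6), (6, 2)],
     [(1, 6), (6, 2), (3, 4), (4, 5)],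
     [(0, 3), (3, 1), (1, 4), (4, 6), (6, 2), (2, 5)],
     [(0, 8), (1, 2), (2, 5), (5, 3), (3, 6), (4, 7)],
     [(0, 2), (2, 6), (6, 4), (4, 7), (7, 5), (5, 3), (3, 1), (1, 8)],
     [(0, 5), (5, 2), (2, 3), (3, 7), (7, 4), (4, 8)],
     [(0, 8), (8, 1), (1, 2), (2, 5), (3, 6), (4, 7)],
     [(0, 2), (2, 5), (1, 8), (4, 7)],
     [(0, 2), (1, 8), (3, 7), (4, 5)],
     [(1, 2), (2, 6), (6, 4), (4, 8), (3, 7), (7, 5)],
     [(1, 2), (2, 7), (7, 3), (3, 5), (5, 6), (6, 8)],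
     [(0, 6), (6, 7), (7, 4), (1, 5), (5, 2), (2, 8)],
     [(0, 8), (2, 4), (4, 6), (6, 3), (3, 7), (7, 5)],
     [(0, 8), (2, 7), (7, 6), (6, 3), (3, 4), (4, 5)],
     [(0, 2), (2, 7), (7, 6), (6, 5), (5, 1), (1, 3), (3, 4), (4, 8)],
     [(0, 8), (8, 1), (1, 2), (2, 5), (5, 3), (3, 6), (6, 4), (4, 7)],
     [(0, 8), (8, 1), (1, 2), (2, 6), (6, 4), (4, 7), (7, 5), (5, 3)],
     [(1, 5), (5, 2), (2, 3), (3, 7), (7, 4), (4, 8)],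
     [(1, 2), (2, 3), (3, 6), (6, 4), (4, 7), (7, 8)],
     [(1, 2), (2, 3), (3, 5), (5, 7), (7, 8), (4, 6)],
     [(1, 2), (2, 3), (3, 7), (7, 8), (4, 5), (5, 6)],
     [(0, 2), (2, 8), (1, 5), (4, 7)],
     [(0, 4), (4, 1), (1, 2), (2, 6), (6, 3), (3, 5), (5, 7), (7, 8)],
     [(0, 2), (2, 4), (4, 1), (1, 6), (6, 3), (3, 5), (5, 7), (7, 8)],
     [(0, 8), (8, 1), (2, 5), (5, 3), (3, 6), (4, 7)],
     [(0, 2), (2, 8), (8, 1), (1, 6), (6, 4), (4, 7), (7, 5), (5, 3)],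
     [(0, 8), (8, 1), (2, 3), (3, 7), (7, 4), (4, 5)],
     [(1, 3), (3, 7), (7, 8), (4, 6)],
     [(1, 3), (3, 5), (5, 6), (6, 4), (4, 7), (7, 8)],
     [(0, 4), (4, 6), (6, 7), (7, 5), (5, 2), (1, 8)]],
    [[(1, 8), (8, 2), (2, 5), (4, 7)],
     [(1, 8), (8, 2), (3, 7), (4, 5)],
     [(0, 3), (3, 6), (6, 8), (8, 2), (2, 5), (5, 1), (1, 4), (4, 7)],
     [(1, 3), (3, 5), (5, 7), (2, 4), (4, 6), (6, 8)],
     [(1, 3), (3, 6), (2, 4), (4, 5), (5, 7), (7, 8)],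
     [(0, 8), (8, 2), (2, 5), (5, 4), (4, 7), (3, 6)],
     [(0, 1), (2, 6), (6, 4), (4, 8), (3, 7), (7, 5)],
     [(0, 1), (2, 6), (6, 3), (3, 5), (5, 7), (7, 8)],
     [(0, 1), (2, 7), (7, 3), (3, 5), (5, 6), (6, 8)],
     [(0, 3), (3, 4), (4, 2), (2, 7), (1, 5), (5, 8)],
     [(0, 5), (5, 7), (7, 2), (2, 6), (6, 8), (8, 1)],
     [(0, 8), (8, 1), (1, 2), (2, 5), (5, 4), (4, 7), (7, 3), (3, 6)],
     [(0, 6), (6, 4), (4, 7), (7, 8), (8, 2), (2, 3)],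
     [(0, 5), (5, 3), (3, 7), (7, 4), (2, 6), (6, 8)],
     [(0, 8), (8, 2), (2, 1), (1, 4), (4, 5), (5, 6), (6, 3), (3, 7)],
     [(0, 1), (2, 7), (7, 3), (3, 5), (5, 4), (4, 8)],
     [(0, 3), (3, 7), (7, 4), (1, 5), (2, 6), (6, 8)],
     [(0, 1), (2, 3), (3, 7), (7, 8), (4, 5), (5, 6)],
     [(0, 3), (3, 5), (5, 6), (6, 7), (7, 8), (8, 2)],
     [(0, 1), (1, 3), (3, 5), (5, 7), (7, 8), (8, 2)],
     [(0, 5), (5, 1), (2, 6), (6, 8), (3, 7), (7, 4)],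
     [(1, 5), (5, 2), (2, 8), (4, 7)],
     [(0, 5), (5, 8), (8, 1), (1, 6), (6, 4), (4, 3), (3, 2), (2, 7)],
     [(1, 6), (6, 5), (5, 8), (2, 7), (7, 4), (4, 3)],
     [(0, 8), (8, 1), (1, 2), (2, 6), (6, 4), (4, 5), (5, 3), (3, 7)],
     [(0, 2), (2, 7), (7, 3), (3, 5), (5, 4), (1, 8)],
     [(0, 1), (1, 8), (8, 2), (2, 5), (5, 3), (3, 6), (6, 4), (4, 7)],
     [(0, 1), (1, 8), (8, 2), (2, 6), (6, 4), (4, 7), (7, 5), (5, 3)],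
     [(0, 8), (8, 2), (2, 3), (3, 7), (7, 4), (4, 5)],
     [(1, 5), (2, 6), (6, 7), (7, 8)],
     [(0, 1), (1, 4), (2, 7), (7, 8)],
     [(0, 8), (8, 2), (2, 6), (6, 1), (1, 3), (3, 7), (7, 4), (4, 5)]],
    [[(2, 4), (4, 6), (6, 8), (8, 3), (3, 5), (5, 7)],
     [(0, 8), (8, 3), (1, 2), (4, 7), (7, 6), (6, 5)],
     [(0, 1), (2, 6), (6, 7), (7, 5), (3, 4), (4, 8)],
     [(1, 2), (3, 4), (4, 5), (5, 6), (6, 7), (7, 8)],
     [(0, 8), (8, 3), (3, 7), (7, 4), (4, 2), (2, 6), (6, 1), (1, 5)],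
     [(0, 6), (6, 5), (5, 2), (2, 4), (1, 8), (8, 3)],
     [(0, 2), (3, 4), (4, 5), (5, 6), (6, 7), (7, 8)],
     [(0, 6), (6, 7), (7, 5), (5, 2), (2, 4), (4, 1), (1, 8), (8, 3)],
     [(0, 2), (3, 4), (4, 6), (6, 5), (5, 7), (7, 8)],
     [(0, 1), (1, 6), (6, 5), (5, 8), (8, 2), (2, 7), (7, 3), (3, 4)],
     [(0, 8), (8, 2), (2, 4), (4, 3), (3, 7), (7, 5), (5, 6), (6, 1)],
     [(1, 8), (8, 2), (2, 4), (4, 3), (3, 7), (7, 5)],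
     [(0, 8), (8, 2), (1, 5), (4, 7)],
     [(0, 3), (3, 6), (6, 5), (5, 4), (4, 7), (7, 8), (8, 2), (2, 1)],
     [(0, 3), (3, 4), (4, 6), (6, 5), (5, 7), (7, 8), (8, 2), (2, 1)],
     [(0, 1), (1, 4), (4, 6), (6, 7), (7, 8), (8, 3), (3, 5), (5, 2)],
     [(1, 5), (5, 7), (7, 8), (8, 3), (3, 4), (4, 2)],
     [(0, 2), (2, 6), (6, 1), (1, 8), (8, 3), (3, 7), (7, 4), (4, 5)],
     [(0, 2), (3, 5), (5, 7), (7, 8)],
     [(0, 2), (3, 5), (5, 4), (4, 6), (6, 7), (7, 8)],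
     [(0, 2), (2, 6), (3, 7), (7, 5), (5, 4), (4, 8)],
     [(0, 4), (4, 6), (6, 7), (7, 8), (8, 3), (3, 5), (5, 1), (1, 2)],
     [(0, 2), (2, 6), (6, 5), (5, 7), (7, 8), (8, 3), (3, 1), (1, 4)],
     [(0, 8), (8, 3), (3, 2), (2, 4), (4, 6), (6, 7), (7, 5), (5, 1)],
     [(0, 7), (1, 5), (5, 3), (2, 6), (6, 4), (4, 8)],
     [(0, 4), (4, 1), (2, 5), (5, 7), (7, 8), (3, 6)],
     [(0, 5), (5, 8), (8, 2), (2, 7), (3, 6), (6, 4)],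
     [(0, 3), (3, 5), (5, 7), (7, 8), (8, 2), (2, 1)],
     [(1, 3), (3, 5), (5, 6), (6, 7), (7, 8), (8, 2)],
     [(0, 7), (7, 8), (8, 3), (3, 2), (1, 5), (4, 6)],
     [(0, 8), (8, 3), (3, 6), (6, 2), (2, 5), (5, 1), (1, 4), (4, 7)],
     [(0, 2), (2, 6), (6, 5), (5, 4), (4, 8), (8, 3), (3, 7), (7, 1)]],
    [[(1, 4), (4, 6), (6, 7), (7, 8), (8, 3), (3, 5)],
     [(0, 8), (8, 3), (3, 1), (2, 6), (4, 7), (7, 5)],
     [(0, 8), (8, 3), (3, 1), (1, 4), (2, 6), (5, 7)],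
     [(0, 2), (2, 7), (3, 5), (5, 4), (4, 6), (6, 8)],
     [(1, 8), (8, 3), (3, 2), (4, 7), (7, 6), (6, 5)],
     [(0, 1), (1, 2), (2, 4), (4, 6), (6, 8), (8, 3), (3, 5), (5, 7)],
     [(0, 1), (3, 4), (4, 5), (5, 6), (6, 7), (7, 8)],
     [(2, 7), (7, 8), (8, 3), (3, 5)],
     [(0, 8), (8, 3), (3, 7), (7, 4), (1, 5), (2, 6)],
     [(0, 2), (2, 3), (3, 1), (1, 5), (5, 6), (6, 7), (7, 8), (8, 4)],
     [(0, 5), (5, 7), (7, 8), (8, 4), (1, 2), (2, 3)],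
     [(0, 1), (1, 3), (3, 6), (2, 7), (7, 8), (8, 4)],
     [(0, 2), (2, 1), (1, 3), (3, 5), (5, 6), (6, 7), (7, 8), (8, 4)],
     [(0, 5), (5, 6), (6, 7), (4, 8)],
     [(0, 5), (5, 7), (4, 6), (6, 8)],
     [(0, 8), (8, 3), (3, 6), (1, 5), (5, 4), (4, 7)],
     [(0, 8), (8, 3), (3, 1), (1, 5), (5, 2), (4, 7)],
     [(0, 4), (4, 6), (6, 7), (7, 8), (8, 3), (3, 5)],
     [(0, 2), (1, 8), (8, 3), (3, 6), (6, 4), (4, 7)],
     [(0, 8), (8, 3), (3, 6), (6, 4), (4, 7), (7, 1), (1, 5), (5, 2)],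
     [(0, 5), (5, 6), (6, 7), (7, 8), (8, 4), (4, 1), (1, 2), (2, 3)],
     [(1, 8), (8, 4), (4, 5), (5, 2), (3, 6), (6, 7)],
     [(0, 6), (6, 3), (3, 2), (2, 5), (4, 7), (7, 8)],
     [(1, 5), (4, 6), (6, 7), (7, 8)],
     [(0, 8), (8, 4), (4, 1), (1, 5), (5, 6), (6, 7)],
     [(0, 8), (8, 4), (4, 7), (7, 3), (3, 1), (2, 6)],
     [(0, 2), (2, 7), (7, 8), (8, 3), (3, 5), (1, 6)],
     [(1, 4), (2, 6), (6, 5), (5, 7), (7, 8), (8, 3)],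
     [(0, 8), (8, 3), (1, 7), (7, 5), (5, 6), (2, 4)],
     [(0, 5), (1, 3), (3, 2), (2, 7), (7, 8), (8, 4)],
     [(0, 5), (1, 3), (3, 7), (7, 8), (8, 4), (4, 6)],
     [(1, 8), (8, 4), (4, 7), (2, 5)]],
    [[(0, 7), (7, 8), (8, 3), (3, 5), (1, 6), (6, 2)],
     [(0, 5), (5, 7), (7, 8), (8, 3), (3, 4), (4, 2)],
     [(0, 8), (8, 3), (3, 6), (6, 1), (1, 5), (4, 7)],
     [(0, 8), (8, 3), (3, 6), (6, 4), (4, 7), (7, 1)],
     [(0, 8), (8, 4), (4, 1), (1, 2), (3, 5), (6, 7)],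
     [(0, 5), (5, 2), (2, 6), (6, 3), (3, 8), (8, 4), (4, 7), (7, 1)],
     [(0, 5), (5, 2), (2, 8), (8, 4), (4, 6), (6, 3), (3, 7), (7, 1)],
     [(0, 8), (8, 3), (3, 2), (2, 6), (4, 7), (7, 5)],
     [(0, 2), (2, 8), (8, 3), (3, 4), (4, 7), (7, 5), (5, 1), (1, 6)],
     [(0, 2), (2, 1), (1, 3), (4, 6), (6, 8), (5, 7)],
     [(0, 2), (2, 1), (1, 3), (4, 6), (6, 7), (7, 8)],
     [(0, 7), (7, 8), (8, 4), (4, 2), (1, 5), (5, 3)],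
     [(0, 5), (5, 6), (6, 7), (7, 8), (8, 4), (1, 3)],
     [(0, 5), (5, 1), (1, 3), (2, 7), (7, 8), (8, 4)],
     [(0, 7), (7, 8), (8, 4), (4, 1), (1, 6), (2, 5)],
     [(0, 2), (2, 7), (7, 8), (8, 4), (1, 3), (3, 6)],
     [(0, 8), (8, 4), (4, 5), (1, 6), (6, 2), (3, 7)],
     [(2, 4), (5, 6), (6, 7), (7, 8)],
     [(0, 8), (8, 5), (5, 6), (6, 7), (7, 1), (2, 4)],
     [(0, 6), (6, 1), (1, 2), (3, 7), (7, 8), (8, 5)],
     [(0, 5), (5, 2), (1, 7), (7, 8), (8, 4), (3, 6)],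
     [(0, 1), (1, 2), (2, 7), (7, 8), (8, 4), (5, 6)],
     [(0, 3), (3, 2), (2, 5), (5, 1), (1, 6), (6, 8), (8, 4), (4, 7)],
     [(1, 3), (2, 7), (4, 8), (5, 6)],
     [(0, 3), (1, 8), (8, 4), (4, 7), (7, 5), (2, 6)],
     [(0, 3), (3, 6), (6, 1), (1, 7), (7, 8), (8, 4)],
     [(0, 5), (5, 6), (6, 7), (7, 1), (2, 8), (8, 4)],
     [(2, 8), (8, 5), (5, 7), (7, 6), (6, 3), (3, 4)],
     [(0, 1), (1, 8), (8, 5), (5, 7), (7, 6), (6, 3), (3, 4), (4, 2)],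
     [(0, 8), (8, 5), (5, 7), (7, 6), (6, 3), (3, 4), (4, 2), (2, 1)],
     [(0, 4), (4, 6), (1, 3), (3, 7), (7, 8), (8, 5)],
     [(0, 4), (1, 3), (3, 7), (7, 8), (8, 5), (5, 6)]],
    [[(0, 6), (6, 2), (2, 4), (4, 1), (1, 8), (8, 5)],
     [(0, 8), (8, 4), (4, 7), (7, 5), (5, 3), (3, 6), (6, 1), (1, 2)],
     [(0, 2), (2, 8), (8, 4), (4, 7), (7, 5), (5, 3), (3, 6), (6, 1)],
     [(0, 8), (8, 4), (4, 5), (5, 1), (3, 6), (6, 7)],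
     [(0, 8), (8, 4), (4, 7), (7, 2), (2, 3), (3, 5)],
     [(0, 8), (8, 4), (4, 7), (7, 1), (1, 2), (2, 5)],
     [(0, 2), (2, 1), (1, 6), (6, 3), (3, 5), (5, 7), (7, 8), (8, 4)],
     [(0, 1), (1, 5), (5, 3), (3, 2), (2, 6), (6, 7), (7, 8), (8, 4)],
     [(0, 8), (8, 4), (4, 2), (2, 3), (3, 7), (7, 6)],
     [(0, 6), (1, 8), (8, 4), (4, 3), (3, 5), (5, 7)],
     [(1, 3), (3, 2), (2, 4), (5, 6), (6, 7), (7, 8)],
     [(0, 8), (8, 5), (5, 3), (3, 6), (6, 4), (4, 7), (7, 2), (2, 1)],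
     [(0, 7), (7, 8), (8, 5), (5, 4), (4, 2), (2, 6), (6, 3), (3, 1)],
     [(0, 2), (2, 7), (7, 8), (8, 4), (4, 1), (5, 6)],
     [(0, 8), (8, 4), (4, 5), (1, 2), (3, 6), (6, 7)],
     [(0, 4), (1, 3), (3, 2), (5, 6), (6, 7), (7, 8)],
     [(0, 4), (4, 1), (1, 3), (3, 7), (7, 6), (6, 8), (8, 5), (5, 2)],
     [(0, 6), (6, 8), (8, 5), (5, 4), (4, 3), (3, 2), (2, 1), (1, 7)],
     [(0, 2), (2, 1), (1, 3), (5, 6), (6, 7), (7, 8)],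
     [(0, 8), (8, 5), (5, 6), (6, 7)],
     [(1, 8), (8, 5), (5, 6), (6, 7)],
     [(0, 2), (2, 1), (1, 8), (8, 4), (3, 5), (6, 7)],
     [(0, 5), (5, 2), (2, 8), (8, 4), (4, 7), (3, 6)],
     [(0, 4), (4, 1), (1, 3), (5, 6), (6, 7), (7, 8)],
     [(0, 8), (8, 5), (5, 6), (6, 7), (1, 2), (2, 4)],
     [(0, 7), (2, 3), (3, 4), (5, 8)],
     [(0, 6), (6, 4), (4, 2), (2, 1), (1, 8), (8, 5), (5, 3), (3, 7)],
     [(0, 6), (6, 4), (4, 2), (2, 7), (7, 8), (8, 5), (5, 3), (3, 1)],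
     [(0, 4), (4, 6), (6, 2), (3, 7), (7, 8), (8, 5)],
     [(0, 8), (8, 5), (5, 1), (1, 2), (2, 4), (3, 7)],
     [(0, 4), (4, 3), (3, 2), (2, 8), (8, 5), (5, 6), (6, 7), (7, 1)],
     [(0, 6), (6, 3), (3, 1), (2, 5), (4, 7), (7, 8)]],
    [[(0, 4), (4, 7), (7, 8), (8, 5), (5, 3), (3, 6), (6, 2), (2, 1)],
     [(0, 8), (8, 5), (1, 4), (4, 2), (2, 7), (7, 6)],
     [(0, 7), (7, 8), (8, 6), (6, 3), (1, 4), (2, 5)],
     [(0, 4), (4, 2), (1, 7), (7, 8), (8, 6), (6, 3)],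
     [(0, 7), (7, 8), (8, 6), (6, 3), (3, 1), (1, 4), (4, 2), (2, 5)],
     [(0, 5), (5, 7), (7, 8), (8, 6), (6, 3), (1, 4)],
     [(0, 2), (2, 5), (5, 1), (1, 7), (7, 8), (8, 6), (6, 3), (3, 4)],
     [(0, 3), (3, 7), (7, 4), (4, 1), (1, 8), (8, 6), (6, 5), (5, 2)],
     [(0, 8), (8, 5), (5, 2), (2, 1), (1, 4), (4, 6), (6, 3), (3, 7)],
     [(0, 8), (8, 5), (1, 4), (4, 7), (7, 3), (3, 6)],
     [(3, 6), (5, 8)],
     [(0, 8), (8, 5), (5, 6), (6, 7), (7, 2), (2, 3)],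
     [(0, 4), (4, 2), (2, 7), (7, 8), (8, 5), (1, 6)],
     [(0, 1), (1, 8), (8, 5), (5, 6), (6, 4), (4, 2), (2, 3), (3, 7)],
     [(0, 8), (8, 5), (5, 6), (6, 4), (4, 2), (2, 3), (3, 7), (7, 1)],
     [(0, 5), (5, 8), (8, 4), (4, 6), (6, 1), (2, 7)],
     [(0, 4), (4, 2), (2, 1), (5, 6), (6, 7), (7, 8)],
     [(0, 8), (8, 5), (5, 6), (6, 4), (4, 2), (2, 1), (1, 3), (3, 7)],
     [(0, 7), (7, 8), (8, 6), (1, 2), (2, 3), (3, 5)],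
     [(0, 7), (7, 8), (8, 6), (6, 1), (1, 2), (2, 5)],
     [(0, 4), (4, 1), (1, 8), (8, 6), (6, 2), (2, 5)],
     [(0, 8), (8, 5), (5, 2), (1, 4), (4, 7), (3, 6)],
     [(0, 6), (6, 4), (2, 7), (7, 8), (8, 5), (5, 3)],
     [(0, 3), (3, 4), (4, 1), (1, 2), (2, 5), (6, 8)],
     [(0, 3), (3, 4), (4, 1), (1, 2), (2, 5), (5, 7), (7, 8), (8, 6)],
     [(0, 3), (3, 4), (4, 7), (7, 8), (8, 6), (6, 1), (1, 2), (2, 5)],
     [(0, 7), (7, 8), (8, 6), (6, 1), (1, 5), (2, 4)],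
     [(0, 4), (1, 3), (3, 5), (2, 7), (7, 8), (8, 6)],
     [(0, 7), (7, 4), (4, 1), (1, 5), (5, 2), (2, 8), (8, 6), (6, 3)],
     [(0, 4), (2, 6), (6, 7), (7, 8), (8, 5), (5, 3)],
     [(0, 8), (8, 5), (5, 6), (6, 4), (4, 2), (2, 7), (7, 1), (1, 3)],
     [(0, 7), (7, 8), (8, 6), (1, 2), (2, 5), (3, 4)]],
    [[(0, 5), (1, 4), (4, 3), (3, 7), (7, 8), (8, 6)],
     [(0, 4), (1, 5), (5, 3), (2, 7), (7, 8), (8, 6)],
     [(0, 8), (8, 5), (5, 1), (1, 6), (6, 7), (7, 2)],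
     [(0, 7), (2, 8), (8, 6), (6, 5), (5, 4), (4, 3)],
     [(0, 7), (7, 8), (8, 6), (6, 2), (2, 1), (3, 5)],
     [(0, 4), (4, 7), (7, 8), (8, 5), (5, 1), (1, 2), (2, 3), (3, 6)],
     [(0, 2), (2, 6), (5, 7), (7, 8)],
     [(0, 8), (8, 6), (1, 4), (2, 7), (7, 5), (5, 3)],
     [(0, 4), (1, 8), (8, 6), (2, 7), (7, 5), (5, 3)],
     [(0, 2), (2, 4), (4, 8), (8, 7), (7, 1), (1, 3)],
     [(0, 6), (6, 5), (5, 4), (1, 2), (2, 3), (7, 8)],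
     [(0, 1), (1, 2), (2, 8), (8, 7), (3, 5), (4, 6)],
     [(0, 3), (3, 6), (6, 1), (1, 2), (2, 5), (7, 8)],
     [(0, 8), (8, 7), (7, 6), (6, 5), (5, 2), (2, 4), (4, 1), (1, 3)],
     [(0, 6), (6, 2), (2, 4), (4, 3), (1, 5), (7, 8)],
     [(0, 3), (3, 5), (5, 2), (1, 7), (7, 8), (8, 6)],
     [(0, 7), (7, 8), (8, 6), (6, 2), (1, 3), (3, 5)],
     [(0, 4), (4, 3), (3, 2), (2, 1), (1, 8), (8, 6), (6, 5), (5, 7)],
     [(0, 8), (8, 6), (6, 5), (5, 2), (2, 4), (1, 3)],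
     [(0, 5), (5, 2), (2, 1), (3, 6), (4, 7), (7, 8)],
     [(0, 7), (7, 8), (8, 6), (6, 4), (4, 1), (1, 3)],
     [(0, 7), (7, 8), (8, 6), (6, 4), (1, 3), (3, 5)],
     [(0, 4), (4, 1), (1, 8), (8, 5), (5, 6), (6, 7)],
     [(0, 2), (2, 4), (1, 3), (5, 6), (6, 7), (7, 8)],
     [(1, 6), (6, 4), (4, 3), (3, 2), (2, 7), (5, 8)],
     [(0, 4), (4, 2), (2, 3), (3, 7), (7, 6), (5, 8)],
     [(0, 7), (7, 8), (8, 6), (1, 3), (3, 4), (4, 5)],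
     [(0, 1), (1, 5), (5, 4), (2, 8), (8, 6), (6, 3)],
     [(0, 6), (6, 2), (2, 1), (1, 4), (4, 8), (8, 7), (7, 5), (5, 3)],
     [(0, 6), (1, 4), (4, 2), (2, 8), (8, 7), (7, 5)],
     [(0, 6), (6, 3), (3, 1), (1, 4), (2, 5), (7, 8)],
     [(0, 7), (7, 8), (8, 6), (6, 3), (3, 5), (5, 2)]],
    [[(0, 7), (1, 2), (2, 8), (8, 6), (6, 5), (5, 4)],
     [(0, 6), (1, 5), (2, 4), (7, 8)],
     [(0, 1), (2, 6), (3, 5), (7, 8)],
     [(0, 4), (1, 3), (3, 5), (5, 2), (2, 6), (7, 8)],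
     [(0, 3), (3, 4), (1, 2), (2, 5), (6, 8), (8, 7)],
     [(0, 2), (7, 8)],
     [(0, 2), (2, 5), (5, 1), (3, 4), (6, 8), (8, 7)],
     [(0, 7), (7, 8), (8, 6), (6, 1), (1, 3), (3, 5)],
     [(0, 3), (3, 5), (5, 1), (1, 7), (7, 8), (8, 6)],
     [(0, 3), (2, 7), (7, 4), (4, 8), (8, 6), (6, 5)],
     [(0, 8), (8, 7), (7, 5), (5, 2), (2, 4), (1, 3)],
     [(0, 6), (6, 3), (3, 4), (4, 1), (1, 5), (7, 8)],
     [(0, 5), (1, 6), (6, 2), (2, 4), (4, 3), (7, 8)],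
     [(0, 8), (8, 6), (6, 2), (2, 4), (1, 3), (5, 7)],
     [(0, 3), (3, 2), (2, 5), (5, 7), (1, 4), (6, 8)],
     [(0, 7), (7, 3), (1, 2), (2, 8), (8, 6), (6, 4)],
     [(0, 3), (3, 1), (2, 6), (6, 5), (4, 8), (8, 7)],
     [(0, 6), (6, 1), (1, 2), (2, 5), (3, 4), (7, 8)],
     [(0, 7), (7, 8), (8, 6), (6, 2), (2, 3), (3, 5), (5, 1), (1, 4)],
     [(0, 7), (7, 5), (5, 2), (1, 4), (4, 3), (6, 8)],
     [(0, 7), (7, 4), (4, 8), (8, 6), (6, 5), (5, 2), (2, 1), (1, 3)],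
     [(0, 8), (8, 7), (7, 5), (5, 6), (1, 3), (2, 4)],
     [(0, 3), (3, 2), (2, 4), (4, 1), (1, 8), (8, 7), (7, 5), (5, 6)],
     [(0, 4), (4, 6), (6, 5), (1, 2), (2, 3), (3, 7)],
     [(0, 2), (2, 1), (1, 3), (3, 5), (5, 7), (7, 6)],
     [(0, 1), (1, 5), (5, 3), (3, 7), (2, 6), (6, 4)],
     [(0, 2), (2, 3), (3, 4), (4, 1)],
     [(1, 3), (3, 4)],
     [(0, 8), (8, 7), (7, 3), (3, 2), (1, 4), (5, 6)],
     [(0, 8), (8, 7), (7, 5), (5, 3), (3, 6), (6, 2), (2, 1), (1, 4)],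
     [(0, 3), (3, 1), (1, 2), (2, 6), (6, 4), (7, 8)],
     [(1, 4), (4, 7), (2, 8), (8, 5)]],
    [[(0, 6), (6, 4), (1, 3), (7, 8)],
     [(0, 4), (4, 1), (1, 8), (8, 7), (7, 5), (5, 3), (3, 2), (2, 6)],
     [(0, 7), (7, 8), (8, 6), (6, 1), (1, 2), (2, 3), (3, 4), (4, 5)],
     [(0, 8), (8, 6), (6, 2), (2, 7), (7, 5), (5, 3), (3, 1), (1, 4)],
     [(0, 7), (7, 5), (2, 8), (8, 6)],
     [(0, 8), (8, 7), (7, 5), (5, 3), (3, 2), (2, 6), (6, 1), (1, 4)],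
     [(0, 6), (6, 4), (1, 2), (2, 3), (3, 5), (7, 8)],
     [(0, 2), (2, 6), (6, 7), (7, 5)],
     [(1, 4), (4, 2), (3, 6), (6, 5)],
     [(0, 3), (3, 6), (6, 7), (7, 5)],
     [(0, 8), (8, 7), (7, 5), (5, 6), (6, 2), (2, 4), (4, 1), (1, 3)],
     [(0, 4), (4, 1), (2, 8), (8, 7), (7, 3), (5, 6)],
     [(0, 1), (1, 2)],
     [(1, 2), (2, 3)],
     [(0, 1), (1, 2), (2, 3), (3, 4), (4, 5), (5, 6)],
     [(0, 2), (2, 1), (1, 3), (3, 4), (4, 5), (5, 6)],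
     [(0, 1), (1, 3), (3, 2), (2, 4), (4, 5), (5, 6)],
     [(0, 8), (8, 7), (1, 4), (4, 5), (2, 3), (3, 6)],
     [(0, 6), (6, 4), (4, 1), (1, 3), (3, 5), (7, 8)],
     [(0, 3), (3, 5), (5, 2), (2, 6), (6, 1), (7, 8)],
     [(0, 1), (1, 3), (3, 4), (4, 2)],
     [(0, 1), (1, 2), (2, 4), (4, 3)],
     [(0, 3), (3, 4), (4, 2), (2, 1)],
     [(0, 3), (3, 5), (1, 6), (7, 8)],
     [(0, 2), (2, 5), (1, 6), (6, 3), (3, 4), (7, 8)],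
     [(0, 6), (6, 5), (5, 2), (1, 3), (4, 8), (8, 7)],
     [(0, 3), (3, 4), (4, 5), (5, 6), (6, 2), (2, 1)],
     [(1, 2), (3, 4), (4, 5), (5, 6)],
     [(0, 6), (6, 2), (2, 8), (8, 7), (7, 1), (3, 5)],
     [(0, 6), (6, 8), (8, 7), (7, 5), (5, 2), (1, 4)],
     [(0, 3), (3, 6), (6, 2), (2, 5), (5, 4), (4, 8), (8, 7), (7, 1)],
     [(0, 7), (7, 1), (1, 3), (3, 5)]],
    [[(1, 4), (4, 6), (6, 2), (2, 5)],
     [(1, 3), (3, 5), (5, 7), (7, 6)],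
     [(0, 6), (6, 1), (1, 3), (2, 5), (5, 7), (7, 4)],
     [(0, 3), (3, 5), (5, 1), (1, 4), (4, 6), (6, 2)],
     [(0, 3), (2, 5), (4, 7), (7, 6)],
     [(0, 5), (5, 4), (3, 7), (6, 8)],
     [(0, 3), (3, 6), (6, 4), (1, 2)],
     [(0, 2), (2, 3), (3, 7), (1, 4), (4, 6), (6, 5)],
     [(0, 2), (2, 8), (8, 7), (7, 1)],
     [(0, 1), (1, 4), (4, 5), (2, 3), (3, 6), (7, 8)],
     [(0, 2), (2, 1), (1, 8), (8, 7), (3, 5), (4, 6)],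
     [(0, 2), (2, 6), (6, 3), (3, 4)],
     [(0, 4), (4, 5), (3, 6), (6, 7)],
     [(0, 1), (1, 4), (4, 3), (3, 6), (6, 7), (7, 5)],
     [(1, 2), (2, 6), (6, 7), (7, 5)],
     [(0, 4), (4, 2), (3, 6), (6, 5)],
     [(0, 3), (3, 1), (1, 6), (2, 5), (5, 7), (7, 4)],
     [(0, 1), (1, 5), (3, 7), (7, 4)],
     [(0, 1), (1, 2), (2, 3), (3, 6), (4, 7), (7, 5)],
     [(0, 1), (1, 3), (3, 6), (6, 4)],
     [(1, 2), (3, 4)],
     [(0, 1), (1, 4), (4, 2), (3, 5)],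
     [(0, 2), (2, 3), (3, 6), (6, 1), (4, 7), (7, 5)],
     [(0, 3), (3, 1), (4, 5), (5, 6)],
     [(0, 4), (4, 1), (2, 5), (3, 6)],
     [(0, 3), (1, 8), (8, 7), (7, 5), (5, 6), (2, 4)],
     [(1, 4), (4, 3), (3, 7), (7, 5)],
     [(1, 3), (3, 6), (4, 7), (7, 5)],
     [(1, 2), (2, 6), (6, 3), (3, 4)],
     [(1, 4), (4, 5), (3, 6), (6, 7)],
     [(0, 6), (6, 2), (2, 3), (3, 5), (5, 1), (7, 8)],
     [(0, 5), (5, 3), (1, 4), (2, 8), (8, 7), (7, 6)]],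
    [[(0, 3), (3, 4), (1, 2), (2, 5), (5, 6), (7, 8)],
     [(0, 6), (2, 3), (3, 5), (7, 8)],
     [(0, 6), (6, 5), (5, 1), (1, 2), (2, 3), (7, 8)],
     [(0, 6), (6, 7), (7, 3), (3, 2), (2, 4), (1, 5)],
     [(0, 3), (3, 2), (2, 5), (5, 1), (4, 7), (7, 6)],
     [(0, 3), (3, 5), (5, 1), (1, 2), (2, 6), (7, 8)],
     [(0, 6), (6, 1), (1, 2), (2, 3), (3, 5), (7, 8)],
     [(1, 6), (6, 3), (3, 2), (2, 4), (4, 8), (8, 7)],
     [(0, 4), (4, 1), (1, 2), (2, 5)],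
     [(2, 3), (3, 4)],
     [(0, 2), (2, 6), (6, 5), (5, 1), (1, 3), (7, 8)],
     [(0, 1), (1, 3), (3, 5), (5, 2), (2, 6), (7, 8)],
     [(0, 6), (1, 2), (2, 5), (7, 8)],
     [(0, 8), (8, 7), (7, 4), (1, 5), (5, 3), (2, 6)],
     [(0, 5), (5, 1), (1, 4), (4, 3), (2, 6), (7, 8)],
     [(1, 3), (3, 4), (4, 5), (5, 6)],
     [(0, 1), (2, 6), (6, 3), (3, 4)]]]
  Ks := [[(12, 1), (13, 1)], [(14, 1), (15, 1)], [(0, 1), (23, 1)]]
  steps := [[([(1, 1), (2, 1), (3, 1)], .kill 2 [([], [(3, 139), (1, 156), (2, 0)]), ([], [(2, 129), (3, 8), (1, 180)])]),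
     ([(4, 1), (5, 1), (6, 1)], .tr 0 1 [(5, 178), (4, 107), (6, 137)]),
     ([(7, 1), (8, 1), (9, 1)], .tr 1 0 [(9, 169), (7, 45), (8, 165)]),
     ([(10, 1), (11, 1), (12, 1)], .tr 1 1 [(12, 101), (10, 109), (11, 92)]),
     ([(13, 1), (14, 1), (15, 1)], .tr 2 0 [(15, 93), (14, 165), (13, 28)]),
     ([(16, 1), (17, 1), (18, 1)], .tr 2 1 [(16, 88), (18, 132), (17, 14)]),
     ([(19, 1), (20, 1), (21, 1)], .tr 3 0 [(19, 148), (20, 20), (21, 14)]),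
     ([(22, 1), (23, 1), (24, 1)], .tr 3 1 [(22, 2), (24, 50), (23, 130)]),
     ([(25, 1), (26, 1), (27, 1)], .tr 4 1 [(26, 61), (27, 40), (25, 134)]),
     ([(28, 1), (29, 1), (30, 1)], .tr 5 0 [(28, 70), (29, 52), (30, 50)]),
     ([(31, 1), (32, 1), (33, 1)], .tr 5 1 [(31, 170), (33, 30), (32, 145)]),
     ([(34, 1), (35, 1), (36, 1)], .tr 6 0 [(34, 7), (36, 49), (35, 0)]),
     ([(37, 1), (38, 1), (39, 1)], .tr 6 1 [(37, 143), (38, 115), (39, 57)]),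
     ([(40, 1), (41, 1), (42, 1)], .tr 7 0 [(40, 0), (41, 165), (42, 100)]),
     ([(43, 1), (44, 1), (45, 1)], .tr 7 1 [(43, 0), (44, 10), (45, 170)]),
     ([(46, 1), (47, 1), (48, 1)], .tr 8 1 [(48, 70), (47, 105), (46, 168)]),
     ([(49, 1), (50, 1), (51, 1)], .tr 10 0 [(49, 0), (51, 137), (50, 41)]),
     ([(52, 1), (53, 1), (54, 1)], .tr 10 1 [(53, 66), (52, 86), (54, 95)]),
     ([(55, 1), (56, 1), (57, 1)], .tr 11 1 [(56, 29), (55, 125), (57, 16)]),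
     ([(58, 1), (59, 1), (60, 1)], .tr 12 0 [(58, 0), (59, 8), (60, 62)]),
     ([(61, 1), (62, 1), (63, 1)], .tr 12 1 [(62, 77), (61, 38), (63, 18)]),
     ([(64, 1), (65, 1), (66, 1)], .tr 13 0 [(66, 89), (64, 0), (65, 0)]),
     ([(67, 1), (68, 1), (69, 1)], .tr 13 1 [(67, 25), (68, 38), (69, 134)]),
     ([(70, 1), (71, 1), (72, 1)], .tr 14 0 [(70, 0), (72, 0), (71, 88)]),
     ([(73, 1), (74, 1), (75, 1)], .tr 15 0 [(73, 126), (74, 127), (75, 17)]),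
     ([(76, 1), (77, 1), (78, 1)], .tr 16 1 [(77, 96), (78, 101), (76, 86)]),
     ([(79, 1), (80, 1), (81, 1)], .tr 17 0 [(79, 93), (80, 63), (81, 0)]),
     ([(82, 1), (83, 1), (84, 1)], .tr 17 1 [(83, 66), (82, 74), (84, 43)]),
     ([(85, 1), (86, 1), (87, 1)], .tr 18 0 [(85, 0), (86, 134), (87, 119)]),
     ([(49, 1), (88, 1), (89, 1)], .tr 18 1 [(89, 80), (88, 133), (49, 137)]),
     ([(90, 1), (91, 1), (92, 1)], .tr 19 0 [(90, 20), (91, 8), (92, 0)]),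
     ([(93, 1), (94, 1), (95, 1)], .tr 20 1 [(95, 134), (93, 177), (94, 63)])],
    [([(96, 1), (97, 1), (98, 1)], .tr 21 1 [(98, 0), (97, 58), (96, 76)]),
     ([(99, 1), (100, 1), (101, 1)], .tr 22 1 [(99, 76), (101, 121), (100, 136)]),
     ([(102, 1), (103, 1), (104, 1)], .tr 23 1 [(102, 33), (104, 113), (103, 111)]),
     ([(105, 1), (106, 1), (107, 1)], .tr 24 0 [(105, 181), (106, 100), (107, 110)]),
     ([(108, 1), (109, 1), (110, 1)], .tr 24 1 [(108, 154), (109, 147), (110, 83)]),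
     ([(111, 1), (112, 1), (113, 1)], .tr 25 1 [(112, 177), (111, 6), (113, 63)]),
     ([(114, 1), (115, 1), (116, 1)], .tr 26 1 [(114, 93), (115, 28), (116, 32)]),
     ([(117, 1), (118, 1), (119, 1)], .tr 27 1 [(119, 149), (118, 42), (117, 6)]),
     ([(120, 1), (121, 1), (122, 1)], .tr 28 1 [(120, 114), (122, 115), (121, 107)]),
     ([(123, 1), (124, 1), (77, 1)], .tr 29 1 [(77, 96), (124, 142), (123, 93)]),
     ([(125, 1), (126, 1), (127, 1)], .tr 30 1 [(127, 0), (126, 17), (125, 75)]),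
     ([(128, 1), (129, 1), (130, 1)], .tr 31 1 [(129, 156), (130, 129), (128, 78)]),
     ([(131, 1), (132, 1), (133, 1)], .tr 32 0 [(133, 0), (132, 1), (131, 25)]),
     ([(134, 1), (135, 1), (136, 1)], .tr 33 0 [(134, 0), (136, 0), (135, 55)]),
     ([(137, 1), (138, 1), (139, 1)], .tr 33 1 [(139, 22), (137, 24), (138, 81)]),
     ([(140, 1), (141, 1), (142, 1)], .tr 34 1 [(142, 8), (141, 64), (140, 23)]),
     ([(136, 1), (143, 1), (144, 1)], .tr 35 1 [(144, 81), (143, 163), (136, 111)]),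
     ([(145, 1), (146, 1), (147, 1)], .tr 36 1 [(146, 118), (147, 127), (145, 4)]),
     ([(148, 1), (149, 1), (150, 1)], .tr 37 1 [(149, 166), (150, 10), (148, 140)]),
     ([(151, 1), (152, 1), (153, 1)], .tr 38 1 [(152, 85), (153, 122), (151, 121)]),
     ([(154, 1), (155, 1), (156, 1)], .tr 39 0 [(156, 140), (155, 0), (154, 80)]),
     ([(157, 1), (158, 1), (159, 1)], .tr 39 1 [(159, 178), (158, 10), (157, 63)]),
     ([(160, 1), (156, 1), (161, 1)], .tr 40 1 [(161, 100), (160, 35), (156, 63)]),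
     ([(162, 1), (111, 1), (163, 1)], .tr 41 1 [(162, 153), (163, 157), (111, 6)]),
     ([(164, 1), (165, 1), (166, 1)], .tr 42 1 [(165, 114), (164, 88), (166, 132)]),
     ([(111, 1), (167, 1), (168, 1)], .tr 43 0 [(111, 0), (167, 0), (168, 16)]),
     ([(169, 1), (170, 1), (171, 1)], .tr 44 1 [(171, 12), (169, 15), (170, 113)]),
     ([(172, 1), (173, 1), (174, 1)], .tr 45 1 [(174, 169), (173, 12), (172, 65)]),
     ([(151, 1), (175, 1), (176, 1)], .tr 46 0 [(151, 11), (176, 112), (175, 0)]),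
     ([(177, 1), (178, 1), (179, 1)], .tr 47 1 [(178, 156), (179, 32), (177, 126)]),
     ([(172, 1), (180, 1), (181, 1)], .tr 48 1 [(172, 65), (181, 180), (180, 141)]),
     ([(182, 1), (183, 1), (184, 1)], .tr 49 1 [(182, 2), (183, 1), (184, 109)])],
    [([(185, 1), (186, 1), (166, 1)], .tr 50 0 [(166, 142), (185, 143), (186, 125)]),
     ([(187, 1), (188, 1), (189, 1)], .tr 50 1 [(189, 122), (187, 83), (188, 40)]),
     ([(190, 1), (191, 1), (192, 1)], .tr 51 1 [(190, 99), (191, 103), (192, 40)]),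
     ([(193, 1), (194, 1), (195, 1)], .tr 52 1 [(194, 159), (193, 55), (195, 83)]),
     ([(173, 1), (196, 1), (197, 1)], .tr 53 0 [(173, 0), (197, 150), (196, 1)]),
     ([(198, 1), (195, 1), (199, 1)], .tr 54 1 [(199, 168), (195, 83), (198, 23)]),
     ([(200, 1), (149, 1), (201, 1)], .tr 55 1 [(200, 61), (149, 166), (201, 55)]),
     ([(202, 1), (203, 1), (204, 1)], .tr 56 1 [(202, 22), (204, 53), (203, 8)]),
     ([(205, 1), (206, 1), (149, 1)], .tr 57 1 [(149, 166), (205, 27), (206, 36)]),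
     ([(207, 1), (208, 1), (209, 1)], .tr 58 1 [(207, 10), (209, 133), (208, 55)]),
     ([(210, 1), (211, 1), (212, 1)], .tr 59 1 [(212, 177), (211, 81), (210, 36)]),
     ([(213, 1), (214, 1), (199, 1)], .tr 60 0 [(199, 7), (213, 24), (214, 90)]),
     ([(215, 1), (190, 1), (216, 1)], .tr 60 1 [(190, 99), (215, 116), (216, 176)]),
     ([(207, 1), (191, 1), (217, 1)], .tr 61 0 [(207, 2), (191, 182), (217, 134)]),
     ([(218, 1), (219, 1), (212, 1)], .tr 62 1 [(212, 177), (218, 0), (219, 117)]),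
     ([(220, 1), (221, 1), (222, 1)], .tr 63 1 [(221, 30), (220, 51), (222, 33)]),
     ([(140, 1), (193, 1), (223, 1)], .tr 64 0 [(193, 166), (223, 118), (140, 172)]),
     ([(224, 1), (225, 1), (203, 1)], .tr 64 1 [(225, 10), (224, 34), (203, 8)]),
     ([(226, 1), (227, 1), (228, 1)], .tr 65 1 [(226, 164), (228, 164), (227, 76)]),
     ([(229, 1), (230, 1), (231, 1)], .tr 66 1 [(230, 68), (229, 78), (231, 155)]),
     ([(232, 1), (233, 1), (234, 1)], .tr 67 1 [(232, 135), (233, 36), (234, 70)]),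
     ([(211, 1), (235, 1), (236, 1)], .tr 68 1 [(211, 81), (236, 87), (235, 49)]),
     ([(137, 1), (200, 1), (184, 1)], .tr 69 0 [(184, 155), (200, 142), (137, 47)]),
     ([(237, 1), (238, 1), (234, 1)], .tr 69 1 [(237, 31), (234, 70), (238, 180)]),
     ([(239, 1), (206, 1), (185, 1)], .tr 70 0 [(206, 151), (185, 143), (239, 60)]),
     ([(240, 1), (237, 1), (241, 1)], .tr 71 0 [(240, 2), (237, 29), (241, 173)]),
     ([(242, 1), (243, 1), (244, 1)], .tr 71 1 [(242, 169), (244, 28), (243, 154)]),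
     ([(245, 1), (246, 1), (187, 1)], .tr 72 1 [(245, 144), (246, 162), (187, 83)]),
     ([(247, 1), (248, 1), (249, 1)], .tr 73 1 [(248, 54), (249, 68), (247, 170)]),
     ([(250, 1), (251, 1), (252, 1)], .tr 74 1 [(252, 59), (250, 169), (251, 99)]),
     ([(253, 1), (238, 1), (254, 1)], .tr 75 1 [(253, 169), (254, 102), (238, 180)]),
     ([(230, 1), (255, 1), (256, 1)], .tr 76 1 [(255, 69), (230, 68), (256, 63)])],
    [([(248, 1), (229, 1), (257, 1)], .tr 77 1 [(248, 54), (229, 78), (257, 158)]),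
     ([(246, 1), (258, 1), (235, 1)], .tr 78 0 [(258, 51), (246, 0), (235, 1)]),
     ([(251, 1), (259, 1), (260, 1)], .tr 78 1 [(260, 142), (259, 0), (251, 99)]),
     ([(261, 1), (262, 1), (189, 1)], .tr 79 0 [(261, 47), (262, 80), (189, 72)]),
     ([(232, 1), (241, 1), (178, 1)], .tr 80 1 [(178, 156), (232, 135), (241, 49)]),
     ([(263, 1), (264, 1), (244, 1)], .tr 81 1 [(264, 168), (263, 144), (244, 28)]),
     ([(265, 1), (266, 1), (267, 1)], .tr 82 1 [(265, 6), (267, 26), (266, 138)]),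
     ([(268, 1), (269, 1), (270, 1)], .tr 83 1 [(270, 25), (269, 116), (268, 21)]),
     ([(271, 1), (272, 1), (273, 1)], .tr 84 1 [(272, 30), (271, 53), (273, 76)]),
     ([(250, 1), (274, 1), (2, 1)], .tr 85 1 [(250, 169), (274, 96), (2, 73)]),
     ([(275, 1), (151, 1), (206, 1)], .tr 86 0 [(151, 11), (206, 151), (275, 160)]),
     ([(276, 1), (277, 1), (273, 1)], .tr 87 1 [(276, 68), (277, 21), (273, 76)]),
     ([(246, 1), (278, 1), (225, 1)], .tr 88 1 [(278, 52), (246, 162), (225, 10)]),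
     ([(279, 1), (280, 1), (281, 1)], .tr 89 0 [(279, 2), (281, 96), (280, 102)]),
     ([(282, 1), (276, 1), (283, 1)], .tr 89 1 [(282, 128), (276, 68), (283, 164)]),
     ([(284, 1), (285, 1), (286, 1)], .tr 90 1 [(284, 120), (286, 138), (285, 182)]),
     ([(226, 1), (287, 1), (288, 1)], .tr 91 1 [(287, 58), (288, 0), (226, 164)]),
     ([(289, 1), (290, 1), (291, 1)], .tr 92 1 [(289, 2), (290, 96), (291, 19)]),
     ([(292, 1), (293, 1), (294, 1)], .tr 93 1 [(294, 89), (293, 40), (292, 55)]),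
     ([(295, 1), (296, 1), (277, 1)], .tr 94 1 [(296, 34), (277, 21), (295, 40)]),
     ([(249, 1), (231, 1), (297, 1)], .tr 95 0 [(231, 75), (249, 62), (297, 171)]),
     ([(269, 1), (298, 1), (299, 1)], .tr 95 1 [(269, 116), (299, 154), (298, 139)]),
     ([(300, 1), (290, 1), (270, 1)], .tr 96 1 [(290, 96), (270, 25), (300, 119)]),
     ([(301, 1), (274, 1), (288, 1)], .tr 97 1 [(288, 0), (301, 180), (274, 96)]),
     ([(302, 1), (303, 1), (252, 1)], .tr 98 0 [(252, 182), (303, 19), (302, 169)]),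
     ([(293, 1), (304, 1), (305, 1)], .tr 98 1 [(293, 40), (304, 120), (305, 104)]),
     ([(227, 1), (306, 1), (307, 1)], .tr 99 1 [(306, 97), (307, 71), (227, 76)]),
     ([(272, 1), (308, 1), (283, 1)], .tr 100 1 [(272, 30), (283, 164), (308, 84)]),
     ([(309, 1), (310, 1), (285, 1)], .tr 101 1 [(310, 134), (309, 154), (285, 182)]),
     ([(311, 1), (312, 1), (36, 1)], .tr 102 1 [(36, 3), (311, 79), (312, 142)]),
     ([(313, 1), (314, 1), (315, 1)], .tr 103 1 [(314, 155), (313, 124), (315, 167)]),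
     ([(316, 1), (317, 1), (318, 1)], .tr 104 1 [(316, 74), (317, 19), (318, 52)])],
    [([(14, 1), (4, 1), (294, 1)], .tr 105 1 [(294, 89), (14, 114), (4, 107)]),
     ([(246, 1), (190, 1), (319, 1)], .tr 106 1 [(319, 130), (190, 99), (246, 162)]),
     ([(320, 1), (321, 1), (318, 1)], .tr 107 1 [(321, 41), (320, 170), (318, 52)]),
     ([(322, 1), (263, 1), (288, 1)], .tr 108 1 [(288, 0), (322, 128), (263, 144)]),
     ([(323, 1), (302, 1), (324, 1)], .tr 109 1 [(302, 0), (324, 20), (323, 176)]),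
     ([(325, 1), (321, 1), (326, 1)], .tr 110 1 [(326, 135), (321, 41), (325, 147)]),
     ([(327, 1), (328, 1), (329, 1)], .tr 111 1 [(327, 144), (328, 158), (329, 132)]),
     ([(265, 1), (330, 1), (331, 1)], .tr 112 1 [(265, 6), (331, 76), (330, 42)]),
     ([(0, 1), (332, 1), (333, 1)], .tr 113 1 [(0, 167), (332, 174), (333, 105)]),
     ([(334, 1), (335, 1), (336, 1)], .tr 114 1 [(334, 49), (335, 20), (336, 13)]),
     ([(320, 1), (337, 1), (338, 1)], .tr 115 1 [(337, 0), (338, 134), (320, 170)]),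
     ([(268, 1), (339, 1), (291, 1)], .tr 116 1 [(291, 19), (268, 21), (339, 46)]),
     ([(340, 1), (313, 1), (341, 1)], .tr 117 1 [(313, 124), (340, 90), (341, 80)]),
     ([(332, 1), (315, 1), (342, 1)], .tr 118 1 [(342, 131), (332, 174), (315, 167)]),
     ([(14, 1), (343, 1), (330, 1)], .tr 119 1 [(343, 126), (14, 114), (330, 42)]),
     ([(292, 1), (344, 1), (345, 1)], .tr 120 1 [(345, 158), (344, 36), (292, 55)]),
     ([(335, 1), (346, 1), (347, 1)], .tr 121 1 [(335, 20), (346, 108), (347, 167)]),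
     ([(267, 1), (348, 1), (349, 1)], .tr 122 1 [(267, 26), (349, 161), (348, 178)]),
     ([(325, 1), (317, 1), (350, 1)], .tr 123 1 [(317, 19), (350, 21), (325, 147)]),
     ([(351, 1), (328, 1), (352, 1)], .tr 124 1 [(351, 169), (352, 23), (328, 158)]),
     ([(351, 1), (353, 1), (11, 1)], .tr 125 0 [(351, 94), (353, 0), (11, 56)]),
     ([(354, 1), (355, 1), (356, 1)], .tr 127 1 [(356, 34), (354, 147), (355, 174)]),
     ([(336, 1), (27, 1), (12, 1)], .tr 128 1 [(27, 40), (12, 101), (336, 13)]),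
     ([(230, 1), (357, 1), (288, 1)], .tr 129 1 [(288, 0), (230, 68), (357, 74)]),
     ([(358, 1), (359, 1), (355, 1)], .tr 130 1 [(358, 138), (359, 171), (355, 174)]),
     ([(330, 1), (360, 1), (310, 1)], .tr 131 1 [(360, 76), (310, 134), (330, 42)]),
     ([(361, 1), (345, 1), (362, 1)], .tr 132 1 [(361, 12), (345, 158), (362, 110)]),
     ([(363, 1), (359, 1), (364, 1)], .tr 133 1 [(364, 28), (359, 171), (363, 168)]),
     ([(365, 1), (366, 1), (367, 1)], .tr 134 0 [(366, 0), (365, 3), (367, 136)]),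
     ([(368, 1), (369, 1), (36, 1)], .tr 135 1 [(36, 3), (368, 89), (369, 13)]),
     ([(370, 1), (371, 1), (358, 1)], .tr 138 1 [(358, 138), (371, 65), (370, 128)]),
     ([(333, 1), (372, 1), (314, 1)], .tr 139 1 [(314, 155), (372, 172), (333, 105)])],
    [([(373, 1), (372, 1), (342, 1)], .tr 140 0 [(373, 18), (342, 21), (372, 1)]),
     ([(374, 1), (27, 1), (368, 1)], .tr 142 1 [(27, 40), (374, 159), (368, 89)]),
     ([(334, 1), (375, 1), (376, 1)], .tr 143 1 [(334, 49), (376, 179), (375, 168)]),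
     ([(28, 1), (367, 1), (312, 1)], .tr 145 1 [(312, 142), (28, 167), (367, 124)]),
     ([(373, 1), (354, 1), (364, 1)], .tr 146 1 [(364, 28), (354, 147), (373, 95)]),
     ([(330, 1), (269, 1), (377, 1)], .tr 151 1 [(269, 116), (377, 125), (330, 42)]),
     ([(378, 1), (368, 1), (352, 1)], .tr 153 1 [(368, 89), (378, 71), (352, 23)]),
     ([(353, 1), (375, 1), (379, 1)], .tr 154 1 [(353, 141), (375, 168), (379, 20)]),
     ([(380, 1), (381, 1), (311, 1)], .tr 155 0 [(380, 0), (381, 119), (311, 113)]),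
     ([(313, 1), (381, 1), (368, 1)], .tr 165 1 [(368, 89), (313, 124), (381, 83)]),
     ([(320, 1), (265, 1), (284, 1), (7, 1), (339, 1), (382, 1), (383, 1)], .kill 0 [([], [(265, 97), (7, 61), (320, 145), (383, 178), (382, 60), (284, 97), (339, 148)]), ([], [(320, 1), (265, 181), (7, 127), (284, 117), (382, 0), (339, 0), (383, 4)])]),
     ([(384, 1), (385, 1), (337, 1), (15, 1), (386, 1), (285, 1), (270, 1)], .tr 170 0 [(337, 172), (386, 156), (285, 7), (15, 93), (270, 18), (385, 0), (384, 118)]),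
     ([(327, 1), (372, 1), (16, 1), (387, 1), (358, 1), (388, 1), (36, 1)], .tr 170 1 [(358, 138), (36, 3), (327, 144), (16, 88), (372, 172), (388, 24), (387, 22)]),
     ([(389, 1), (390, 1), (338, 1), (5, 1), (304, 1), (286, 1), (391, 1)], .tr 171 0 [(304, 70), (390, 0), (338, 170), (5, 78), (391, 95), (286, 165), (389, 31)]),
     ([(392, 1), (366, 1), (28, 1), (11, 1), (376, 1), (379, 1), (356, 1)], .tr 172 0 [(366, 0), (392, 60), (28, 70), (376, 67), (379, 23), (356, 0), (11, 56)]),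
     ([(393, 1), (10, 1), (380, 1), (346, 1), (370, 1), (329, 1), (30, 1)], .tr 173 1 [(393, 172), (380, 175), (370, 128), (10, 109), (346, 108), (329, 132), (30, 160)]),
     ([(337, 1), (284, 1), (394, 1), (5, 1), (395, 1), (331, 1), (305, 1)], .kill 1 [([], [(394, 146), (337, 12), (5, 105), (305, 104), (331, 74), (284, 152), (395, 0)]), ([], [(337, 39), (5, 12), (394, 8), (284, 21), (331, 107), (395, 107), (305, 62)])]),
     ([(396, 1), (268, 1), (338, 1), (7, 1), (285, 1), (397, 1), (398, 1)], .tr 176 0 [(338, 170), (285, 7), (397, 145), (7, 45), (268, 1), (396, 46), (398, 2)]),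
     ([(392, 1), (10, 1), (327, 1), (371, 1), (347, 1), (29, 1), (369, 1)], .tr 176 1 [(371, 65), (327, 144), (29, 119), (10, 109), (392, 51), (369, 13), (347, 167)]),
     ([(399, 1), (314, 1), (400, 1), (370, 1), (328, 1), (16, 1), (35, 1)], .tr 177 1 [(400, 157), (314, 155), (370, 128), (16, 88), (328, 158), (35, 93), (399, 105)]),
     ([(393, 1), (365, 1), (363, 1), (28, 1), (378, 1), (374, 1), (12, 1)], .tr 179 0 [(378, 87), (393, 0), (363, 0), (374, 0), (365, 3), (28, 70), (12, 14)])]]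
  nSteps := 181
  fin := [(9, 1), (125, 1), (126, 1), (134, 1), (136, 1), (137, 1), (141, 1), (144, 1), (147, 1), (148, 1), (149, 1), (150, 1), (152, 1), (155, 1), (156, 1), (157, 1), (158, 1), (159, 1), (160, 1), (161, 1), (162, 1), (163, 1), (164, 1), (166, 1), (167, 1), (168, 1), (169, 1), (174, 1), (175, 1), (178, 1), (180, 1)]

theorem ks_eq : data.killed = [Words.l7, Words.l7odd, Words.qA4] := by decide +kernel

theorem xgens_eq : data.fixedBy = Words.stabM := by decide +kernel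

theorem checked : data.checked data.eqv2 = true := by decide +kernel

end H63.ModCert.P2M
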