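import Cfsg.Agent.H63.ModCert.Words

/-! Certificate P2Q (computed offline). -/

set_option autoImplicit false

namespace H63.ModCert.P2Q

/-- certificate data -/
def data : Data where
  n := 9
  p := 2
  N := 1
  gens := [[(0, 1), (1, 2)],
    [(0, 1), (1, 2), (2, 3), (3, 4), (4, 5), (5, 6), (6, 7), (7, 8)],
    [(0, 1), (2, 3)],
    [(0, 2), (1, 3)],
    [(4, 5), (6, 7)],
    [(4, 6), (5, 7)],
    [(0, 1), (4, 5)],
    [(0, 4), (1, 5), (2, 6), (3, 7)],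
    [(5, 6), (6, 7)],
    [(2, 3), (3, 4)],
    [(0, 1), (1, 2), (2, 3), (3, 4)],
    [(0, 5), (1, 4)],
    [(0, 1), (1, 2), (2, 3), (3, 4), (4, 5), (5, 6)],
    [(1, 2), (3, 6)],
    [(0, 2), (2, 3), (3, 4), (4, 5), (5, 6), (6, 1)],
    [(0, 2), (3, 6)],
    [(0, 7), (1, 6), (2, 3), (4, 5)],
    [(0, 6), (1, 7), (2, 3), (4, 5)],
    [(1, 2), (2, 4), (4, 3), (3, 6), (6, 7), (7, 5)],
    [(0, 1), (2, 3), (4, 5), (6, 7)],
    [(0, 8), (2, 5), (3, 6), (4, 7)],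
    [(0, 2), (2, 4), (4, 3), (3, 6), (6, 7), (7, 5)],
    [(1, 8), (2, 5), (3, 6), (4, 7)],
    [(1, 2), (2, 3)]]
  xgens := [(2, 1), (3, 1), (4, 1), (5, 1), (6, 1), (7, 1), (8, 1)]
  xs := [[([], 1, 0, 0),
     ([(0, 2), (1, 3)], 1, 1, 0),
     ([(0, 4), (1, 5), (2, 6), (3, 7)], 1, 5, 0),
     ([(0, 6), (6, 2), (2, 4), (1, 7), (7, 3), (3, 5)], 1, 5, 1),
     ([(0, 4), (1, 6), (6, 2), (2, 7), (7, 3), (3, 5)], 1, 6, 2),
     ([(0, 7), (7, 3), (3, 6), (6, 2), (2, 4), (1, 5)], 1, 6, 3),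
     ([(1, 2), (2, 3)], 1, 5, 4),
     ([(0, 5), (5, 1), (1, 6), (6, 2), (2, 4), (3, 7)], 1, 6, 5),
     ([(0, 1), (1, 2)], 1, 5, 7)]]
  nX := 9
  reps := [[[]]]
  Ks := [[(0, 1), (23, 1)]]
  steps := [[([(0, 1)], .kill 0 [([], [(0, 8)]), ([], [(0, 6)])])]]
  nSteps := 1
  fin := [(0, 1)]

theorem ks_eq : data.killed = [Words.qA4] := by decide +kernel

theorem xgens_eq : data.fixedBy = Words.stabQ := by decide +kernel

theorem checked : data.checked data.eqv2 = true := by decide +kernel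

end H63.ModCert.P2Q
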