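import Cfsg.Agent.H63.ModCert.Words

/-! Certificate P2S (computed offline). -/

set_option autoImplicit false

namespace H63.ModCert.P2S

/-- certificate data -/
def data : Data where
  n := 9
  p := 2
  N := 58
  gens := [[(0, 1), (1, 2)],
    [(0, 1), (1, 2), (2, 3), (3, 4), (4, 5), (5, 6), (6, 7), (7, 8)],
    [(0, 1), (2, 3)],
    [(0, 2), (1, 3)],
    [(4, 5), (6, 7)],
    [(4, 6), (5, 7)],
    [(0, 1), (4, 5)],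
    [(0, 4), (1, 5), (2, 6), (3, 7)],
    [(2, 3), (3, 4)],
    [(0, 1), (1, 2), (2, 3), (3, 4)],
    [(0, 5), (1, 4)],
    [(0, 1), (1, 2), (2, 3), (3, 4), (4, 5), (5, 6)],
    [(1, 2), (3, 6)],
    [(0, 2), (2, 3), (3, 4), (4, 5), (5, 6), (6, 1)],
    [(0, 2), (3, 6)],
    [(0, 7), (1, 6), (2, 3), (4, 5)],
    [(0, 6), (1, 7), (2, 3), (4, 5)],
    [(1, 2), (2, 4), (4, 3), (3, 6), (6, 7), (7, 5)],
    [(0, 1), (2, 3), (4, 5), (6, 7)],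
    [(0, 8), (2, 5), (3, 6), (4, 7)],
    [(0, 2), (2, 4), (4, 3), (3, 6), (6, 7), (7, 5)],
    [(1, 8), (2, 5), (3, 6), (4, 7)],
    [(1, 2), (2, 3)],
    [(5, 6), (6, 7)],
    [(2, 4), (3, 5)],
    [(1, 2), (5, 6)],
    [(1, 2), (5, 7)]]
  xgens := [(2, 1), (3, 1), (4, 1), (5, 1), (6, 1), (7, 1)]
  xs := [[([], 1, 0, 0),
     ([(0, 1), (2, 3)], 1, 0, 0),
     ([(0, 2), (1, 3)], 1, 1, 0),
     ([(4, 5), (6, 7)], 1, 2, 0),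
     ([(4, 6), (5, 7)], 1, 3, 0),
     ([(0, 1), (4, 5)], 1, 4, 0),
     ([(0, 4), (1, 5), (2, 6), (3, 7)], 1, 5, 0),
     ([(0, 3), (1, 2)], 1, 1, 1),
     ([(0, 1), (2, 3), (4, 5), (6, 7)], 1, 2, 1),
     ([(0, 1), (2, 3), (4, 6), (5, 7)], 1, 3, 1),
     ([(2, 3), (4, 5)], 1, 4, 1),
     ([(0, 2), (1, 3), (4, 5), (6, 7)], 1, 2, 2),
     ([(0, 2), (1, 3), (4, 6), (5, 7)], 1, 3, 2),
     ([(0, 2), (2, 1), (1, 3), (4, 5)], 1, 4, 2),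
     ([(0, 6), (6, 2), (2, 4), (1, 7), (7, 3), (3, 5)], 1, 5, 2),
     ([(4, 7), (5, 6)], 1, 3, 3),
     ([(0, 1), (6, 7)], 1, 4, 3),
     ([(0, 1), (4, 6), (6, 5), (5, 7)], 1, 4, 4),
     ([(0, 3), (3, 1), (1, 2), (4, 5)], 1, 1, 5),
     ([(0, 1), (4, 7), (7, 5), (5, 6)], 1, 3, 5),
     ([(0, 3), (1, 2), (4, 5), (6, 7)], 1, 2, 7),
     ([(0, 3), (1, 2), (4, 6), (5, 7)], 1, 3, 7),
     ([(0, 1), (2, 3), (4, 7), (5, 6)], 1, 3, 8),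
     ([(0, 5), (1, 4), (2, 7), (3, 6)], 1, 5, 8),
     ([(2, 3), (4, 6), (6, 5), (5, 7)], 1, 4, 9),
     ([(0, 2), (1, 3), (4, 7), (5, 6)], 1, 3, 11),
     ([(0, 2), (2, 1), (1, 3), (6, 7)], 1, 4, 11),
     ([(0, 2), (2, 1), (1, 3), (4, 6), (6, 5), (5, 7)], 1, 4, 12),
     ([(0, 6), (1, 7), (2, 4), (3, 5)], 1, 5, 12),
     ([(0, 2), (2, 1), (1, 3), (4, 7), (7, 5), (5, 6)], 1, 3, 13),
     ([(0, 4), (4, 3), (3, 7), (1, 5), (5, 2), (2, 6)], 1, 5, 15),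
     ([(0, 3), (3, 1), (1, 2), (6, 7)], 1, 1, 16)],
    [([(0, 3), (3, 1), (1, 2), (4, 6), (6, 5), (5, 7)], 1, 1, 17),
     ([(0, 3), (3, 1), (1, 2), (4, 7), (7, 5), (5, 6)], 1, 3, 18),
     ([(0, 5), (5, 2), (2, 6), (1, 4), (4, 3), (3, 7)], 1, 5, 19),
     ([(0, 3), (1, 2), (4, 7), (5, 6)], 1, 3, 20),
     ([(0, 5), (5, 2), (2, 7), (1, 4), (4, 3), (3, 6)], 1, 5, 22),
     ([(0, 4), (4, 2), (2, 7), (1, 5), (5, 3), (3, 6)], 1, 5, 24),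
     ([(0, 6), (6, 1), (1, 7), (2, 4), (4, 3), (3, 5)], 1, 5, 25),
     ([(0, 6), (6, 3), (3, 4), (1, 7), (7, 2), (2, 5)], 1, 5, 26),
     ([(0, 6), (6, 1), (1, 7), (2, 5), (5, 3), (3, 4)], 1, 5, 27),
     ([(0, 7), (7, 2), (2, 4), (1, 6), (6, 3), (3, 5)], 1, 5, 31),
     ([(0, 7), (1, 6), (2, 4), (3, 5)], 1, 5, 32),
     ([(0, 7), (7, 1), (1, 6), (2, 4), (4, 3), (3, 5)], 1, 5, 33),
     ([(0, 7), (1, 6), (2, 5), (3, 4)], 1, 5, 35)]]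
  nX := 45
  reps := [[[],
     [(0, 2), (2, 1), (1, 3), (4, 6), (6, 8), (5, 7)],
     [(0, 5), (5, 2), (2, 6), (6, 3), (3, 7), (7, 1), (1, 8), (8, 4)],
     [(1, 3), (4, 6), (6, 8), (5, 7)],
     [(0, 4), (1, 2), (2, 3), (5, 6), (6, 7), (7, 8)],
     [(0, 2), (2, 4), (1, 3), (5, 6), (6, 7), (7, 8)],
     [(0, 4), (1, 3), (3, 2), (5, 6), (6, 7), (7, 8)],
     [(0, 5), (5, 7), (1, 3), (3, 2), (2, 4), (6, 8)],
     [(0, 3), (3, 4), (4, 1), (1, 2), (2, 5), (5, 7), (7, 8), (8, 6)],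
     [(0, 3), (3, 2), (2, 5), (5, 7), (1, 4), (6, 8)],
     [(0, 4), (1, 6), (6, 2), (2, 3), (3, 5), (7, 8)],
     [(0, 6), (6, 2), (2, 4), (1, 3), (3, 5), (7, 8)],
     [(0, 5), (5, 1), (1, 6), (6, 2), (2, 4), (7, 8)],
     [(0, 6), (1, 4), (4, 2), (2, 3), (3, 5), (7, 8)],
     [(0, 6), (1, 5), (2, 4), (7, 8)],
     [(0, 6), (1, 3), (3, 4), (4, 2), (2, 5), (7, 8)],
     [(0, 1), (1, 2)],
     [(0, 1), (1, 2), (5, 6), (6, 7)],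
     [(0, 2), (5, 7)],
     [(5, 6), (6, 7)],
     [(0, 5), (5, 1), (1, 6), (6, 2), (2, 4), (3, 7)],
     [(1, 2), (2, 3)],
     [(1, 2), (5, 6)],
     [(1, 2), (5, 7)],
     [(0, 1), (1, 2), (2, 3), (3, 4), (4, 5), (5, 6), (6, 7), (7, 8)],
     [(0, 1), (1, 2), (2, 3), (3, 4), (4, 6), (6, 5), (5, 7), (7, 8)],
     [(0, 1), (1, 2), (2, 3), (3, 4), (4, 5), (5, 7), (7, 6), (6, 8)],
     [(0, 2), (2, 4), (4, 6), (6, 8), (8, 1), (1, 3), (3, 5), (5, 7)],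
     [(0, 2), (2, 4), (4, 6), (6, 7), (7, 8), (8, 1), (1, 3), (3, 5)],
     [(0, 2), (2, 4), (1, 3), (3, 5), (5, 7), (7, 8)],
     [(0, 3), (3, 6), (1, 4), (4, 7), (2, 5), (5, 8)],
     [(0, 3), (3, 6), (6, 8), (8, 2), (2, 5), (5, 7), (7, 1), (1, 4)]],
    [[(0, 3), (3, 6), (6, 8), (8, 2), (2, 5), (5, 1), (1, 4), (4, 7)],
     [(0, 6), (6, 7), (7, 8), (1, 5), (2, 3), (3, 4)],
     [(0, 4), (4, 2), (2, 6), (6, 1), (1, 3), (3, 5), (5, 7), (7, 8)],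
     [(0, 1), (1, 7), (7, 4), (4, 5), (5, 6), (6, 3), (3, 2), (2, 8)],
     [(0, 8), (8, 1)],
     [(1, 2), (2, 8)],
     [(0, 2), (1, 8)],
     [(0, 3), (3, 4), (4, 5), (5, 6), (6, 7), (7, 8), (8, 2), (2, 1)],
     [(2, 3), (3, 4), (4, 5), (5, 6), (6, 7), (7, 8)],
     [(0, 3), (2, 4), (4, 5), (5, 6), (6, 7), (7, 8)],
     [(0, 2), (2, 1), (1, 3), (3, 4), (4, 5), (5, 6), (6, 7), (7, 8)],
     [(0, 1), (1, 3), (3, 2), (2, 4), (4, 5), (5, 6), (6, 7), (7, 8)],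
     [(1, 8), (2, 6), (6, 3), (3, 7), (7, 4), (4, 5)],
     [(0, 2), (2, 5), (5, 7), (1, 4), (4, 6), (6, 8)],
     [(0, 1), (2, 8), (3, 7), (4, 5)],
     [(0, 3), (3, 4), (1, 5), (2, 6), (6, 7), (7, 8)],
     [(1, 8), (8, 3), (3, 2), (4, 7), (7, 6), (6, 5)],
     [(0, 4), (4, 8), (8, 3), (3, 7), (7, 2), (2, 6), (6, 1), (1, 5)],
     [(0, 4), (4, 2), (2, 5), (5, 1), (1, 6), (6, 8), (8, 3), (3, 7)],
     [(0, 2), (2, 1), (1, 3), (4, 6), (6, 7), (7, 8)],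
     [(0, 8), (8, 4), (1, 6), (6, 2), (2, 5), (3, 7)],
     [(0, 4), (1, 3), (5, 7), (7, 8)],
     [(0, 4), (1, 3), (5, 8), (6, 7)],
     [(0, 3), (3, 4), (4, 1), (1, 2), (2, 5), (6, 8)],
     [(0, 3), (3, 4), (4, 7), (7, 8), (8, 6), (6, 1), (1, 2), (2, 5)],
     [(0, 4), (1, 3), (3, 5), (5, 2), (2, 6), (7, 8)]]]
  Ks := [[(0, 1), (22, 1)], [(2, 1), (3, 1), (4, 1), (5, 1), (6, 1), (7, 1), (25, 1)], [(2, 1), (3, 1), (4, 1), (5, 1), (6, 1), (7, 1), (26, 1)]]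
  steps := [[([(1, 1), (2, 1), (3, 1)], .kill 0 [([], [(3, 0), (1, 42), (2, 42)]), ([], [(2, 40), (3, 41), (1, 7)])]),
     ([(4, 1), (5, 1), (6, 1)], .tr 0 1 [(6, 9), (4, 34), (5, 21)]),
     ([(7, 1), (8, 1), (9, 1)], .tr 1 1 [(7, 0), (9, 0), (8, 26)]),
     ([(10, 1), (11, 1), (12, 1)], .tr 2 1 [(10, 9), (12, 27), (11, 12)]),
     ([(13, 1), (14, 1), (15, 1)], .tr 3 0 [(13, 5), (15, 10), (14, 5)]),
     ([(16, 1), (17, 1), (18, 1)], .tr 3 1 [(17, 41), (18, 23), (16, 39)]),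
     ([(0, 1), (19, 1), (20, 1)], .tr 4 1 [(19, 38), (0, 44), (20, 35)]),
     ([(21, 1), (22, 1), (23, 1)], .tr 5 0 [(21, 1), (22, 16), (23, 0)]),
     ([(24, 1), (25, 1), (26, 1)], .tr 6 1 [(24, 0), (26, 0), (25, 6)]),
     ([(27, 1), (28, 1), (29, 1)], .tr 8 1 [(27, 0), (28, 4), (29, 4)]),
     ([(30, 1), (31, 1), (32, 1)], .tr 9 1 [(30, 0), (32, 0), (31, 15)]),
     ([(33, 1), (34, 1), (35, 1)], .tr 10 0 [(33, 27), (35, 14), (34, 8)]),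
     ([(36, 1), (37, 1), (38, 1)], .tr 11 1 [(36, 43), (37, 36), (38, 4)]),
     ([(39, 1), (40, 1), (41, 1)], .tr 12 1 [(40, 0), (41, 1), (39, 0)]),
     ([(24, 1), (42, 1), (43, 1)], .tr 13 0 [(43, 1), (24, 0), (42, 1)]),
     ([(27, 1), (44, 1), (45, 1)], .tr 14 1 [(27, 0), (44, 40), (45, 0)]),
     ([(46, 1), (30, 1), (47, 1)], .tr 15 1 [(30, 0), (46, 24), (47, 4)]),
     ([(48, 1), (49, 1), (50, 1)], .tr 16 1 [(48, 33), (49, 0), (50, 10)]),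
     ([(1, 1), (51, 1), (52, 1)], .tr 17 1 [(1, 12), (51, 34), (52, 29)]),
     ([(6, 1), (53, 1), (54, 1)], .tr 18 1 [(6, 9), (54, 17), (53, 30)]),
     ([(55, 1), (8, 1), (56, 1)], .tr 19 1 [(8, 26), (56, 12), (55, 2)]),
     ([(14, 1), (57, 1), (12, 1)], .tr 20 1 [(14, 2), (12, 27), (57, 15)]),
     ([(0, 1), (16, 1), (21, 1)], .tr 21 1 [(0, 44), (21, 36), (16, 39)]),
     ([(0, 1), (22, 1), (18, 1)], .kill 1 [([], [(0, 1), (22, 2), (18, 7)]), ([], [(0, 2), (22, 1), (18, 2)]), ([], [(0, 3), (22, 4), (18, 15)]), ([], [(0, 4), (22, 3), (18, 4)]), ([], [(0, 5), (18, 19), (22, 17)]), ([], [(0, 6), (22, 6), (18, 28)]), ([], [(22, 0), (0, 0), (18, 16)])]),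
     ([(0, 1), (23, 1), (17, 1)], .kill 2 [([], [(0, 1), (23, 2), (17, 2)]), ([], [(0, 2), (23, 1), (17, 7)]), ([], [(0, 3), (23, 15), (17, 15)]), ([], [(0, 4), (23, 4), (17, 3)]), ([], [(0, 5), (17, 15), (23, 15)]), ([], [(0, 6), (17, 37), (23, 41)]), ([], [(23, 0), (0, 0), (17, 16)])])]]
  nSteps := 25
  fin := [(5, 1), (7, 1), (22, 1), (23, 1), (24, 1)]

theorem ks_eq : data.killed = [Words.qA4, Words.stabE, Words.stabF] := by decide +kernel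

theorem xgens_eq : data.fixedBy = Words.sylowGens := by decide +kernel

theorem checked : data.checked data.eqv2 = true := by decide +kernel

end H63.ModCert.P2S
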