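import Cfsg.Agent.H63.ModCert.Facts
import Cfsg.Agent.H63.ModCert.P2L1
import Cfsg.Agent.H63.ModCert.P2L2
import Cfsg.Agent.H63.ModCert.P2L3
import Cfsg.Agent.H63.ModCert.P2L4
import Cfsg.Agent.H63.ModCert.P2Q
import Cfsg.Agent.H63.ModCert.P2M
import Cfsg.Agent.H63.ModCert.P2E
import Cfsg.Agent.H63.ModCert.P2F
import Cfsg.Agent.H63.ModCert.P2S

/-!
In characteristic two every nonzero module over A₉ has a nonzero vector fixed by a nonsolvable
subgroup.
-/

set_option autoImplicit false

namespace H63.ModCert

theorem eq_zero_of_noFix_nine {V : Type*} [AddCommGroup V]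
    [DistribMulAction (alternatingGroup (Fin 9)) V] (hp : ∀ u : V, 2 • u = 0) (hV : NoFix 9 V) :
    ∀ u : V, u = 0 := by
  have hpt : Kills 9 V Words.a5Pt9 :=
    kills_of_perfect (C := Words.a5Pt9Comm) (by decide +kernel) hV
  have hsix : Kills 9 V Words.a5Six9 :=
    kills_of_perfect (C := Words.a5Six9Comm) (by decide +kernel) hV
  have h7 : Kills 9 V Words.l7 :=
    kills_of_perfect (C := Words.l7Comm) (by decide +kernel) hV
  have h7' : Kills 9 V Words.l7odd :=
    kills_of_perfect (C := Words.l7oddComm) (by decide +kernel) hV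
  have h8 : Kills 9 V Words.l8odd :=
    kills_of_perfect (C := Words.l8oddComm) (by decide +kernel) hV
  have h28 : Kills 9 V Words.l28 :=
    kills_of_perfect (C := Words.l28Comm) (by decide +kernel) hV
  have h28' : Kills 9 V Words.l28odd :=
    kills_of_perfect (C := Words.l28oddComm) (by decide +kernel) hV
  have hC32 : Kills 9 V Words.qC32 := by
    rw [← P2L1.xgens_eq]
    refine P2L1.data.sound2 rfl hp P2L1.checked fun K hK => ?_
    simp only [P2L1.ks_eq, List.mem_cons, List.not_mem_nil, or_false] at hK
    rcases hK with rfl | rfl | rfl | rfl <;> assumption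
  have hC3 : Kills 9 V Words.qC3 := by
    rw [← P2L2.xgens_eq]
    refine P2L2.data.sound2 rfl hp P2L2.checked fun K hK => ?_
    simp only [P2L2.ks_eq, List.mem_cons, List.not_mem_nil, or_false] at hK
    rcases hK with rfl | rfl | rfl <;> assumption
  have hS4 : Kills 9 V Words.qS4 := by
    rw [← P2L3.xgens_eq]
    refine P2L3.data.sound2 rfl hp P2L3.checked fun K hK => ?_
    simp only [P2L3.ks_eq, List.mem_cons, List.not_mem_nil, or_false] at hK
    rcases hK with rfl | rfl | rfl | rfl <;> assumption
  have hA4 : Kills 9 V Words.qA4 := by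
    rw [← P2L4.xgens_eq]
    refine P2L4.data.sound2 rfl hp P2L4.checked fun K hK => ?_
    simp only [P2L4.ks_eq, List.mem_cons, List.not_mem_nil, or_false] at hK
    rcases hK with rfl | rfl <;> assumption
  have hQ : Kills 9 V Words.stabQ := by
    rw [← P2Q.xgens_eq]
    refine P2Q.data.sound2 rfl hp P2Q.checked fun K hK => ?_
    simp only [P2Q.ks_eq, List.mem_cons, List.not_mem_nil, or_false] at hK
    rcases hK with rfl
    assumption
  have hM : Kills 9 V Words.stabM := by
    rw [← P2M.xgens_eq]
    refine P2M.data.sound2 rfl hp P2M.checked fun K hK => ?_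
    simp only [P2M.ks_eq, List.mem_cons, List.not_mem_nil, or_false] at hK
    rcases hK with rfl | rfl | rfl <;> assumption
  have hE : Kills 9 V Words.stabE := by
    rw [← P2E.xgens_eq]
    refine P2E.data.sound2 rfl hp P2E.checked fun K hK => ?_
    simp only [P2E.ks_eq, List.mem_cons, List.not_mem_nil, or_false] at hK
    rcases hK with rfl | rfl | rfl | rfl <;> assumption
  have hF : Kills 9 V Words.stabF := by
    rw [← P2F.xgens_eq]
    refine P2F.data.sound2 rfl hp P2F.checked fun K hK => ?_
    simp only [P2F.ks_eq, List.mem_cons, List.not_mem_nil, or_false] at hK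
    rcases hK with rfl | rfl | rfl | rfl <;> assumption
  have hS : Kills 9 V Words.sylowGens := by
    rw [← P2S.xgens_eq]
    refine P2S.data.sound2 rfl hp P2S.checked fun K hK => ?_
    simp only [P2S.ks_eq, List.mem_cons, List.not_mem_nil, or_false] at hK
    rcases hK with rfl | rfl | rfl <;> assumption
  have d5 : Kills 9 V (Words.sylowGens.take 5) :=
    two_descend (s := [(0, 4), (1, 5), (2, 6), (3, 7)]) (E := [[2], [3], [0], [1], [4]]) hp
      (by decide +kernel) hS
  have d4 : Kills 9 V (Words.sylowGens.take 4) :=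
    two_descend (s := [(0, 1), (4, 5)]) (E := [[0], [1, 0], [2], [3, 2]]) hp
      (by decide +kernel) d5
  have d3 : Kills 9 V (Words.sylowGens.take 3) :=
    two_descend (s := [(4, 6), (5, 7)]) (E := [[0], [1], [2]]) hp (by decide +kernel) d4
  have d2 : Kills 9 V (Words.sylowGens.take 2) :=
    two_descend (s := [(4, 5), (6, 7)]) (E := [[0], [1]]) hp (by decide +kernel) d3
  have d1 : Kills 9 V (Words.sylowGens.take 1) :=
    two_descend (s := [(0, 2), (1, 3)]) (E := [[0]]) hp (by decide +kernel) d2
  have d0 : Kills 9 V ([] : List (Word × ℕ)) :=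
    two_descend (s := [(0, 1), (2, 3)]) (E := []) hp (by decide +kernel) d1
  exact fun u => d0 u (by simp)

end H63.ModCert
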