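import Mathlib

/-!
A checker for certificates that a module over an alternating group has no nonzero vector on which
a given list of elements acts by given scalars.

Elements are words in transpositions, `reps` is a list of elements `r i`, and `φ i = r i • w`.
A table gives `g * r i = r j * x` with `x` acting on `w` by a known scalar.  The steps list
vectors (formal combinations of the `φ i`) that vanish: either translates of earlier ones or
vectors that are eigen for a list of elements modulo earlier ones, where that eigen space is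
known to vanish.
-/

set_option autoImplicit false
set_option linter.unusedSectionVars false

namespace H63.ModCert

abbrev Word := List (ℕ × ℕ)

abbrev Vec := List (ℕ × ℕ)

def swapNat (ab : ℕ × ℕ) (j : ℕ) : ℕ :=
  if j == ab.1 then ab.2 else if j == ab.2 then ab.1 else j

def app (s : Word) (i : ℕ) : ℕ := s.foldr swapNat i

def okW (n : ℕ) (s : Word) : Bool :=
  s.length % 2 == 0 && s.all fun ab => Nat.blt ab.1 n && Nat.blt ab.2 n && !(ab.1 == ab.2)

def eqW (n : ℕ) (s t : Word) : Bool := (List.range n).all fun i => app s i == app t i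

/-- lookup in a list cut into chunks of 32 entries -/
def get {α : Type} (d : α) (ll : List (List α)) (i : ℕ) : α :=
  (ll.getD (i / 32) []).getD (i % 32) d

inductive How where
  | tr (prev gen : ℕ) (es : List (ℕ × ℕ))
  | kill (K : ℕ) (cs : List (Vec × List (ℕ × ℕ)))

structure Data where
  n : ℕ
  p : ℕ
  N : ℕ
  gens : List Word
  xgens : List (ℕ × ℕ)
  xs : List (List (Word × ℕ × ℕ × ℕ))
  nX : ℕ
  reps : List (List Word)
  Ks : List (List (ℕ × ℕ))
  steps : List (List (Vec × How))
  nSteps : ℕ
  fin : Vec

namespace Data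

variable (D : Data)

def gen (g : ℕ) : Word := D.gens.getD g []

def rep (i : ℕ) : Word := get [] D.reps i

def xw (k : ℕ) : Word := (get ([], 0, 0, 0) D.xs k).1

def xc (k : ℕ) : ℕ := (get ([], 0, 0, 0) D.xs k).2.1

def mapE : Vec → List (ℕ × ℕ) → Vec
  | ic :: v, e :: es => (e.1, ic.2 * D.xc e.2 % D.p) :: mapE v es
  | _, _ => []

def smulV (c : ℕ) (v : Vec) : Vec := v.map fun ic => (ic.1, c * ic.2 % D.p)

def stepAt (j : ℕ) : Vec × How := get ([], How.kill 0 []) D.steps j

def comb (cs : Vec) : Vec := cs.flatMap fun rc => D.smulV rc.2 (D.stepAt rc.1).1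

def okGens : Bool :=
  D.gens.all (okW D.n) && (List.range D.N).all (fun i => okW D.n (D.rep i)) &&
    (D.rep 0 == [])

def okX (k : ℕ) : Bool :=
  okW D.n (D.xw k) &&
    (if k == 0 then D.xw 0 == [] && D.xc 0 == 1 else
      let e := get ([], 0, 0, 0) D.xs k
      let g := D.xgens.getD e.2.2.1 (0, 0)
      Nat.blt e.2.2.2 k && Nat.blt e.2.2.1 D.xgens.length && Nat.blt g.1 D.gens.length &&
        eqW D.n (D.xw k) (D.gen g.1 ++ D.xw e.2.2.2) &&
        (D.xc k == g.2 * D.xc e.2.2.2 % D.p))

/-- `e` says which basis vector, and which element of the stabiliser, arises from `g * r i` -/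
def okEntry (g i : ℕ) (e : ℕ × ℕ) : Bool :=
  Nat.blt i D.N && Nat.blt e.1 D.N && Nat.blt e.2 D.nX &&
    eqW D.n (D.gen g ++ D.rep i) (D.rep e.1 ++ D.xw e.2)

def okMap (g : ℕ) : Vec → List (ℕ × ℕ) → Bool
  | [], [] => true
  | ic :: v, e :: es => D.okEntry g ic.1 e && okMap g v es
  | _, _ => false

def inRange (v : Vec) : Bool := v.all fun ic => Nat.blt ic.1 D.N

def coef (v : Vec) (i : ℕ) : ℕ := v.foldr (fun ic s => if ic.1 == i then ic.2 + s else s) 0

def eqv1 (a b : Vec) : Bool :=
  D.inRange a && D.inRange b &&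
    (List.range D.N).all fun i => coef a i % D.p == coef b i % D.p

def mask (v : Vec) : ℕ :=
  v.foldr (fun ic m => if ic.2 % 2 == 1 then Nat.xor (Nat.shiftLeft 1 ic.1) m else m) 0

def eqv2 (a b : Vec) : Bool :=
  D.inRange a && D.inRange b && D.p == 2 && mask a == mask b

def okStep (eqv : Vec → Vec → Bool) (j : ℕ) : Bool :=
  match D.stepAt j with
  | (v, .tr prev g es) =>
      Nat.blt prev j && Nat.blt g D.gens.length && D.okMap g (D.stepAt prev).1 es &&
        eqv v (D.mapE (D.stepAt prev).1 es)
  | (v, .kill K cs) =>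
      Nat.blt K D.Ks.length &&
        (List.range (D.Ks.getD K []).length).all fun t =>
          let gs := (D.Ks.getD K []).getD t (0, 0)
          let c := cs.getD t ([], [])
          Nat.blt gs.1 D.gens.length && c.1.all (fun rc => Nat.blt rc.1 j) &&
            D.okMap gs.1 v c.2 && eqv (D.mapE v c.2) (D.smulV gs.2 v ++ D.comb c.1)

def okFin (eqv : Vec → Vec → Bool) : Bool :=
  D.fin.all (fun rc => Nat.blt rc.1 D.nSteps) && eqv (D.comb D.fin) [(0, 1)]

end Data

/-- even word as an element of the alternating group -/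
def perm (n : ℕ) [NeZero n] (s : Word) : Equiv.Perm (Fin n) :=
  (s.map fun ab => Equiv.swap (Fin.ofNat n ab.1) (Fin.ofNat n ab.2)).prod

theorem app_cons (ab : ℕ × ℕ) (s : Word) (i : ℕ) : app (ab :: s) i = swapNat ab (app s i) := rfl

theorem app_append (s t : Word) (i : ℕ) : app (s ++ t) i = app s (app t i) := by
  simp [app, List.foldr_append]

theorem okW_iff {n : ℕ} {s : Word} : okW n s = true ↔
    s.length % 2 = 0 ∧ ∀ ab ∈ s, ab.1 < n ∧ ab.2 < n ∧ ab.1 ≠ ab.2 := by
  simp [okW, List.all_eq_true, and_assoc]

theorem okW_append {n : ℕ} {s t : Word} (hs : okW n s = true) (ht : okW n t = true) :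
    okW n (s ++ t) = true := by
  rw [okW_iff] at *
  refine ⟨?_, ?_⟩
  · rw [List.length_append]; omega
  · intro ab hab
    rcases List.mem_append.mp hab with h | h
    · exact hs.2 ab h
    · exact ht.2 ab h

theorem perm_apply {n : ℕ} [NeZero n] (s : Word) (hs : ∀ ab ∈ s, ab.1 < n ∧ ab.2 < n) (i : Fin n) :
    ((perm n s) i : ℕ) = app s i := by
  induction s with
  | nil => simp [perm, app]
  | cons ab s ih =>
    have h := hs ab (List.mem_cons_self)
    have ih := ih fun x hx => hs x (List.mem_cons_of_mem _ hx)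
    have hp : perm n (ab :: s) = Equiv.swap (Fin.ofNat n ab.1) (Fin.ofNat n ab.2) * perm n s := by
      simp [perm]
    rw [hp, Equiv.Perm.mul_apply, app_cons, ← ih, Equiv.swap_apply_def]
    have h1 : ((Fin.ofNat n ab.1 : Fin n) : ℕ) = ab.1 := Nat.mod_eq_of_lt h.1
    have h2 : ((Fin.ofNat n ab.2 : Fin n) : ℕ) = ab.2 := Nat.mod_eq_of_lt h.2
    simp only [swapNat, beq_iff_eq, Fin.ext_iff, h1, h2]
    split_ifs <;> simp_all

theorem perm_append {n : ℕ} [NeZero n] (s t : Word) : perm n (s ++ t) = perm n s * perm n t := by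
  simp [perm]

theorem perm_mem {n : ℕ} [NeZero n] {s : Word} (hs : okW n s = true) :
    perm n s ∈ alternatingGroup (Fin n) := by
  rw [okW_iff] at hs
  refine Equiv.Perm.mem_alternatingGroup.mpr ?_
  have key : ∀ t : Word, (∀ ab ∈ t, ab.1 < n ∧ ab.2 < n ∧ ab.1 ≠ ab.2) →
      Equiv.Perm.sign (perm n t) = (-1) ^ t.length := by
    intro t
    induction t with
    | nil => intro _; simp [perm]
    | cons ab t ih =>
      intro ht
      have h := ht ab (List.mem_cons_self)
      have hne : (Fin.ofNat n ab.1 : Fin n) ≠ Fin.ofNat n ab.2 := by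
        intro he
        apply h.2.2
        have := congrArg Fin.val he
        simpa [Fin.val_ofNat, Nat.mod_eq_of_lt h.1, Nat.mod_eq_of_lt h.2.1] using this
      have hp : perm n (ab :: t) = Equiv.swap (Fin.ofNat n ab.1) (Fin.ofNat n ab.2) * perm n t := by
        simp [perm]
      rw [hp, map_mul, ih fun x hx => ht x (List.mem_cons_of_mem _ hx), Equiv.Perm.sign_swap hne,
        List.length_cons, pow_succ, mul_comm]
  rw [key s hs.2]
  exact (Nat.even_iff.mpr hs.1).neg_one_pow

/-- the element of the alternating group given by a word -/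
def el (n : ℕ) [NeZero n] (s : Word) : alternatingGroup (Fin n) :=
  if h : okW n s = true then ⟨perm n s, perm_mem h⟩ else 1

theorem coe_el {n : ℕ} [NeZero n] {s : Word} (h : okW n s = true) :
    ((el n s : alternatingGroup (Fin n)) : Equiv.Perm (Fin n)) = perm n s := by
  simp [el, h]

theorem el_nil {n : ℕ} [NeZero n] : el n ([] : Word) = 1 := by
  apply Subtype.ext
  simp [el, perm, okW]

theorem el_append {n : ℕ} [NeZero n] {s t : Word} (hs : okW n s = true) (ht : okW n t = true) :
    el n (s ++ t) = el n s * el n t := by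
  apply Subtype.ext
  rw [coe_el (okW_append hs ht), Subgroup.coe_mul, coe_el hs, coe_el ht, perm_append]

theorem el_congr {n : ℕ} [NeZero n] {s t : Word} (hs : okW n s = true) (ht : okW n t = true)
    (he : eqW n s t = true) : el n s = el n t := by
  apply Subtype.ext
  rw [coe_el hs, coe_el ht]
  refine Equiv.ext fun i => Fin.ext ?_
  rw [perm_apply s (fun ab h => ⟨((okW_iff.mp hs).2 ab h).1, ((okW_iff.mp hs).2 ab h).2.1⟩),
    perm_apply t (fun ab h => ⟨((okW_iff.mp ht).2 ab h).1, ((okW_iff.mp ht).2 ab h).2.1⟩)]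
  simp only [eqW, List.all_eq_true, List.mem_range, beq_iff_eq] at he
  exact he i i.2

namespace Data

variable (D : Data) [NeZero D.n]
variable {V : Type*} [AddCommGroup V] [DistribMulAction (alternatingGroup (Fin D.n)) V]

/-- the vector `r i • w` -/
def phi (w : V) (i : ℕ) : V := el D.n (D.rep i) • w

def val (w : V) (v : Vec) : V := (v.map fun ic => ic.2 • D.phi w ic.1).sum

theorem val_nil (w : V) : D.val w [] = 0 := rfl

theorem val_cons (w : V) (ic : ℕ × ℕ) (v : Vec) :
    D.val w (ic :: v) = ic.2 • D.phi w ic.1 + D.val w v := rfl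

theorem val_append (w : V) (a b : Vec) : D.val w (a ++ b) = D.val w a + D.val w b := by
  simp [val]

variable (hp : ∀ u : V, D.p • u = 0)

include hp in
theorem mod_smul (c : ℕ) (u : V) : (c % D.p) • u = c • u := by
  conv_rhs => rw [← Nat.mod_add_div c D.p]
  rw [add_smul, mul_comm, mul_smul, hp, smul_zero, add_zero]

include hp in
theorem val_smulV (w : V) (c : ℕ) (v : Vec) : D.val w (D.smulV c v) = c • D.val w v := by
  induction v with
  | nil => simp [smulV, val_nil]
  | cons ic v ih =>
    rw [show D.smulV c (ic :: v) = (ic.1, c * ic.2 % D.p) :: D.smulV c v from rfl, val_cons,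
      val_cons, ih, smul_add, mod_smul D hp, mul_smul]

theorem val_eq_sum (w : V) (v : Vec) (hv : D.inRange v = true) :
    D.val w v = ∑ i ∈ Finset.range D.N, coef v i • D.phi w i := by
  induction v with
  | nil => simp [val_nil, coef]
  | cons ic v ih =>
    simp only [inRange, List.all_cons, Bool.and_eq_true, Nat.blt_eq] at hv
    rw [val_cons, ih (by simpa [inRange] using hv.2)]
    have : ∀ i, coef (ic :: v) i • D.phi w i =
        (if ic.1 = i then ic.2 • D.phi w i else 0) + coef v i • D.phi w i := by
      intro i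
      simp only [coef, List.foldr_cons, beq_iff_eq]
      split_ifs <;> simp [add_smul]
    rw [Finset.sum_congr rfl fun i _ => this i, Finset.sum_add_distrib, Finset.sum_ite_eq,
      if_pos (Finset.mem_range.mpr hv.1)]

/-- soundness of an equality test -/
def EqvSound (eqv : Vec → Vec → Bool) (w : V) : Prop :=
  ∀ a b, eqv a b = true → D.val w a = D.val w b

include hp in
theorem eqv1_sound (w : V) : D.EqvSound D.eqv1 w := by
  intro a b h
  simp only [eqv1, Bool.and_eq_true, List.all_eq_true, List.mem_range, beq_iff_eq] at h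
  rw [val_eq_sum D w a h.1.1, val_eq_sum D w b h.1.2]
  refine Finset.sum_congr rfl fun i hi => ?_
  rw [← mod_smul D hp (coef a i), ← mod_smul D hp (coef b i), h.2 i (Finset.mem_range.mp hi)]

theorem testBit_mask (v : Vec) (i : ℕ) : (mask v).testBit i = decide (coef v i % 2 = 1) := by
  induction v with
  | nil => simp [mask, coef]
  | cons ic v ih =>
    have hm : mask (ic :: v) =
        if ic.2 % 2 == 1 then Nat.xor (Nat.shiftLeft 1 ic.1) (mask v) else mask v := rfl
    have hc : coef (ic :: v) i = if ic.1 == i then ic.2 + coef v i else coef v i := rfl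
    rw [hm, hc]
    have hsh : (Nat.shiftLeft 1 ic.1).testBit i = decide (ic.1 = i) := by
      show (1 <<< ic.1).testBit i = _
      rw [Nat.one_shiftLeft, Nat.testBit_two_pow]
    by_cases h2 : ic.2 % 2 = 1
    · rw [if_pos (by simpa using h2)]
      show (Nat.shiftLeft 1 ic.1 ^^^ mask v).testBit i = _
      rw [Nat.testBit_xor, ih, hsh]
      by_cases he : ic.1 = i
      · simp only [he, beq_self_eq_true, ite_true, decide_true, Bool.true_bne]
        by_cases hh : coef v i % 2 = 1
        · simp [hh]; omega
        · simp [hh]; omega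
      · simp [he]
    · rw [if_neg (by simpa using h2), ih]
      by_cases he : ic.1 = i
      · simp only [he, beq_self_eq_true, ite_true]
        congr 1
        apply propext; constructor <;> intro <;> omega
      · simp [he]

include hp in
theorem eqv2_sound (w : V) : D.EqvSound D.eqv2 w := by
  intro a b h
  simp only [eqv2, Bool.and_eq_true, beq_iff_eq] at h
  rw [val_eq_sum D w a h.1.1.1, val_eq_sum D w b h.1.1.2]
  refine Finset.sum_congr rfl fun i _ => ?_
  rw [← mod_smul D hp (coef a i), ← mod_smul D hp (coef b i), h.1.2]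
  have := testBit_mask a i
  rw [h.2, testBit_mask b i] at this
  have h' : (coef b i % 2 = 1) ↔ (coef a i % 2 = 1) := by simpa using this
  congr 1
  omega

variable (w : V)
variable (hgens : D.okGens = true)
variable (hX : (List.range D.nX).all D.okX = true)
variable (hw : ∀ gs ∈ D.xgens, el D.n (D.gen gs.1) • w = gs.2 • w)

include hgens in
theorem okW_gen {g : ℕ} (hg : g < D.gens.length) : okW D.n (D.gen g) = true := by
  simp only [okGens, Bool.and_eq_true, List.all_eq_true] at hgens
  rw [gen, List.getD_eq_getElem _ _ hg]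
  exact hgens.1.1 _ (List.getElem_mem hg)

include hgens in
theorem okW_rep {i : ℕ} (hi : i < D.N) : okW D.n (D.rep i) = true := by
  simp only [okGens, Bool.and_eq_true, List.all_eq_true, List.mem_range] at hgens
  exact hgens.1.2 i hi

include hp hgens hX hw in
theorem xw_smul {k : ℕ} (hk : k < D.nX) : el D.n (D.xw k) • w = D.xc k • w := by
  induction k using Nat.strong_induction_on with
  | _ k ih =>
    have h := (List.all_eq_true.mp hX) k (List.mem_range.mpr hk)
    simp only [okX, Bool.and_eq_true] at h
    obtain ⟨hok, h⟩ := h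
    by_cases h0 : k = 0
    · subst h0
      simp only [beq_self_eq_true, ite_true, Bool.and_eq_true, beq_iff_eq] at h
      rw [h.1, h.2, el_nil, one_smul, one_smul]
    · rw [if_neg (by simpa using h0)] at h
      simp only [Bool.and_eq_true, Nat.blt_eq, beq_iff_eq] at h
      set e := get ([], 0, 0, 0) D.xs k with he
      obtain ⟨⟨⟨⟨hpar, hgl⟩, hg⟩, heq⟩, hc⟩ := h
      have hg' := okW_gen D hgens hg
      have hpar' : e.2.2.2 < D.nX := hpar.trans hk
      have hxp : okW D.n (D.xw e.2.2.2) = true := by
        have h2 := (List.all_eq_true.mp hX) _ (List.mem_range.mpr hpar')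
        simp only [okX, Bool.and_eq_true] at h2
        exact h2.1
      have hmem : D.xgens.getD e.2.2.1 (0, 0) ∈ D.xgens := by
        rw [List.getD_eq_getElem _ _ hgl]; exact List.getElem_mem hgl
      rw [el_congr hok (okW_append hg' hxp) heq, el_append hg' hxp, mul_smul, ih _ hpar hpar',
        smul_comm, hw _ hmem, hc, mod_smul D hp, ← mul_smul, mul_comm]

include hp hgens hX hw in
theorem gen_smul_phi {g i : ℕ} {e : ℕ × ℕ} (hg : g < D.gens.length)
    (h : D.okEntry g i e = true) :
    el D.n (D.gen g) • D.phi w i = D.xc e.2 • D.phi w e.1 := by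
  simp only [okEntry, Bool.and_eq_true, Nat.blt_eq] at h
  obtain ⟨⟨⟨hi, hj⟩, hx⟩, he⟩ := h
  have h1 := okW_gen D hgens hg
  have h2 := okW_rep D hgens hi
  have h3 := okW_rep D hgens hj
  have h4 : okW D.n (D.xw e.2) = true := by
    have := (List.all_eq_true.mp hX) _ (List.mem_range.mpr hx)
    simp only [okX, Bool.and_eq_true] at this
    exact this.1
  rw [phi, phi, ← mul_smul, ← el_append h1 h2, el_congr (okW_append h1 h2) (okW_append h3 h4) he,
    el_append h3 h4, mul_smul, xw_smul D hp w hgens hX hw hx, smul_comm]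

include hp hgens hX hw in
theorem gen_smul_val {g : ℕ} (hg : g < D.gens.length) :
    ∀ (v : Vec) (es : List (ℕ × ℕ)), D.okMap g v es = true →
      el D.n (D.gen g) • D.val w v = D.val w (D.mapE v es) := by
  intro v
  induction v with
  | nil => intro es _; cases es <;> simp [mapE, val_nil]
  | cons ic v ih =>
    intro es h
    cases es with
    | nil => simp [okMap] at h
    | cons e es =>
      simp only [okMap, Bool.and_eq_true] at h
      rw [show D.mapE (ic :: v) (e :: es) = (e.1, ic.2 * D.xc e.2 % D.p) :: D.mapE v es from rfl,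
        val_cons, val_cons, smul_add, ih es h.2, mod_smul D hp, mul_smul,
        smul_comm, gen_smul_phi D hp w hgens hX hw hg h.1]

variable (eqv : Vec → Vec → Bool) (heqv : D.EqvSound eqv w)
variable (hK : ∀ K ∈ D.Ks, ∀ u : V, (∀ gs ∈ K, el D.n (D.gen gs.1) • u = gs.2 • u) → u = 0)
variable (hsteps : ∀ j < D.nSteps, D.okStep eqv j = true)

include hp in
theorem val_comb_eq_zero (cs : Vec) (h : ∀ rc ∈ cs, D.val w (D.stepAt rc.1).1 = 0) :
    D.val w (D.comb cs) = 0 := by
  induction cs with
  | nil => simp [comb, val_nil]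
  | cons rc cs ih =>
    rw [show D.comb (rc :: cs) = D.smulV rc.2 (D.stepAt rc.1).1 ++ D.comb cs by
      simp [comb], val_append, val_smulV D hp, h rc List.mem_cons_self, smul_zero,
      ih fun x hx => h x (List.mem_cons_of_mem _ hx), add_zero]

include hp hgens hX hw heqv hK hsteps in
theorem step_zero {j : ℕ} (hj : j < D.nSteps) : D.val w (D.stepAt j).1 = 0 := by
  induction j using Nat.strong_induction_on with
  | _ j ih =>
    have h := hsteps j hj
    unfold okStep at h
    rcases he : D.stepAt j with ⟨v, how⟩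
    rw [he] at h
    cases how with
    | tr prev g es =>
      simp only [Bool.and_eq_true, Nat.blt_eq] at h
      obtain ⟨⟨⟨hprev, hg⟩, hr⟩, heq⟩ := h
      show D.val w v = 0
      rw [heqv _ _ heq, ← gen_smul_val D hp w hgens hX hw hg _ _ hr,
        ih prev hprev (hprev.trans hj), smul_zero]
    | kill K cs =>
      simp only [Bool.and_eq_true, Nat.blt_eq, List.all_eq_true, List.mem_range] at h
      obtain ⟨hKl, hall⟩ := h
      show D.val w v = 0
      refine hK (D.Ks.getD K []) ?_ _ ?_
      · rw [List.getD_eq_getElem _ _ hKl]; exact List.getElem_mem hKl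
      intro gs hgs
      obtain ⟨t, ht, hget⟩ := List.getElem_of_mem hgs
      have := hall t ht
      rw [List.getD_eq_getElem _ _ ht, hget] at this
      obtain ⟨⟨⟨hg, hrefs⟩, hr⟩, heq⟩ := this
      rw [gen_smul_val D hp w hgens hX hw hg v _ hr, heqv _ _ heq, val_append,
        val_smulV D hp, val_comb_eq_zero D hp w _ fun rc hrc =>
          ih rc.1 (hrefs rc hrc) ((hrefs rc hrc).trans hj), add_zero]

include hp hgens hX hw heqv hK hsteps in
/-- A checked certificate shows that `w` is zero. -/
theorem eq_zero (hfin : D.okFin eqv = true) : w = 0 := by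
  simp only [okFin, Bool.and_eq_true, List.all_eq_true, Nat.blt_eq] at hfin
  have h := heqv _ _ hfin.2
  rw [val_comb_eq_zero D hp w _ fun rc hrc =>
    step_zero D hp w hgens hX hw eqv heqv hK hsteps (hfin.1 rc hrc)] at h
  have h0 : D.rep 0 = [] := by
    simp only [okGens, Bool.and_eq_true, beq_iff_eq] at hgens
    exact hgens.2
  simpa [val_cons, val_nil, phi, h0, el_nil] using h.symm

end Data

/-- `u = 0` is the only vector on which each listed element acts by the listed scalar -/
def Kills (n : ℕ) [NeZero n] (V : Type*) [AddCommGroup V]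
    [DistribMulAction (alternatingGroup (Fin n)) V] (K : List (Word × ℕ)) : Prop :=
  ∀ u : V, (∀ gs ∈ K, el n gs.1 • u = gs.2 • u) → u = 0

namespace Data

variable (D : Data)

def killed : List (List (Word × ℕ)) :=
  D.Ks.map fun K => K.map fun gs => (D.gen gs.1, gs.2)

def fixedBy : List (Word × ℕ) := D.xgens.map fun gs => (D.gen gs.1, gs.2)

/-- all the checks -/
def checked (eqv : Vec → Vec → Bool) : Bool :=
  D.okGens && (List.range D.nX).all D.okX && (List.range D.nSteps).all (D.okStep eqv) &&
    D.okFin eqv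

theorem sound1 {n : ℕ} [NeZero n] {V : Type*} [AddCommGroup V]
    [DistribMulAction (alternatingGroup (Fin n)) V] (hn : D.n = n)
    (hp : ∀ u : V, D.p • u = 0) (h : D.checked D.eqv1 = true)
    (hK : ∀ K ∈ D.killed, Kills n V K) : Kills n V D.fixedBy := by
  subst hn
  simp only [checked, Bool.and_eq_true] at h
  intro w hw
  refine eq_zero D hp w h.1.1.1 h.1.1.2 ?_ D.eqv1 (eqv1_sound D hp w) ?_ ?_ h.2
  · intro gs hgs
    exact hw _ (List.mem_map_of_mem hgs)
  · intro K hKm u hu
    refine hK _ (List.mem_map_of_mem hKm) u ?_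
    intro gs hgs
    obtain ⟨gs', hgs', rfl⟩ := List.mem_map.mp hgs
    exact hu gs' hgs'
  · exact fun j hj => List.all_eq_true.mp h.1.2 j (List.mem_range.mpr hj)

theorem sound2 {n : ℕ} [NeZero n] {V : Type*} [AddCommGroup V]
    [DistribMulAction (alternatingGroup (Fin n)) V] (hn : D.n = n)
    (hp : ∀ u : V, D.p • u = 0) (h : D.checked D.eqv2 = true)
    (hK : ∀ K ∈ D.killed, Kills n V K) : Kills n V D.fixedBy := by
  subst hn
  simp only [checked, Bool.and_eq_true] at h
  intro w hw
  refine eq_zero D hp w h.1.1.1 h.1.1.2 ?_ D.eqv2 (eqv2_sound D hp w) ?_ ?_ h.2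
  · intro gs hgs
    exact hw _ (List.mem_map_of_mem hgs)
  · intro K hKm u hu
    refine hK _ (List.mem_map_of_mem hKm) u ?_
    intro gs hgs
    obtain ⟨gs', hgs', rfl⟩ := List.mem_map.mp hgs
    exact hu gs' hgs'
  · exact fun j hj => List.all_eq_true.mp h.1.2 j (List.mem_range.mpr hj)

end Data

end H63.ModCert
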