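import Cfsg.Agent.H63.ModCert.Base

/-!
Modules in which nonsolvable subgroups fix no nonzero vector: perfect subgroups given by
generators, and descent lemmas for eigen spaces of involutions and elements of order five.
-/

set_option autoImplicit false

namespace H63.ModCert

/-- No nonzero vector is fixed by a nonsolvable subgroup. -/
def NoFix (n : ℕ) (V : Type*) [AddCommGroup V]
    [DistribMulAction (alternatingGroup (Fin n)) V] : Prop :=
  ∀ L : Subgroup (alternatingGroup (Fin n)), ¬ Group.IsSolvable L →
    ∀ v : V, (∀ g ∈ L, g • v = v) → v = 0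

def prodW (K : List (Word × ℕ)) (a : List ℕ) : Word :=
  a.flatMap fun i => (K.getD i ([], 1)).1

/-- each generator is a commutator and one of them is not trivial -/
def perfectOK (n : ℕ) (K : List (Word × ℕ)) (C : List (List ℕ × List ℕ)) : Bool :=
  K.all (fun gs => okW n gs.1 && gs.2 == 1) && !eqW n (K.getD 0 ([], 1)).1 [] &&
    (List.range K.length).all fun i =>
      let g := (K.getD i ([], 1)).1
      let a := prodW K (C.getD i ([], [])).1
      let b := prodW K (C.getD i ([], [])).2
      eqW n (g ++ (b ++ a)) (a ++ b)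

section

variable {n : ℕ} [NeZero n] {V : Type*} [AddCommGroup V]
  [DistribMulAction (alternatingGroup (Fin n)) V]

theorem okW_prodW {K : List (Word × ℕ)} (h : ∀ gs ∈ K, okW n gs.1 = true) (a : List ℕ) :
    okW n (prodW K a) = true := by
  induction a with
  | nil => simp [prodW, okW]
  | cons i a ih =>
    rw [show prodW K (i :: a) = (K.getD i ([], 1)).1 ++ prodW K a from rfl]
    refine okW_append ?_ ih
    by_cases hi : i < K.length
    · rw [List.getD_eq_getElem _ _ hi]; exact h _ (List.getElem_mem hi)
    · rw [List.getD_eq_default _ _ (by omega)]; simp [okW]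

theorem el_prodW_mem {K : List (Word × ℕ)} (h : ∀ gs ∈ K, okW n gs.1 = true)
    (L : Subgroup (alternatingGroup (Fin n))) (hL : ∀ gs ∈ K, el n gs.1 ∈ L) (a : List ℕ) :
    el n (prodW K a) ∈ L := by
  induction a with
  | nil => rw [show prodW K [] = [] from rfl, el_nil]; exact one_mem L
  | cons i a ih =>
    have hw : okW n (K.getD i ([], 1)).1 = true ∧ el n (K.getD i ([], 1)).1 ∈ L := by
      by_cases hi : i < K.length
      · rw [List.getD_eq_getElem _ _ hi]
        exact ⟨h _ (List.getElem_mem hi), hL _ (List.getElem_mem hi)⟩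
      · rw [List.getD_eq_default _ _ (by omega)]
        exact ⟨by simp [okW], by rw [el_nil]; exact one_mem L⟩
    rw [show prodW K (i :: a) = (K.getD i ([], 1)).1 ++ prodW K a from rfl,
      el_append hw.1 (okW_prodW h a)]
    exact L.mul_mem hw.2 ih

/-- A generated perfect nontrivial subgroup has no fixed vector. -/
theorem kills_of_perfect {K : List (Word × ℕ)} {C : List (List ℕ × List ℕ)}
    (h : perfectOK n K C = true) (hV : NoFix n V) : Kills n V K := by
  simp only [perfectOK, Bool.and_eq_true, List.all_eq_true, beq_iff_eq, Bool.not_eq_true',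
    List.mem_range] at h
  obtain ⟨⟨hK, hne⟩, hC⟩ := h
  intro u hu
  set S : Set (alternatingGroup (Fin n)) := {g | ∃ gs ∈ K, el n gs.1 = g}
  set L := Subgroup.closure S
  have hmem : ∀ gs ∈ K, el n gs.1 ∈ L := fun gs hgs =>
    Subgroup.subset_closure ⟨gs, hgs, rfl⟩
  refine hV L ?_ u ?_
  · intro hsol
    have hcomm : L ≤ ⁅L, L⁆ := by
      refine (Subgroup.closure_le _).mpr ?_
      rintro _ ⟨gs, hgs, rfl⟩
      obtain ⟨i, hi, rfl⟩ := List.getElem_of_mem hgs
      have he := hC i hi
      rw [List.getD_eq_getElem _ _ hi] at he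
      set a := prodW K (C.getD i ([], [])).1
      set b := prodW K (C.getD i ([], [])).2
      have hok : ∀ gs ∈ K, okW n gs.1 = true := fun gs hgs => (hK gs hgs).1
      have ha : okW n a = true := okW_prodW hok _
      have hb : okW n b = true := okW_prodW hok _
      have hg := hok _ (List.getElem_mem hi)
      have h1 := el_congr (okW_append hg (okW_append hb ha)) (okW_append ha hb) he
      rw [el_append hg (okW_append hb ha), el_append hb ha, el_append ha hb] at h1
      have h2 : el n (K[i]).1 = el n a * el n b * (el n a)⁻¹ * (el n b)⁻¹ := by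
        calc el n (K[i]).1 = el n (K[i]).1 * (el n b * el n a) * (el n a)⁻¹ * (el n b)⁻¹ := by group
          _ = el n a * el n b * (el n a)⁻¹ * (el n b)⁻¹ := by rw [h1]
      show el n (K[i]).1 ∈ ⁅L, L⁆
      rw [h2]
      exact Subgroup.commutator_mem_commutator (el_prodW_mem hok L hmem _)
        (el_prodW_mem hok L hmem _)
    have hne' : L ≠ ⊥ := by
      intro hbot
      have h0 : K ≠ [] := by
        rintro rfl
        simp [eqW] at hne
      have h0' : 0 < K.length := List.length_pos_iff.mpr h0
      rw [List.getD_eq_getElem _ _ h0'] at hne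
      have h1 : el n (K[0]).1 = 1 := by
        have := hmem _ (List.getElem_mem h0')
        rwa [hbot, Subgroup.mem_bot] at this
      have hok := (hK _ (List.getElem_mem h0')).1
      have : eqW n (K[0]).1 [] = true := by
        simp only [eqW, List.all_eq_true, List.mem_range, beq_iff_eq]
        intro i hi
        have h2 := congrArg (fun g : alternatingGroup (Fin n) =>
          (((g : Equiv.Perm (Fin n)) ⟨i, hi⟩ : Fin n) : ℕ)) h1
        simp only [coe_el hok, perm_apply _
          (fun ab hab => ⟨((okW_iff.mp hok).2 ab hab).1, ((okW_iff.mp hok).2 ab hab).2.1⟩),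
          OneMemClass.coe_one, Equiv.Perm.coe_one, id] at h2
        simpa [app] using h2
      rw [this] at hne
      exact Bool.noConfusion hne
    haveI : Nontrivial L := (Subgroup.nontrivial_iff_ne_bot L).mpr hne'
    have htop : commutator L = ⊤ := by
      refine eq_top_iff.mpr fun x _ => ?_
      have hx : (x : alternatingGroup (Fin n)) ∈ (commutator L).map L.subtype := by
        rw [commutator_def, Subgroup.map_commutator, ← MonoidHom.range_eq_map, Subgroup.range_subtype]
        exact hcomm x.2
      obtain ⟨y, hy, hxy⟩ := Subgroup.mem_map.mp hx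
      rwa [← Subtype.ext hxy]
    haveI := hsol
    exact absurd htop (IsSolvable.commutator_lt_top_of_nontrivial L).ne
  · intro g hg
    have : L ≤ MulAction.stabilizer (alternatingGroup (Fin n)) u :=
      (Subgroup.closure_le _).mpr (by
        rintro _ ⟨gs, hgs, rfl⟩
        show el n gs.1 • u = u
        rw [hu gs hgs, (hK gs hgs).2, one_smul])
    exact this hg

theorem el_smul_comm {g s : Word} (hg : okW n g = true) (hs : okW n s = true)
    (h : eqW n (g ++ s) (s ++ g) = true) (v : V) : el n g • el n s • v = el n s • el n g • v := by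
  rw [← mul_smul, ← mul_smul, ← el_append hg hs, el_congr (okW_append hg hs) (okW_append hs hg) h,
    el_append hs hg]

theorem el_smul_smul_self {s : Word} (hs : okW n s = true) (h : eqW n (s ++ s) [] = true)
    (v : V) : el n s • el n s • v = v := by
  rw [← mul_smul, ← el_append hs hs, el_congr (okW_append hs hs) (by simp [okW]) h, el_nil,
    one_smul]

/-- checks for `two_descend` -/
def descendOK (n : ℕ) (K : List (Word × ℕ)) (s : Word) (E : List (List ℕ)) : Bool :=
  okW n s && eqW n (s ++ s) [] && K.all (fun gs => okW n gs.1 && gs.2 == 1) &&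
    (List.range K.length).all fun i =>
      eqW n ((K.getD i ([], 1)).1 ++ s) (s ++ prodW K (E.getD i []))

/-- In characteristic two a normalising involution may be adjoined. -/
theorem two_descend (hp : ∀ u : V, 2 • u = 0) {K : List (Word × ℕ)} {s : Word}
    {E : List (List ℕ)} (h : descendOK n K s E = true) (hks : Kills n V (K ++ [(s, 1)])) :
    Kills n V K := by
  simp only [descendOK, Bool.and_eq_true, List.all_eq_true, beq_iff_eq, List.mem_range] at h
  obtain ⟨⟨⟨hs, hss⟩, hK⟩, hE⟩ := h
  have hok : ∀ gs ∈ K, okW n gs.1 = true := fun gs hgs => (hK gs hgs).1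
  intro u hu
  have hfix : ∀ a : List ℕ, el n (prodW K a) • u = u := by
    intro a
    have := el_prodW_mem hok (MulAction.stabilizer (alternatingGroup (Fin n)) u)
      (fun gs hgs => by
        show el n gs.1 • u = u
        rw [hu gs hgs, (hK gs hgs).2, one_smul]) a
    exact this
  have hsu : ∀ gs ∈ K, el n gs.1 • el n s • u = el n s • u := by
    intro gs hgs
    obtain ⟨i, hi, rfl⟩ := List.getElem_of_mem hgs
    have he := hE i hi
    rw [List.getD_eq_getElem _ _ hi] at he
    have h1 := okW_prodW hok (E.getD i [])
    rw [← mul_smul, ← el_append (hok _ hgs) hs,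
      el_congr (okW_append (hok _ hgs) hs) (okW_append hs h1) he, el_append hs h1, mul_smul, hfix]
  have hz : u + el n s • u = 0 := by
    refine hks _ ?_
    intro gs hgs
    rcases List.mem_append.mp hgs with hgs | hgs
    · rw [smul_add, hu gs hgs, hsu gs hgs, (hK gs hgs).2, one_smul, one_smul]
    · rw [List.mem_singleton.mp hgs]
      show el n s • (u + el n s • u) = 1 • (u + el n s • u)
      rw [smul_add, el_smul_smul_self hs hss, one_smul, add_comm]
  refine hks u ?_
  intro gs hgs
  rcases List.mem_append.mp hgs with hgs | hgs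
  · exact hu gs hgs
  · rw [List.mem_singleton.mp hgs]
    show el n s • u = 1 • u
    rw [one_smul]
    have h2 : u + u = 0 := by rw [← two_nsmul]; exact hp u
    exact add_left_cancel (hz.trans h2.symm)

/-- checks for `five_descend` -/
def fiveOK (n : ℕ) (K : List (Word × ℕ)) (y u : Word) : Bool :=
  okW n y && okW n u && eqW n (y ++ y ++ y ++ y ++ y) [] && eqW n (u ++ u) [] &&
    eqW n (y ++ u ++ y) u &&
    K.all fun gs => okW n gs.1 && gs.2 == 1 && eqW n (gs.1 ++ y) (y ++ gs.1) &&
      eqW n (gs.1 ++ u) (u ++ gs.1)

/-- In characteristic five a commuting dihedral pair may be adjoined, with both signs. -/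
theorem five_descend (hp : ∀ v : V, 5 • v = 0) {K : List (Word × ℕ)} {y u : Word}
    (h : fiveOK n K y u = true) (hpos : Kills n V (K ++ [(y, 1), (u, 1)]))
    (hneg : Kills n V (K ++ [(y, 1), (u, 4)])) : Kills n V K := by
  simp only [fiveOK, Bool.and_eq_true, List.all_eq_true, beq_iff_eq] at h
  obtain ⟨⟨⟨⟨⟨hy, hu⟩, hy5⟩, huu⟩, hyu⟩, hK⟩ := h
  set F : V → Prop := fun w => ∀ gs ∈ K, el n gs.1 • w = gs.2 • w
  have hFy : ∀ w, F w → F (el n y • w) := fun w hw gs hgs => by
    obtain ⟨⟨⟨h1, h2⟩, h3⟩, _⟩ := hK gs hgs
    rw [el_smul_comm h1 hy h3, hw gs hgs, h2, one_smul, one_smul]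
  have hFu : ∀ w, F w → F (el n u • w) := fun w hw gs hgs => by
    obtain ⟨⟨⟨h1, h2⟩, _⟩, h4⟩ := hK gs hgs
    rw [el_smul_comm h1 hu h4, hw gs hgs, h2, one_smul, one_smul]
  have hFadd : ∀ w x, F w → F x → F (w + x) := fun w x hw hx gs hgs => by
    rw [smul_add, hw gs hgs, hx gs hgs, smul_add]
  have hFneg : ∀ w, F w → F (-w) := fun w hw gs hgs => by
    rw [smul_neg, hw gs hgs, smul_neg]
  -- vectors fixed by `y` vanish
  have key : ∀ w, F w → el n y • w = w → w = 0 := by
    intro w hw hyw
    have hyuw : el n y • el n u • w = el n u • w := by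
      have e1 := el_congr (okW_append (okW_append hy hu) hy) hu hyu
      rw [el_append (okW_append hy hu) hy, el_append hy hu] at e1
      calc el n y • el n u • w = el n y • el n u • el n y • w := by rw [hyw]
        _ = el n u • w := by rw [← mul_smul, ← mul_smul, e1]
    set x := el n u • w with hx
    have hux : el n u • x = w := el_smul_smul_self hu huu w
    have ha : w + x = 0 := by
      refine hpos _ ?_
      intro gs hgs
      rcases List.mem_append.mp hgs with hgs | hgs
      · exact hFadd w x hw (hFu w hw) gs hgs
      · rcases List.mem_cons.mp hgs with rfl | hgs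
        · show el n y • (w + x) = 1 • (w + x)
          rw [smul_add, hyw, hyuw, one_smul]
        · rw [List.mem_singleton.mp hgs]
          show el n u • (w + x) = 1 • (w + x)
          rw [smul_add, hux, ← hx, one_smul, add_comm]
    have hb : w + -x = 0 := by
      refine hneg _ ?_
      intro gs hgs
      rcases List.mem_append.mp hgs with hgs | hgs
      · exact hFadd w _ hw (hFneg _ (hFu w hw)) gs hgs
      · rcases List.mem_cons.mp hgs with rfl | hgs
        · show el n y • (w + -x) = 1 • (w + -x)
          rw [smul_add, smul_neg, hyw, hyuw, one_smul]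
        · rw [List.mem_singleton.mp hgs]
          show el n u • (w + -x) = 4 • (w + -x)
          rw [smul_add, smul_neg, hux, ← hx]
          have h4 : ∀ z : V, 4 • z = -z := fun z => by
            rw [eq_neg_iff_add_eq_zero]
            calc 4 • z + z = 5 • z := by abel
              _ = 0 := hp z
          rw [h4]; abel
    have h2 : 2 • w = 0 := by
      calc 2 • w = (w + x) + (w + -x) := by abel
        _ = 0 := by rw [ha, hb, add_zero]
    calc w = 3 • (2 • w) - 5 • w := by abel
      _ = 0 := by rw [h2, hp, smul_zero, sub_zero]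
  intro w hw
  set f : V → V := fun v => el n y • v + -v with hf
  have hFf : ∀ v, F v → F (f v) := fun v hv => hFadd _ _ (hFy v hv) (hFneg v hv)
  have step : ∀ v, F v → f v = 0 → v = 0 := fun v hv h0 =>
    key v hv (eq_of_sub_eq_zero ((sub_eq_add_neg _ _).trans h0))
  have h5 : f (f (f (f (f w)))) = 0 := by
    have e5 : el n y • el n y • el n y • el n y • el n y • w = w := by
      have e := el_congr (okW_append (okW_append (okW_append (okW_append hy hy) hy) hy) hy)
        (by simp [okW]) hy5
      rw [el_append (okW_append (okW_append (okW_append hy hy) hy) hy) hy,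
        el_append (okW_append (okW_append hy hy) hy) hy, el_append (okW_append hy hy) hy,
        el_append hy hy, el_nil] at e
      simp only [← mul_smul, ← mul_assoc]
      rw [e, one_smul]
    simp only [hf, smul_add, smul_neg]
    rw [e5]
    set a := el n y • w
    set b := el n y • a
    set c := el n y • b
    set d := el n y • c
    calc _ = 5 • (2 • c - 2 • b + a - d) := by abel
      _ = 0 := hp _
  exact step _ hw (step _ (hFf _ hw) (step _ (hFf _ (hFf _ hw))
    (step _ (hFf _ (hFf _ (hFf _ hw))) (step _ (hFf _ (hFf _ (hFf _ (hFf _ hw)))) h5))))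

/-- If conjugates of `K` are listed by `K'`, eigen spaces of `K'` vanish too. -/
theorem kills_conj {K K' : List (Word × ℕ)} {g : Word} (hg : okW n g = true)
    (h : K.all (fun gs => okW n gs.1) = true) (hlen : K'.length = K.length)
    (he : ((List.range K.length).all fun i =>
      okW n (K'.getD i ([], 1)).1 && (K'.getD i ([], 1)).2 == (K.getD i ([], 1)).2 &&
        eqW n (g ++ (K.getD i ([], 1)).1) ((K'.getD i ([], 1)).1 ++ g)) = true)
    (hks : Kills n V K) : Kills n V K' := by
  simp only [List.all_eq_true, Bool.and_eq_true, beq_iff_eq, List.mem_range] at he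
  simp only [List.all_eq_true] at h
  intro u hu
  have h0 : (el n g)⁻¹ • u = 0 := by
    refine hks _ ?_
    intro gs hgs
    obtain ⟨i, hi, rfl⟩ := List.getElem_of_mem hgs
    obtain ⟨⟨h1, h2⟩, h3⟩ := he i hi
    rw [List.getD_eq_getElem _ _ hi, List.getD_eq_getElem _ _ (hlen ▸ hi)] at h2 h3
    rw [List.getD_eq_getElem _ _ (hlen ▸ hi)] at h1
    have h4 := hu _ (List.getElem_mem (hlen ▸ hi : i < K'.length))
    have e := el_congr (okW_append hg (h _ hgs)) (okW_append h1 hg) h3
    rw [el_append hg (h _ hgs), el_append h1 hg] at e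
    rw [← h2, ← smul_comm (el n g)⁻¹ (K'[i]).2 u, ← h4, ← mul_smul, ← mul_smul]
    congr 1
    rw [eq_inv_mul_iff_mul_eq, ← mul_assoc, e, mul_inv_cancel_right]
  simpa using congrArg (el n g • ·) h0

end

end H63.ModCert

namespace H63.ModCert

variable {n : ℕ} [NeZero n] {V : Type*} [AddCommGroup V]
  [DistribMulAction (alternatingGroup (Fin n)) V]

/-- Fixed vectors of `K'` are fixed by `K` when the generators of `K` are products of those
of `K'`. -/
theorem kills_of_le {K K' : List (Word × ℕ)} (E : List (List ℕ))
    (hK' : K'.all (fun gs => okW n gs.1 && gs.2 == 1) = true)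
    (hK : ((List.range K.length).all fun i =>
      okW n (K.getD i ([], 1)).1 && (K.getD i ([], 1)).2 == 1 &&
        eqW n (K.getD i ([], 1)).1 (prodW K' (E.getD i []))) = true)
    (hks : Kills n V K) : Kills n V K' := by
  simp only [List.all_eq_true, Bool.and_eq_true, beq_iff_eq, List.mem_range] at hK hK'
  intro u hu
  refine hks u ?_
  intro gs hgs
  obtain ⟨i, hi, rfl⟩ := List.getElem_of_mem hgs
  obtain ⟨⟨h1, h2⟩, h3⟩ := hK i hi
  rw [List.getD_eq_getElem _ _ hi] at h1 h2 h3
  have hok : ∀ gs ∈ K', okW n gs.1 = true := fun gs hgs => (hK' gs hgs).1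
  rw [el_congr h1 (okW_prodW hok _) h3, h2, one_smul]
  exact el_prodW_mem hok (MulAction.stabilizer (alternatingGroup (Fin n)) u)
    (fun gs hgs => by
      show el n gs.1 • u = u
      rw [hu gs hgs, (hK' gs hgs).2, one_smul]) _

end H63.ModCert
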