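import Cfsg.Agent.H63.ModCert.Base

/-! Lists of elements used by the certificates (computed offline). -/

namespace H63.ModCert.Words

/-- 2 elements of A_10 with scalars -/
def a5A5 : List (Word × ℕ) :=
  [([(0, 1), (1, 2)], 1), ([(2, 3), (3, 8)], 1)]

/-- 2 elements of A_10 with scalars -/
def a5B5 : List (Word × ℕ) :=
  [([(4, 5), (5, 6)], 1), ([(6, 7), (7, 9)], 1)]

/-- 2 elements of A_10 with scalars -/
def a5D : List (Word × ℕ) :=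
  [([(0, 1), (1, 2), (4, 5), (5, 6)], 1), ([(2, 3), (3, 8), (6, 7), (7, 9)], 1)]

/-- 2 elements of A_10 with scalars -/
def a5Dodd : List (Word × ℕ) :=
  [([(0, 1), (1, 2), (4, 6), (6, 5)], 1), ([(2, 3), (3, 8), (6, 7), (7, 9)], 1)]

/-- 2 elements of A_10 with scalars -/
def a5Pt : List (Word × ℕ) :=
  [([(4, 5), (5, 6)], 1), ([(6, 7), (7, 8)], 1)]

/-- 2 elements of A_10 with scalars -/
def a5Six : List (Word × ℕ) :=
  [([(4, 5), (5, 6), (6, 7), (7, 8)], 1), ([(4, 9), (5, 8)], 1)]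

/-- 2 elements of A_10 with scalars -/
def qA5 : List (Word × ℕ) :=
  [([(0, 1), (1, 2)], 1), ([(0, 1), (2, 3)], 1)]

/-- 2 elements of A_10 with scalars -/
def qB5 : List (Word × ℕ) :=
  [([(4, 5), (5, 6)], 1), ([(5, 6), (6, 7)], 1)]

/-- 4 elements of A_10 with scalars -/
def eigA4Neg : List (Word × ℕ) :=
  [([(0, 1), (1, 2)], 1), ([(0, 1), (2, 3)], 1), ([(4, 5), (5, 6), (6, 7), (7, 9)], 1), ([(5, 9), (6, 7)], 4)]

/-- 4 elements of A_10 with scalars -/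
def eigA4Pos : List (Word × ℕ) :=
  [([(0, 1), (1, 2)], 1), ([(0, 1), (2, 3)], 1), ([(4, 5), (5, 6), (6, 7), (7, 9)], 1), ([(5, 9), (6, 7)], 1)]

/-- 4 elements of A_10 with scalars -/
def eigV4Pos : List (Word × ℕ) :=
  [([(0, 1), (2, 3)], 1), ([(0, 2), (1, 3)], 1), ([(4, 5), (5, 6), (6, 7), (7, 9)], 1), ([(5, 9), (6, 7)], 1)]

/-- 4 elements of A_10 with scalars -/
def eigV4Neg : List (Word × ℕ) :=
  [([(0, 1), (2, 3)], 1), ([(0, 2), (1, 3)], 1), ([(4, 5), (5, 6), (6, 7), (7, 9)], 1), ([(5, 9), (6, 7)], 4)]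

/-- 2 elements of A_9 with scalars -/
def a5Pt9 : List (Word × ℕ) :=
  [([(0, 1), (1, 2)], 1), ([(2, 3), (3, 4)], 1)]

/-- 2 elements of A_9 with scalars -/
def a5Six9 : List (Word × ℕ) :=
  [([(0, 1), (1, 2), (2, 3), (3, 4)], 1), ([(0, 5), (1, 4)], 1)]

/-- 2 elements of A_9 with scalars -/
def l7 : List (Word × ℕ) :=
  [([(0, 1), (1, 2), (2, 3), (3, 4), (4, 5), (5, 6)], 1), ([(1, 2), (3, 6)], 1)]

/-- 2 elements of A_9 with scalars -/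
def l7odd : List (Word × ℕ) :=
  [([(0, 2), (2, 3), (3, 4), (4, 5), (5, 6), (6, 1)], 1), ([(0, 2), (3, 6)], 1)]

/-- 2 elements of A_9 with scalars -/
def l8 : List (Word × ℕ) :=
  [([(0, 1), (1, 2), (2, 3), (3, 4), (4, 5), (5, 6)], 1), ([(0, 7), (1, 6), (2, 3), (4, 5)], 1)]

/-- 2 elements of A_9 with scalars -/
def l8odd : List (Word × ℕ) :=
  [([(0, 2), (2, 3), (3, 4), (4, 5), (5, 6), (6, 1)], 1), ([(0, 6), (1, 7), (2, 3), (4, 5)], 1)]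

/-- 3 elements of A_9 with scalars -/
def l28 : List (Word × ℕ) :=
  [([(1, 2), (2, 4), (4, 3), (3, 6), (6, 7), (7, 5)], 1), ([(0, 1), (2, 3), (4, 5), (6, 7)], 1), ([(0, 8), (2, 5), (3, 6), (4, 7)], 1)]

/-- 3 elements of A_9 with scalars -/
def l28odd : List (Word × ℕ) :=
  [([(0, 2), (2, 4), (4, 3), (3, 6), (6, 7), (7, 5)], 1), ([(0, 1), (2, 3), (4, 5), (6, 7)], 1), ([(1, 8), (2, 5), (3, 6), (4, 7)], 1)]

/-- 2 elements of A_9 with scalars -/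
def qA4 : List (Word × ℕ) :=
  [([(0, 1), (1, 2)], 1), ([(1, 2), (2, 3)], 1)]

/-- 4 elements of A_9 with scalars -/
def qC32 : List (Word × ℕ) :=
  [([(0, 1), (1, 2)], 1), ([(1, 2), (2, 3)], 1), ([(4, 5), (5, 6)], 1), ([(0, 1), (4, 5)], 1)]

/-- 3 elements of A_9 with scalars -/
def qC3 : List (Word × ℕ) :=
  [([(0, 1), (1, 2)], 1), ([(1, 2), (2, 3)], 1), ([(4, 5), (5, 6)], 1)]

/-- 3 elements of A_9 with scalars -/
def qS4 : List (Word × ℕ) :=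
  [([(0, 1), (1, 2)], 1), ([(1, 2), (2, 3)], 1), ([(0, 1), (4, 5)], 1)]

/-- 7 elements of A_9 with scalars -/
def stabQ : List (Word × ℕ) :=
  [([(0, 1), (2, 3)], 1), ([(0, 2), (1, 3)], 1), ([(4, 5), (6, 7)], 1), ([(4, 6), (5, 7)], 1), ([(0, 1), (4, 5)], 1), ([(0, 4), (1, 5), (2, 6), (3, 7)], 1), ([(5, 6), (6, 7)], 1)]

/-- 7 elements of A_9 with scalars -/
def stabM : List (Word × ℕ) :=
  [([(0, 1), (2, 3)], 1), ([(0, 2), (1, 3)], 1), ([(4, 5), (6, 7)], 1), ([(4, 6), (5, 7)], 1), ([(0, 1), (4, 5)], 1), ([(0, 4), (1, 5), (2, 6), (3, 7)], 1), ([(2, 4), (3, 5)], 1)]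

/-- 7 elements of A_9 with scalars -/
def stabE : List (Word × ℕ) :=
  [([(0, 1), (2, 3)], 1), ([(0, 2), (1, 3)], 1), ([(4, 5), (6, 7)], 1), ([(4, 6), (5, 7)], 1), ([(0, 1), (4, 5)], 1), ([(0, 4), (1, 5), (2, 6), (3, 7)], 1), ([(1, 2), (5, 6)], 1)]

/-- 7 elements of A_9 with scalars -/
def stabF : List (Word × ℕ) :=
  [([(0, 1), (2, 3)], 1), ([(0, 2), (1, 3)], 1), ([(4, 5), (6, 7)], 1), ([(4, 6), (5, 7)], 1), ([(0, 1), (4, 5)], 1), ([(0, 4), (1, 5), (2, 6), (3, 7)], 1), ([(1, 2), (5, 7)], 1)]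

/-- 6 elements of A_9 with scalars -/
def sylowGens : List (Word × ℕ) :=
  [([(0, 1), (2, 3)], 1), ([(0, 2), (1, 3)], 1), ([(4, 5), (6, 7)], 1), ([(4, 6), (5, 7)], 1), ([(0, 1), (4, 5)], 1), ([(0, 4), (1, 5), (2, 6), (3, 7)], 1)]

/-- each generator of `a5A5` as a commutator -/
def a5A5Comm : List (List ℕ × List ℕ) :=
  [([0, 0], [1, 0, 1, 1, 0, 0, 1]), ([1, 1], [0, 1, 1, 0, 0, 1, 0])]

/-- each generator of `a5B5` as a commutator -/
def a5B5Comm : List (List ℕ × List ℕ) :=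
  [([0, 0], [1, 0, 1, 1, 0, 0, 1]), ([1, 1], [0, 1, 1, 0, 0, 1, 0])]

/-- each generator of `a5D` as a commutator -/
def a5DComm : List (List ℕ × List ℕ) :=
  [([0, 0], [1, 0, 1, 1, 0, 0, 1]), ([1, 1], [0, 1, 1, 0, 0, 1, 0])]

/-- each generator of `a5Dodd` as a commutator -/
def a5DoddComm : List (List ℕ × List ℕ) :=
  [([0, 0], [1, 0, 1, 1, 0, 0, 1]), ([1, 1], [0, 1, 1, 0, 0, 1, 0])]

/-- each generator of `a5Pt` as a commutator -/
def a5PtComm : List (List ℕ × List ℕ) :=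
  [([0, 0], [1, 0, 1, 1, 0, 0, 1]), ([1, 1], [0, 1, 1, 0, 0, 1, 0])]

/-- each generator of `a5Six` as a commutator -/
def a5SixComm : List (List ℕ × List ℕ) :=
  [([0, 0, 0], [1, 0, 0, 1, 0, 0, 0, 1]), ([0, 1, 0, 0, 0], [1, 0, 0, 0, 1, 0])]

/-- each generator of `a5Pt9` as a commutator -/
def a5Pt9Comm : List (List ℕ × List ℕ) :=
  [([0, 0], [1, 0, 1, 1, 0, 0, 1]), ([1, 1], [0, 1, 1, 0, 0, 1, 0])]

/-- each generator of `a5Six9` as a commutator -/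
def a5Six9Comm : List (List ℕ × List ℕ) :=
  [([0, 0, 0], [1, 0, 0, 1, 0, 0, 0, 1]), ([0, 1, 0, 0, 0], [1, 0, 0, 0, 1, 0])]

/-- each generator of `l7` as a commutator -/
def l7Comm : List (List ℕ × List ℕ) :=
  [([0, 0], [1, 0, 0, 0, 0, 1, 0, 0, 1]), ([0, 0, 1, 0, 0, 0, 0], [0, 1, 0, 0, 0, 1, 0, 0])]

/-- each generator of `l7odd` as a commutator -/
def l7oddComm : List (List ℕ × List ℕ) :=
  [([0, 0], [1, 0, 0, 0, 0, 1, 0, 0, 1]), ([0, 0, 1, 0, 0, 0, 0], [0, 1, 0, 0, 0, 1, 0, 0])]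

/-- each generator of `l8` as a commutator -/
def l8Comm : List (List ℕ × List ℕ) :=
  [([0, 0], [1, 0, 0, 0, 0, 1, 0, 0, 1]), ([0, 0, 1, 0, 0, 0, 0], [0, 1, 0, 0, 0, 1, 0, 0])]

/-- each generator of `l8odd` as a commutator -/
def l8oddComm : List (List ℕ × List ℕ) :=
  [([0, 0], [1, 0, 0, 0, 0, 1, 0, 0, 1]), ([0, 0, 1, 0, 0, 0, 0], [0, 1, 0, 0, 0, 1, 0, 0])]

/-- each generator of `l28` as a commutator -/
def l28Comm : List (List ℕ × List ℕ) :=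
  [([2], [0, 0, 0]), ([0], [0, 1, 0, 1]), ([1, 0, 1], [1, 0, 0, 1, 2])]

/-- each generator of `l28odd` as a commutator -/
def l28oddComm : List (List ℕ × List ℕ) :=
  [([2], [0, 0, 0]), ([0], [0, 1, 0, 1]), ([1, 0, 1], [1, 0, 0, 1, 2])]

end H63.ModCert.Words
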